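import Groth.Agent.AdicRingLib.Saturated
import Groth.Agent.AdicNoeth.Basic

/-! Coherence of topologically finitely presented algebras over base rings of class (N) or (V). -/

set_option autoImplicit false

universe u v w

namespace Groth.Agent.AdicRingLib

open Ideal IsLocalRing

section TorsionFree

variable {R : Type u} [CommRing R] [IsDomain R] {t : R} {n : ℕ}

/-- Restricted power series have no torsion. -/
theorem noTorsion_compl (ht : t ≠ 0) (x : Compl (Ideal.span {t}) (MvPolynomial (Fin n) R))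
    (hx : algebraMap R _ t * x = 0) : x = 0 := by
  have hI : (Ideal.span {t}).FG := Submodule.fg_span_singleton t
  let A := Compl (Ideal.span {t}) (MvPolynomial (Fin n) R)
  have := isAdicComplete_compl (P := MvPolynomial (Fin n) R) hI
  refine IsHausdorff.haus (I := (Ideal.span {t}).map (algebraMap R A)) inferInstance x fun k ↦ ?_
  rw [SModEq.zero, smul_eq_mul, Ideal.mul_top]
  obtain ⟨φ, hφ, -, -, -⟩ := exists_red (t := t) (n := n) (Ideal.span {t ^ (k + 1)}) (K := k + 1)
    (Ideal.mem_span_singleton_self _)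
  obtain ⟨p, hp⟩ := exists_sub_mem_pow (P := MvPolynomial (Fin n) R) hI x (k + 1)
  obtain ⟨w, hw⟩ := mem_map_span_pow.mp hp
  rw [sub_eq_iff_eq_add] at hw
  have h := congrArg φ hx
  have hp' : algebraMap (MvPolynomial (Fin n) R) A p ∈ (Ideal.span {t}).map (algebraMap R A) ^ k := by
    have hC : MvPolynomial.C (t ^ k) ∣ p := (MvPolynomial.C_dvd_iff_dvd_coeff _ _).mpr fun i ↦ by
      rw [hw, map_mul, map_add, map_mul, AlgHom.commutes, AlgHom.commutes, hφ, map_zero,
        show algebraMap R (MvPolynomial (Fin n) (R ⧸ Ideal.span {t ^ (k + 1)})) (t ^ (k + 1)) = 0 by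
          change MvPolynomial.C (Ideal.Quotient.mk _ (t ^ (k + 1))) = 0
          rw [Ideal.Quotient.eq_zero_iff_mem.mpr (Ideal.mem_span_singleton_self _), map_zero],
        zero_mul, zero_add] at h
      have h' := congrArg (MvPolynomial.coeff i) h
      change (MvPolynomial.C (Ideal.Quotient.mk _ t) *
        MvPolynomial.map (Ideal.Quotient.mk (Ideal.span {t ^ (k + 1)})) p).coeff i = _ at h'
      rw [MvPolynomial.coeff_C_mul, MvPolynomial.coeff_map, MvPolynomial.coeff_zero, ← map_mul,
        Ideal.Quotient.eq_zero_iff_mem, Ideal.mem_span_singleton, pow_succ'] at h'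
      exact (mul_dvd_mul_iff_left ht).mp h'
    obtain ⟨q, rfl⟩ := hC
    refine mem_map_span_pow.mpr ⟨algebraMap (MvPolynomial (Fin n) R) A q, ?_⟩
    rw [map_mul, ← MvPolynomial.algebraMap_eq, ← IsScalarTower.algebraMap_apply]
  have := Ideal.add_mem _ (Ideal.pow_le_pow_right (Nat.le_succ k) hp) hp'
  rwa [sub_add_cancel] at this

end TorsionFree

section SaturatedModules

variable {R : Type u} [CommRing R] [IsDomain R] [ValuationRing R] [Ring.KrullDimLE 1 R] {t : R}
  (ht : t ≠ 0) [IsAdicComplete (Ideal.span {t}) R] {n : ℕ}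

include ht in
set_option maxHeartbeats 800000 in
theorem fg_of_saturated_pi {s : ℕ}
    (N : Submodule (Compl (Ideal.span {t}) (MvPolynomial (Fin n) R))
      (Fin s → Compl (Ideal.span {t}) (MvPolynomial (Fin n) R)))
    (hsat : ∀ x, algebraMap R (Compl (Ideal.span {t}) (MvPolynomial (Fin n) R)) t • x ∈ N → x ∈ N) :
    N.FG := by
  classical
  have hI : (Ideal.span {t}).FG := Submodule.fg_span_singleton t
  let A := Compl (Ideal.span {t}) (MvPolynomial (Fin n) R)
  have hA := isAdicComplete_compl (P := MvPolynomial (Fin n) R) hI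
  let e : (A × (Fin s → A)) ≃ₗ[A] (TrivSqZeroExt A (Fin s → A)) :=
    { toFun := id, invFun := id, map_add' := fun _ _ ↦ rfl, map_smul' := fun _ _ ↦ rfl,
      left_inv := fun _ ↦ rfl, right_inv := fun _ ↦ rfl }
  have : Module.Free A (TrivSqZeroExt A (Fin s → A)) := Module.Free.of_equiv e
  have : Module.Finite A (TrivSqZeroExt A (Fin s → A)) := Module.Finite.equiv e
  have : IsScalarTower R A (TrivSqZeroExt A (Fin s → A)) := .of_algebraMap_eq fun r ↦ rfl
  have hT : IsAdicComplete ((Ideal.span {t}).map (algebraMap R (TrivSqZeroExt A (Fin s → A)))) (TrivSqZeroExt A (Fin s → A)) := by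
    have := isAdicComplete_map_of_finite_free (I := (Ideal.span {t}).map (algebraMap R A)) (TrivSqZeroExt A (Fin s → A))
    rwa [Ideal.map_map, ← IsScalarTower.algebraMap_eq] at this
  let P' := MvPolynomial (Fin n ⊕ Fin s) R
  let v : Fin n ⊕ Fin s → (TrivSqZeroExt A (Fin s → A)) :=
    Sum.elim (fun i ↦ TrivSqZeroExt.inl (algebraMap (MvPolynomial (Fin n) R) A (MvPolynomial.X i)))
      (fun j ↦ TrivSqZeroExt.inr (Pi.single j 1))
  let fn := finSumFinEquiv (m := n) (n := s)
  let A' := Compl (Ideal.span {t}) (MvPolynomial (Fin (n + s)) R)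
  let Ψ : A' →ₐ[R] (TrivSqZeroExt A (Fin s → A)) := complLift (MvPolynomial.aeval (v ∘ fn.symm))
  have hA' := isAdicComplete_compl (P := MvPolynomial (Fin (n + s)) R) hI
  let ι : A →ₐ[R] A' := complLift ((IsScalarTower.toAlgHom R _ A').comp
    (MvPolynomial.rename (fn ∘ Sum.inl)))
  have hΨι : ∀ a, Ψ (ι a) = TrivSqZeroExt.inl a := by
    intro a
    have : Ψ.comp ι = (TrivSqZeroExt.inlAlgHom R A (Fin s → A)) := by
      refine algHom_ext_compl hI fun p ↦ ?_
      simp only [AlgHom.comp_apply, ι, Ψ, complLift_of, IsScalarTower.toAlgHom_apply]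
      refine (complLift_of _ _).trans ?_
      rw [MvPolynomial.aeval_rename]
      exact congrArg (fun F : MvPolynomial (Fin n) R →ₐ[R] (TrivSqZeroExt A (Fin s → A)) ↦ F p)
        (show MvPolynomial.aeval ((v ∘ fn.symm) ∘ fn ∘ Sum.inl) =
            (TrivSqZeroExt.inlAlgHom R A (Fin s → A)).comp (IsScalarTower.toAlgHom R _ A) from
          MvPolynomial.algHom_ext fun i ↦ by simp [v]; rfl)
    exact congrArg (fun F : A →ₐ[R] (TrivSqZeroExt A (Fin s → A)) ↦ F a) this
  have hΨe : ∀ j, Ψ (algebraMap (MvPolynomial (Fin (n + s)) R) A' (MvPolynomial.X (fn (Sum.inr j)))) = TrivSqZeroExt.inr (Pi.single j (1 : A)) := by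
    intro j
    refine (complLift_of _ _).trans ?_
    simp [v]
  have hsurj : ∀ y : Fin s → A, ∃ x, Ψ x = TrivSqZeroExt.inr y := by
    intro y
    refine ⟨∑ j, ι (y j) * algebraMap (MvPolynomial (Fin (n + s)) R) A' (MvPolynomial.X (fn (Sum.inr j))), ?_⟩
    simp only [map_sum, map_mul, hΨι, hΨe]
    rw [Finset.sum_congr rfl (g := fun j ↦ (TrivSqZeroExt.inr (y j • Pi.single j (1 : A)) : TrivSqZeroExt A (Fin s → A)))
      (fun j _ ↦ TrivSqZeroExt.inl_mul_inr _ _), ← TrivSqZeroExt.inr_sum]
    congr 1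
    exact (pi_eq_sum_univ' y).symm
  let W : Ideal (TrivSqZeroExt A (Fin s → A)) :=
    { carrier := {z | z.fst = 0 ∧ z.snd ∈ N}
      add_mem' := fun ha hb ↦ ⟨by simp [ha.1, hb.1], by simpa using N.add_mem ha.2 hb.2⟩
      zero_mem' := ⟨by simp, by simp⟩
      smul_mem' := fun c z hz ↦ ⟨by simp [hz.1], by
        simpa [hz.1] using N.smul_mem c.fst hz.2⟩ }
  let N' := W.comap Ψ.toRingHom
  have hN' : ∀ x, algebraMap R A' t * x ∈ N' → x ∈ N' := by
    intro x hx
    have h1 : algebraMap R (TrivSqZeroExt A (Fin s → A)) t * Ψ x ∈ W := by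
      have : Ψ (algebraMap R A' t * x) ∈ W := hx
      rwa [map_mul, AlgHom.commutes] at this
    have hf : (algebraMap R (TrivSqZeroExt A (Fin s → A)) t).fst = algebraMap R A t := rfl
    have hs : (algebraMap R (TrivSqZeroExt A (Fin s → A)) t).snd = 0 := rfl
    obtain ⟨h2, h3⟩ := h1
    rw [TrivSqZeroExt.fst_mul, hf] at h2
    have hfx : (Ψ x).fst = 0 := noTorsion_compl ht _ h2
    refine ⟨hfx, hsat _ ?_⟩
    simpa [TrivSqZeroExt.snd_mul, hf, hs, hfx] using h3
  obtain ⟨G, hG⟩ := fg_of_saturated ht N' hN'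
  refine ⟨G.image fun g ↦ (Ψ g).snd, le_antisymm (Submodule.span_le.mpr ?_) fun y hy ↦ ?_⟩
  · intro z hz
    simp only [Finset.coe_image, Set.mem_image] at hz
    obtain ⟨g, hg, rfl⟩ := hz
    have : g ∈ N' := hG ▸ Submodule.subset_span hg
    exact this.2
  · obtain ⟨x, hx⟩ := hsurj y
    have hxN : x ∈ N' := by
      change Ψ x ∈ W
      rw [hx]
      exact ⟨rfl, hy⟩
    rw [← hG] at hxN
    have key : (Ψ x).fst = 0 ∧ (Ψ x).snd ∈ Submodule.span A ↑(G.image fun g ↦ (Ψ g).snd) := by
      clear hx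
      induction hxN using Submodule.span_induction with
      | mem g hg =>
        have : g ∈ N' := hG ▸ Submodule.subset_span hg
        exact ⟨this.1, Submodule.subset_span (Finset.mem_coe.mpr (Finset.mem_image_of_mem _ hg))⟩
      | zero => rw [map_zero]; exact ⟨rfl, zero_mem _⟩
      | add a b _ _ iha ihb =>
        rw [map_add, TrivSqZeroExt.fst_add, TrivSqZeroExt.snd_add, iha.1, ihb.1]
        exact ⟨add_zero 0, add_mem iha.2 ihb.2⟩
      | smul c a _ ih =>
        rw [smul_eq_mul, map_mul, TrivSqZeroExt.fst_mul, TrivSqZeroExt.snd_mul, ih.1, mul_zero,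
          MulOpposite.op_zero, zero_smul, add_zero]
        exact ⟨rfl, Submodule.smul_mem (Submodule.span A _) (Ψ c).fst ih.2⟩
    have h2 := key.2
    rw [hx] at h2
    exact h2

end SaturatedModules

section General

variable {R : Type u} [CommRing R] {I : Ideal R}

/-- Saturation with respect to an ideal. -/
def IsSat (I : Ideal R) {A : Type v} [CommRing A] [Algebra R A] {M : Type w} [AddCommGroup M] [Module A M]
    (N : Submodule A M) : Prop :=
  ∀ (x : M) (m : ℕ), (∀ a ∈ I ^ m, algebraMap R A a • x ∈ N) → x ∈ N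

theorem isNoetherianRing_compl [IsNoetherianRing R] (n : ℕ) :
    IsNoetherianRing (Compl I (MvPolynomial (Fin n) R)) :=
  AdicNoeth.isNoetherianRing_adicCompletion _

theorem isNoetherianRing_topFiniteType [IsNoetherianRing R] {A : Type u} [CommRing A] [Algebra R A]
    (hA : AdicRing.TopFiniteType R I A) : IsNoetherianRing A := by
  obtain ⟨n, φ, hφ⟩ := topFiniteType_exists_compl hA
  have := isNoetherianRing_compl (I := I) (R := R) n
  exact isNoetherianRing_of_surjective _ _ φ.toRingHom hφ

theorem fg_of_isSat_pi (hR : AdicRing.IsBase R I) {n s : ℕ}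
    (N : Submodule (Compl I (MvPolynomial (Fin n) R)) (Fin s → Compl I (MvPolynomial (Fin n) R)))
    (hN : IsSat I N) : N.FG := by
  obtain ⟨hc, ⟨hNoeth, -⟩ | ⟨hdom, hpre, hdim, t, ht, rfl⟩⟩ := hR
  · have := isNoetherianRing_compl (I := I) (R := R) n
    exact IsNoetherian.noetherian N
  · have : ValuationRing R := { }
    refine fg_of_saturated_pi ht N fun x hx ↦ hN x 1 fun a ha ↦ ?_
    rw [pow_one, Ideal.mem_span_singleton] at ha
    obtain ⟨b, rfl⟩ := ha
    rw [map_mul, mul_comm, mul_smul]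
    exact N.smul_mem _ hx

theorem fg_of_isSat (hR : AdicRing.IsBase R I) {A : Type u} [CommRing A] [Algebra R A]
    (hA : AdicRing.TopFiniteType R I A) {M : Type v} [AddCommGroup M] [Module A M] [Module.Finite A M]
    (N : Submodule A M) (hN : IsSat I N) : N.FG := by
  classical
  obtain ⟨n, φ, hφ⟩ := topFiniteType_exists_compl hA
  let A₀ := Compl I (MvPolynomial (Fin n) R)
  let : Algebra A₀ A := φ.toRingHom.toAlgebra
  let : Module A₀ M := Module.compHom M φ.toRingHom
  have : IsScalarTower A₀ A M := ⟨fun a b m ↦ by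
    change (φ a * b) • m = φ a • b • m
    rw [mul_smul]⟩
  obtain ⟨s, F, hF⟩ := Module.Finite.exists_fin' A M
  let F₀ : (Fin s → A₀) →ₗ[A₀] M :=
    (F.restrictScalars A₀).comp (LinearMap.compLeft (Algebra.linearMap A₀ A) (Fin s))
  have hF₀ : Function.Surjective F₀ := fun m ↦ by
    obtain ⟨v, rfl⟩ := hF m
    choose w hw using fun j ↦ hφ (v j)
    exact ⟨w, congrArg F (funext hw)⟩
  have hsat : IsSat I ((N.restrictScalars A₀).comap F₀) := fun x m hx ↦ hN _ m fun a ha ↦ by
    have h := hx a ha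
    rw [Submodule.mem_comap, map_smul, Submodule.restrictScalars_mem] at h
    rw [← φ.commutes a]
    exact h
  have h1 := (fg_of_isSat_pi hR _ hsat).map F₀
  rw [Submodule.map_comap_eq_of_surjective hF₀] at h1
  obtain ⟨S, hS⟩ := h1
  refine ⟨S, le_antisymm (Submodule.span_le.mpr fun x hx ↦ ?_) fun x hx ↦ ?_⟩
  · have : x ∈ N.restrictScalars A₀ := hS ▸ Submodule.subset_span hx
    exact this
  · have hx' : x ∈ Submodule.span A₀ (S : Set M) := by rw [hS]; exact hx
    exact Submodule.span_le_restrictScalars A₀ A (S : Set M) hx'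

theorem ker_fg_of_noPowTorsion (hR : AdicRing.IsBase R I) {A : Type u} [CommRing A] [Algebra R A]
    (hA : AdicRing.TopFiniteType R I A) {M : Type v} [AddCommGroup M] [Module A M] [Module.Finite A M]
    {M' : Type w} [AddCommGroup M'] [Module A M'] (f : M →ₗ[A] M')
    (hM' : ∀ (x : M') (m : ℕ), (∀ a ∈ I ^ m, algebraMap R A a • x = 0) → x = 0) : f.ker.FG :=
  fg_of_isSat hR hA _ fun x m hx ↦ hM' (f x) m fun a ha ↦ by
    have := hx a ha
    rwa [LinearMap.mem_ker, map_smul] at this

/-- Restricted power series have no `I`-power torsion. -/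
theorem noPowTorsion_compl (hR : AdicRing.IsBase R I) {n : ℕ} (hV : ¬ IsNoetherianRing R)
    (x : Compl I (MvPolynomial (Fin n) R)) (m : ℕ) (hx : ∀ a ∈ I ^ m, algebraMap R _ a * x = 0) : x = 0 := by
  obtain ⟨hc, ⟨hN, -⟩ | ⟨hdom, hpre, hdim, t, ht, rfl⟩⟩ := hR
  · exact absurd hN hV
  · have h := hx (t ^ m) (by rw [Ideal.span_singleton_pow]; exact Ideal.mem_span_singleton_self _)
    clear hx
    induction m with
    | zero => simpa using h
    | succ m ih => exact ih (noTorsion_compl ht _ (by rw [← mul_assoc, ← map_mul, ← pow_succ']; exact h))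

/-- Topologically finitely presented algebras are coherent. -/
theorem finitePresentation_ideal (hR : AdicRing.IsBase R I) {A : Type u} [CommRing A] [Algebra R A]
    (hA : AdicRing.TopFinitePresentation R I A) (J : Ideal A) (hJ : J.FG) :
    Module.FinitePresentation A J := by
  classical
  obtain ⟨n, φ, hφ, hker⟩ :
      ∃ (n : ℕ) (φ : Compl I (MvPolynomial (Fin n) R) →ₐ[R] A), Function.Surjective φ ∧
        (RingHom.ker φ.toRingHom).FG := hA
  obtain ⟨s, a, ha⟩ := Submodule.fg_iff_exists_fin_generating_family.mp hJ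
  by_cases hV : IsNoetherianRing R
  · have := isNoetherianRing_topFiniteType (I := I) ⟨n, φ, hφ⟩
    exact Module.finitePresentation_of_finite A J
  let A₀ := Compl I (MvPolynomial (Fin n) R)
  obtain ⟨r, k, hk⟩ := Submodule.fg_iff_exists_fin_generating_family.mp hker
  choose b hb using fun j ↦ hφ (a j)
  let G : ((Fin s → A₀) × (Fin r → A₀)) →ₗ[A₀] A₀ :=
    (Fintype.linearCombination A₀ b).coprod (Fintype.linearCombination A₀ k)
  have hG : G.ker.FG := ker_fg_of_noPowTorsion hR ⟨n, AlgHom.id R A₀, Function.surjective_id⟩ G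
    fun x m hx ↦ noPowTorsion_compl hR hV x m fun a ha ↦ hx a ha
  let F : (Fin s → A) →ₗ[A] J :=
    Fintype.linearCombination A fun j ↦ (⟨a j, ha ▸ Submodule.subset_span ⟨j, rfl⟩⟩ : J)
  have hFs : Function.Surjective F := fun y ↦ by
    obtain ⟨c, hc⟩ := (Submodule.mem_span_range_iff_exists_fun A).mp
      (show (y : A) ∈ Submodule.span A (Set.range a) by rw [ha]; exact y.2)
    refine ⟨c, Subtype.ext ?_⟩
    simp only [smul_eq_mul] at hc
    simpa [F, Fintype.linearCombination_apply] using hc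
  refine Module.finitePresentation_of_surjective F hFs ?_
  obtain ⟨S, hS⟩ := hG
  let π : ((Fin s → A₀) × (Fin r → A₀)) → (Fin s → A) := fun v j ↦ φ (v.1 j)
  refine ⟨S.image π, le_antisymm (Submodule.span_le.mpr ?_) fun x hx ↦ ?_⟩
  · intro z hz
    simp only [Finset.coe_image, Set.mem_image] at hz
    obtain ⟨v, hv, rfl⟩ := hz
    have hv' : G v = 0 := (hS ▸ Submodule.subset_span hv : v ∈ G.ker)
    simp only [G, LinearMap.coprod_apply, Fintype.linearCombination_apply, smul_eq_mul] at hv'
    have h0 := congrArg φ hv'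
    simp only [map_add, map_sum, map_mul, map_zero] at h0
    have hk0 : ∀ i, φ (k i) = 0 := fun i ↦
      (hk ▸ Submodule.subset_span ⟨i, rfl⟩ : k i ∈ RingHom.ker φ.toRingHom)
    simp only [hk0, mul_zero, Finset.sum_const_zero, add_zero, hb] at h0
    refine Subtype.ext ?_
    simpa [F, π, Fintype.linearCombination_apply] using h0
  · choose w hw using fun j ↦ hφ (x j)
    have h1 : φ (∑ j, w j * b j) = 0 := by
      simp only [map_sum, map_mul, hw, hb]
      have := congrArg Subtype.val (LinearMap.mem_ker.mp hx)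
      simpa [F, Fintype.linearCombination_apply] using this
    obtain ⟨c, hc⟩ := (Submodule.mem_span_range_iff_exists_fun A₀).mp
      (show ∑ j, w j * b j ∈ Submodule.span A₀ (Set.range k) by rw [hk]; exact h1)
    simp only [smul_eq_mul] at hc
    have hv : ((w, -c) : (Fin s → A₀) × (Fin r → A₀)) ∈ G.ker := by
      simp only [G, LinearMap.mem_ker, LinearMap.coprod_apply, Fintype.linearCombination_apply, Pi.neg_apply,
        smul_eq_mul]
      rw [show ∑ x, -c x * k x = -∑ x, c x * k x from
        (Finset.sum_congr rfl fun x _ ↦ neg_mul (c x) (k x)).trans (Finset.sum_neg_distrib _), hc, add_neg_cancel]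
    rw [← hS] at hv
    have key : π (w, -c) ∈ Submodule.span A (↑(S.image π) : Set (Fin s → A)) := by
      revert hv
      generalize ((w, -c) : (Fin s → A₀) × (Fin r → A₀)) = v
      intro hv
      induction hv using Submodule.span_induction with
      | mem v hv => exact Submodule.subset_span (Finset.mem_coe.mpr (Finset.mem_image_of_mem π hv))
      | zero => rw [show π 0 = 0 from funext fun j ↦ by simp [π]]; exact zero_mem _
      | add v v' _ _ h h' =>
        rw [show π (v + v') = π v + π v' from funext fun j ↦ by simp [π]]; exact add_mem h h'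
      | smul d v _ h =>
        rw [show π (d • v) = φ d • π v from funext fun j ↦ by simp [π]]; exact Submodule.smul_mem _ _ h
    rwa [show π (w, -c) = x from funext hw] at key

/-- The saturation of a submodule is finitely generated and bounded over it. -/
theorem exists_saturation {R : Type u} [CommRing R] {t : R} (hR : AdicRing.IsBase R (Ideal.span {t}))
    {A : Type u} [CommRing A] [Algebra R A] (hA : AdicRing.TopFiniteType R (Ideal.span {t}) A)
    {M : Type v} [AddCommGroup M] [Module A M] [Module.Finite A M] (N : Submodule A M) :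
    ∃ (N' : Submodule A M) (c : ℕ), N ≤ N' ∧ N'.FG ∧
      (∀ (x : M) (j : ℕ), algebraMap R A t ^ j • x ∈ N' → x ∈ N') ∧
      ∀ y ∈ N', algebraMap R A t ^ c • y ∈ N := by
  classical
  let τ := algebraMap R A t
  let N' : Submodule A M :=
    { carrier := {x | ∃ j, τ ^ j • x ∈ N}
      add_mem' := fun {x y} ⟨i, hi⟩ ⟨j, hj⟩ ↦ ⟨i + j, by
        rw [smul_add]
        refine add_mem ?_ ?_
        · rw [add_comm i j, pow_add, mul_smul]; exact N.smul_mem _ hi
        · rw [pow_add, mul_smul]; exact N.smul_mem _ hj⟩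
      zero_mem' := ⟨0, by simp⟩
      smul_mem' := fun c x ⟨i, hi⟩ ↦ ⟨i, by rw [smul_comm]; exact N.smul_mem _ hi⟩ }
  have hs : ∀ (x : M) (j : ℕ), τ ^ j • x ∈ N' → x ∈ N' := fun x j ⟨i, hi⟩ ↦
    ⟨i + j, by rw [pow_add, mul_smul]; exact hi⟩
  have hsat : IsSat (Ideal.span {t}) N' := fun x m hx ↦ hs x m (by
    have := hx (t ^ m) (by rw [Ideal.span_singleton_pow]; exact Ideal.mem_span_singleton_self _)
    rwa [map_pow] at this)
  obtain ⟨S, hS⟩ := fg_of_isSat hR hA N' hsat
  choose j hj using fun x (hx : x ∈ S) ↦ (hS ▸ Submodule.subset_span hx : x ∈ N')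
  refine ⟨N', S.attach.sup fun x ↦ j x.1 x.2, fun x hx ↦ ⟨0, by simpa using hx⟩, ⟨S, hS⟩, hs, fun y hy ↦ ?_⟩
  have hy' : y ∈ Submodule.span A (S : Set M) := by rw [hS]; exact hy
  have hle : Submodule.span A (S : Set M) ≤
      N.comap (LinearMap.lsmul A M (τ ^ S.attach.sup fun x ↦ j x.1 x.2)) := by
    refine Submodule.span_le.mpr fun x hx ↦ ?_
    change τ ^ (S.attach.sup fun x ↦ j x.1 x.2) • x ∈ N
    obtain ⟨d, hd⟩ := Nat.exists_eq_add_of_le
      (Finset.le_sup (f := fun x : S ↦ j x.1 x.2) (Finset.mem_attach S ⟨x, hx⟩))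
    rw [hd, add_comm, pow_add, mul_smul]
    exact N.smul_mem _ (hj x hx)
  exact hle hy'

theorem map_span_pow_smul_top {R : Type u} [CommRing R] {t : R} {A : Type v} [CommRing A] [Algebra R A]
    {M : Type w} [AddCommGroup M] [Module A M] {m : ℕ} {x : M}
    (hx : x ∈ ((Ideal.span {t}).map (algebraMap R A)) ^ m • (⊤ : Submodule A M)) :
    ∃ y, algebraMap R A t ^ m • y = x := by
  rw [Ideal.map_span, Set.image_singleton, Ideal.span_singleton_pow, Submodule.ideal_span_singleton_smul] at hx
  obtain ⟨y, -, hy⟩ := hx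
  exact ⟨y, hy⟩

/-- The uniform Artin--Rees property. -/
theorem artinRees (hR : AdicRing.IsBase R I) {A : Type u} [CommRing A] [Algebra R A]
    (hA : AdicRing.TopFiniteType R I A) {M : Type v} [AddCommGroup M] [Module A M] [Module.Finite A M]
    (N : Submodule A M) : ∃ n₀ : ℕ, ∀ m : ℕ,
      ((I.map (algebraMap R A)) ^ (m + n₀) • (⊤ : Submodule A M)) ⊓ N ≤ (I.map (algebraMap R A)) ^ m • N := by
  classical
  obtain ⟨hc, ⟨hNoeth, -⟩ | ⟨hdom, hpre, hdim, t, ht, rfl⟩⟩ := id hR
  · have := isNoetherianRing_topFiniteType hA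
    obtain ⟨k, hk⟩ := (I.map (algebraMap R A)).exists_pow_inf_eq_pow_smul N
    refine ⟨k, fun m ↦ ?_⟩
    rw [hk (m + k) (Nat.le_add_left k m), Nat.add_sub_cancel]
    exact Submodule.smul_mono le_rfl inf_le_right
  · obtain ⟨N', c, hNN', -, hs, hc'⟩ := exists_saturation hR hA N
    refine ⟨c, fun m x ⟨hx, hxN⟩ ↦ ?_⟩
    obtain ⟨y, rfl⟩ := map_span_pow_smul_top hx
    rw [pow_add, mul_smul]
    exact Submodule.smul_mem_smul (Ideal.pow_mem_pow (Ideal.mem_map_of_mem _ (Ideal.mem_span_singleton_self t)) m)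
      (hc' y (hs y _ (hNN' hxN)))

theorem isPrecomplete_of_surjective_linear {A : Type v} [CommRing A] {J : Ideal A} {P : Type w}
    [AddCommGroup P] [Module A P] {M : Type u} [AddCommGroup M] [Module A M] [IsPrecomplete J P]
    (F : P →ₗ[A] M) (hF : Function.Surjective F) : IsPrecomplete J M := by
  refine AdicCompletion.of_surjective_iff.mp fun y ↦ ?_
  obtain ⟨y', rfl⟩ := AdicCompletion.map_surjective J hF y
  obtain ⟨p, rfl⟩ := AdicCompletion.of_surjective J P y'
  exact ⟨F p, (AdicCompletion.map_of J F p).symm⟩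

/-- Finite modules over topologically finitely generated algebras are complete. -/
theorem isAdicComplete_of_finite (hR : AdicRing.IsBase R I) {A : Type u} [CommRing A] [Algebra R A]
    (hA : AdicRing.TopFiniteType R I A) (M : Type v) [AddCommGroup M] [Module A M] [Module.Finite A M] :
    IsAdicComplete (I.map (algebraMap R A)) M := by
  classical
  obtain ⟨n, φ, hφ⟩ := topFiniteType_exists_compl hA
  let A₀ := Compl I (MvPolynomial (Fin n) R)
  have hI := isBase_fg hR
  have hA₀c : IsAdicComplete (I.map (algebraMap R A₀)) A₀ := isAdicComplete_compl hI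
  have hA₀ : AdicRing.TopFiniteType R I A₀ := ⟨n, AlgHom.id R A₀, Function.surjective_id⟩
  let : Algebra A₀ A := φ.toRingHom.toAlgebra
  have : IsScalarTower R A₀ A := .of_algebraMap_eq fun r ↦ (φ.commutes r).symm
  let : Module A₀ M := Module.compHom M φ.toRingHom
  have : IsScalarTower A₀ A M := ⟨fun a b m ↦ by
    change (φ a * b) • m = φ a • b • m
    rw [mul_smul]⟩
  have : Module.Finite A₀ A := Module.Finite.of_surjective (Algebra.linearMap A₀ A) hφ
  have : Module.Finite A₀ M := Module.Finite.trans A M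
  suffices h : IsAdicComplete (I.map (algebraMap R A₀)) M by
    have := (IsAdicComplete.map_algebraMap_iff (I.map (algebraMap R A₀)) M (S := A)).mpr h
    rwa [Ideal.map_map, ← IsScalarTower.algebraMap_eq] at this
  obtain ⟨s, F, hF⟩ := Module.Finite.exists_fin' A₀ M
  have hP : IsAdicComplete (I.map (algebraMap R A₀)) (Fin s → A₀) :=
    isAdicComplete_of_equiv_pi (LinearEquiv.refl A₀ _)
  have hprec : IsPrecomplete (I.map (algebraMap R A₀)) M := isPrecomplete_of_surjective_linear F hF
  suffices hh : IsHausdorff (I.map (algebraMap R A₀)) M from ⟨⟩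
  obtain ⟨hc, ⟨hNoeth, -⟩ | ⟨hdom, hpre, hdim, t, ht, rfl⟩⟩ := id hR
  · have := isNoetherianRing_compl (I := I) (R := R) n
    exact IsHausdorff.of_le_jacobson _ _ (IsAdicComplete.le_jacobson_bot _)
  · refine ⟨fun z hz ↦ ?_⟩
    obtain ⟨x, rfl⟩ := hF z
    obtain ⟨K', c, hKK', hK'fg, hs, hc'⟩ := exists_saturation hR hA₀ F.ker
    let J := (Ideal.span {t}).map (algebraMap R A₀)
    have happrox : ∀ m, ∃ k ∈ F.ker, x - k ∈ J ^ m • (⊤ : Submodule A₀ (Fin s → A₀)) := by
      intro m
      have := hz m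
      rw [SModEq.zero, ← (LinearMap.range_eq_top.mpr hF),
        LinearMap.range_eq_map, ← Submodule.map_smul''] at this
      obtain ⟨u, hu, hux⟩ := this
      exact ⟨x - u, by simp [hux], by simpa using hu⟩
    choose k hk hxk using happrox
    have hxK' : x ∈ K' := by
      have : Module.Finite A₀ K' := Module.Finite.iff_fg.mpr hK'fg
      obtain ⟨r, G, hG⟩ := Module.Finite.exists_fin' A₀ K'
      have : IsAdicComplete J (Fin r → A₀) := isAdicComplete_of_equiv_pi (LinearEquiv.refl A₀ _)
      have : IsPrecomplete J K' := isPrecomplete_of_surjective_linear G hG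
      obtain ⟨L, hL⟩ := IsPrecomplete.prec (I := J) inferInstance
        (f := fun m ↦ (⟨k m, hKK' (hk m)⟩ : K')) fun {a b} hab ↦ by
          rw [SModEq.sub_mem]
          have hd : k a - k b ∈ J ^ a • (⊤ : Submodule A₀ (Fin s → A₀)) := by
            have := sub_mem (Submodule.smul_mono_left (Ideal.pow_le_pow_right hab) (hxk b)) (hxk a)
            simpa using this
          obtain ⟨y, hy⟩ := map_span_pow_smul_top hd
          have hyK : y ∈ K' := hs y a (hy ▸ sub_mem (hKK' (hk a)) (hKK' (hk b)))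
          rw [show (⟨k a, hKK' (hk a)⟩ : K') - ⟨k b, hKK' (hk b)⟩ = algebraMap R A₀ t ^ a • (⟨y, hyK⟩ : K')
            from Subtype.ext hy.symm]
          exact Submodule.smul_mem_smul (Ideal.pow_mem_pow (Ideal.mem_map_of_mem _ (Ideal.mem_span_singleton_self t)) a) Submodule.mem_top
      have hxL : x = (L : Fin s → A₀) := by
        refine sub_eq_zero.mp (IsHausdorff.haus (I := J) inferInstance _ fun m ↦ ?_)
        rw [SModEq.zero]
        have h2 := Submodule.mem_map_of_mem (f := K'.subtype) (SModEq.sub_mem.mp (hL m))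
        rw [Submodule.map_smul''] at h2
        have h3 := add_mem (hxk m) (Submodule.smul_mono le_rfl le_top h2)
        simpa using h3
      exact hxL ▸ L.2
    obtain ⟨y, hy⟩ := map_span_pow_smul_top (hxk c)
    have hyK : y ∈ K' := hs y c (hy ▸ sub_mem hxK' (hKK' (hk c)))
    have := add_mem (hy ▸ hc' y hyK) (hk c)
    simpa using this

end General

end Groth.Agent.AdicRingLib
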