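import Groth.Prelude.Def_W4bk4boschfrg79
import Mathlib

/-! Completions of algebras along an ideal of the base ring. -/

set_option autoImplicit false

universe u v w

namespace Groth.Agent.AdicRingLib

open Ideal

variable {R : Type u} [CommRing R] {I : Ideal R}

section compl

variable {P : Type v} [CommRing P] [Algebra R P]

/-- The completion of `P` along `I P`. -/
abbrev Compl (I : Ideal R) (P : Type v) [CommRing P] [Algebra R P] : Type v :=
  AdicCompletion (I.map (algebraMap R P)) P

theorem map_algebraMap_compl (I : Ideal R) :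
    (I.map (algebraMap R P)).map (algebraMap P (Compl I P)) = I.map (algebraMap R (Compl I P)) := by
  rw [Ideal.map_map, ← IsScalarTower.algebraMap_eq]

theorem isAdicComplete_compl (hI : I.FG) :
    IsAdicComplete (I.map (algebraMap R (Compl I P))) (Compl I P) := by
  rw [← map_algebraMap_compl]
  exact (IsAdicComplete.map_algebraMap_iff (I.map (algebraMap R P)) _).mpr
    (AdicCompletion.isAdicComplete (hI.map _))

theorem exists_sub_mem_pow (hI : I.FG) (x : Compl I P) (n : ℕ) :
    ∃ p : P, x - algebraMap P (Compl I P) p ∈ I.map (algebraMap R (Compl I P)) ^ n := by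
  obtain ⟨p, hp⟩ := Submodule.Quotient.mk_surjective _ (AdicCompletion.eval _ P n x)
  refine ⟨p, ?_⟩
  have hmem : x - algebraMap P (Compl I P) p ∈ (AdicCompletion.eval (I.map (algebraMap R P)) P n).ker := by
    rw [LinearMap.mem_ker, map_sub, sub_eq_zero, ← hp]
    rfl
  rw [← AdicCompletion.pow_smul_top_eq_ker_eval (hI.map _)] at hmem
  rw [Ideal.smul_top_eq_map] at hmem
  rw [← map_algebraMap_compl, ← Ideal.map_pow]
  exact hmem

variable {B : Type w} [CommRing B] [Algebra R B]

theorem map_pow_le (h : P →ₐ[R] B) (n : ℕ) :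
    (I.map (algebraMap R P)) ^ n ≤ ((I.map (algebraMap R B)) ^ n).comap h.toRingHom := by
  rw [← Ideal.map_le_iff_le_comap, Ideal.map_pow, Ideal.map_map, AlgHom.toRingHom_eq_coe,
    h.comp_algebraMap]

theorem algHom_ext_compl (hI : I.FG) [IsHausdorff (I.map (algebraMap R B)) B]
    {f g : Compl I P →ₐ[R] B}
    (h : ∀ p : P, f (algebraMap P _ p) = g (algebraMap P _ p)) : f = g := by
  refine AlgHom.ext fun x ↦ (IsHausdorff.eq_iff_smodEq (I := I.map (algebraMap R B))).mpr fun n ↦ ?_
  rw [SModEq.sub_mem, smul_eq_mul, Ideal.mul_top]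
  obtain ⟨p, hp⟩ := exists_sub_mem_pow hI x n
  have h1 : f x - f (algebraMap P _ p) ∈ (I.map (algebraMap R B)) ^ n := by
    rw [← map_sub]; exact map_pow_le f n hp
  have h2 : g x - g (algebraMap P _ p) ∈ (I.map (algebraMap R B)) ^ n := by
    rw [← map_sub]; exact map_pow_le g n hp
  rw [h p] at h1
  simpa using sub_mem h1 h2

noncomputable def liftAux (h : P →ₐ[R] B) (n : ℕ) :
    Compl I P →ₐ[R] B ⧸ (I.map (algebraMap R B)) ^ n :=
  (Ideal.quotientMapₐ ((I.map (algebraMap R B)) ^ n) h (map_pow_le h n)).comp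
    ((AdicCompletion.evalₐ (I.map (algebraMap R P)) n).restrictScalars R)

theorem liftAux_eval (h : P →ₐ[R] B) (n : ℕ) (x : Compl I P) (p : P)
    (hp : AdicCompletion.evalₐ (I.map (algebraMap R P)) n x = Ideal.Quotient.mk _ p) :
    liftAux h n x = Ideal.Quotient.mk _ (h p) := by
  simp only [liftAux, AlgHom.comp_apply, AlgHom.restrictScalars_apply, hp]
  rfl

theorem liftAux_comp (h : P →ₐ[R] B) {m n : ℕ} (hle : m ≤ n) :
    (Ideal.Quotient.factorₐ R (Ideal.pow_le_pow_right hle)).comp (liftAux (I := I) h n) =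
      liftAux h m := by
  refine AlgHom.ext fun x ↦ ?_
  obtain ⟨a, rfl⟩ := AdicCompletion.mk_surjective _ _ x
  simp only [AlgHom.comp_apply]
  rw [liftAux_eval h n _ (a n) (AdicCompletion.evalₐ_mk _ _ _),
    liftAux_eval h m _ (a m) (AdicCompletion.evalₐ_mk _ _ _)]
  refine (Ideal.Quotient.eq).mpr ?_
  rw [← map_sub]
  refine map_pow_le h m ?_
  have := (a.2 hle).symm
  rwa [SModEq.sub_mem, smul_eq_mul, Ideal.mul_top] at this

/-- The universal property of the completion. -/
noncomputable def complLift [IsAdicComplete (I.map (algebraMap R B)) B] (h : P →ₐ[R] B) :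
    Compl I P →ₐ[R] B :=
  IsAdicComplete.liftAlgHom (I.map (algebraMap R B)) (liftAux h) (liftAux_comp h)

theorem complLift_of [IsAdicComplete (I.map (algebraMap R B)) B] (h : P →ₐ[R] B) (p : P) :
    complLift (I := I) h (algebraMap P _ p) = h p := by
  refine (IsHausdorff.eq_iff_smodEq (I := I.map (algebraMap R B))).mpr fun n ↦ ?_
  rw [SModEq.sub_mem, smul_eq_mul, Ideal.mul_top]
  have h1 : Ideal.Quotient.mk _ (complLift (I := I) h (algebraMap P _ p)) =
      liftAux (I := I) h n (algebraMap P _ p) :=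
    IsAdicComplete.mk_liftAlgHom _ _ (liftAux_comp h) n _
  rw [liftAux_eval h n _ p (AlgHom.commutes _ p)] at h1
  exact Ideal.Quotient.eq.mp h1

end compl

theorem isPrecomplete_of_surjective {A : Type v} [CommRing A] [Algebra R A] {D : Type w}
    [CommRing D] [Algebra R D] (hI : I.FG) (φ : A →ₐ[R] D) (hφ : Function.Surjective φ)
    [IsPrecomplete (I.map (algebraMap R A)) A] : IsPrecomplete (I.map (algebraMap R D)) D := by
  refine (isPrecomplete_iff).mpr fun f hf ↦ ?_
  have hmap : ∀ n : ℕ, (I.map (algebraMap R D)) ^ n = ((I.map (algebraMap R A)) ^ n).map φ.toRingHom := by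
    intro n
    rw [Ideal.map_pow, Ideal.map_map, AlgHom.toRingHom_eq_coe, φ.comp_algebraMap]
  have hstep : ∀ n, ∃ d ∈ (I.map (algebraMap R A)) ^ n, φ d = f (n + 1) - f n := fun n ↦ by
    have := (hf (Nat.le_succ n)).symm
    rw [SModEq.sub_mem, smul_eq_mul, Ideal.mul_top, hmap] at this
    exact (Ideal.mem_map_iff_of_surjective φ.toRingHom hφ).mp this
  choose d hd hd' using hstep
  obtain ⟨a0, ha0⟩ := hφ (f 0)
  let g : ℕ → A := fun n ↦ a0 + ∑ k ∈ Finset.range n, d k
  have hg : ∀ n, φ (g n) = f n := fun n ↦ by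
    induction n with
    | zero => simp [g, ha0]
    | succ n ih =>
      simp only [g, Finset.sum_range_succ, map_add, hd'] at ih ⊢
      rw [← add_assoc, ih]; ring
  obtain ⟨L, hL⟩ := IsPrecomplete.prec (I := I.map (algebraMap R A)) inferInstance (f := g) fun {m n} hmn ↦ by
    rw [SModEq.sub_mem, smul_eq_mul, Ideal.mul_top]
    have : g m - g n = - ∑ k ∈ Finset.Ico m n, d k := by
      simp only [g, Finset.sum_Ico_eq_sub _ hmn]; ring
    rw [this]
    exact neg_mem (sum_mem fun k hk ↦ Ideal.pow_le_pow_right (Finset.mem_Ico.mp hk).1 (hd k))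
  refine ⟨φ L, fun n ↦ ?_⟩
  have := hL n
  rw [SModEq.sub_mem, smul_eq_mul, Ideal.mul_top] at this ⊢
  rw [← hg, ← map_sub, hmap]
  exact Ideal.mem_map_of_mem φ.toRingHom this

theorem mvPolynomial_map_C (n : ℕ) :
    I.map (MvPolynomial.C : R →+* MvPolynomial (Fin n) R) =
      I.map (algebraMap R (MvPolynomial (Fin n) R)) := by
  rw [MvPolynomial.algebraMap_eq]

theorem isAdicComplete_rPow (hI : I.FG) (n : ℕ) :
    IsAdicComplete (I.map (algebraMap R (AdicRing.RPow R I n))) (AdicRing.RPow R I n) :=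
  isAdicComplete_compl (P := MvPolynomial (Fin n) R) hI

theorem isPrecomplete_of_topFiniteType (hI : I.FG) {D : Type v} [CommRing D] [Algebra R D]
    (hD : AdicRing.TopFiniteType R I D) : IsPrecomplete (I.map (algebraMap R D)) D := by
  obtain ⟨n, φ, hφ⟩ := hD
  have := isAdicComplete_rPow hI n
  exact isPrecomplete_of_surjective hI φ hφ

theorem le_jacobson_of_topFiniteType (hI : I.FG) {D : Type v} [CommRing D] [Algebra R D]
    (hD : AdicRing.TopFiniteType R I D) : I.map (algebraMap R D) ≤ Ideal.jacobson ⊥ := by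
  obtain ⟨n, φ, hφ⟩ := hD
  have := isAdicComplete_rPow hI n
  have hA := IsAdicComplete.le_jacobson_bot (I.map (algebraMap R (AdicRing.RPow R I n)))
  rw [← φ.comp_algebraMap, ← Ideal.map_map, Ideal.map_le_iff_le_comap]
  refine hA.trans fun a ha ↦ ?_
  rw [Ideal.mem_comap, Ideal.mem_jacobson_bot]
  intro y
  obtain ⟨y, rfl⟩ := hφ y
  have := (Ideal.mem_jacobson_bot.mp ha y).map φ
  simpa using this

theorem topFiniteType_of_surjective {A : Type v} [CommRing A] [Algebra R A] {D : Type w} [CommRing D]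
    [Algebra R D] (hA : AdicRing.TopFiniteType R I A) (φ : A →ₐ[R] D) (hφ : Function.Surjective φ) :
    AdicRing.TopFiniteType R I D := by
  obtain ⟨n, ψ, hψ⟩ := hA
  exact ⟨n, φ.comp ψ, hφ.comp hψ⟩

theorem mem_map_span_pow {R : Type u} [CommRing R] {t : R} {A : Type v} [CommRing A] [Algebra R A]
    {x : A} {N : ℕ} : x ∈ (Ideal.span {t}).map (algebraMap R A) ^ N ↔ ∃ w, x = algebraMap R A (t ^ N) * w := by
  rw [Ideal.map_span, Set.image_singleton, Ideal.span_singleton_pow, Ideal.mem_span_singleton, map_pow]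
  rfl

theorem topFiniteType_exists_compl {D : Type v} [CommRing D] [Algebra R D]
    (hD : AdicRing.TopFiniteType R I D) :
    ∃ (n : ℕ) (φ : Compl I (MvPolynomial (Fin n) R) →ₐ[R] D), Function.Surjective φ := hD

theorem isBase_fg {I : Ideal R} (h : AdicRing.IsBase R I) : I.FG := by
  rcases h.2 with ⟨hN, -⟩ | ⟨-, -, -, t, -, rfl⟩
  · exact IsNoetherian.noetherian I
  · exact Submodule.fg_span_singleton t

end Groth.Agent.AdicRingLib
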