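import Groth.Agent.AdicRingLib.Completion
import Groth.Agent.Hensel.Pairs
import Groth.Agent.Hensel.Local

/-! Complete valuation rings of height one and the finiteness theorem for rig-points. -/

set_option autoImplicit false

universe u v w

namespace Groth.Agent.AdicRingLib

open Ideal IsLocalRing

section Modules

variable {R : Type u} [CommRing R] {I : Ideal R}

theorem isAdicComplete_of_equiv_pi [IsAdicComplete I R] {M : Type v} [AddCommGroup M] [Module R M]
    {n : ℕ} (e : M ≃ₗ[R] (Fin n → R)) : IsAdicComplete I M := by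
  rw [← AdicCompletion.of_bijective_iff]
  let Φ := fun z : AdicCompletion I M ↦
    AdicCompletion.piEquivFin I n (AdicCompletion.congr I e z)
  have hΦ : Function.Bijective Φ :=
    (AdicCompletion.piEquivFin I n).bijective.comp (AdicCompletion.congr I e).bijective
  have h2 : Φ ∘ AdicCompletion.of I M = fun m j ↦ AdicCompletion.of I R (e m j) := by
    funext m j
    simp [Φ, AdicCompletion.congr_apply, AdicCompletion.piEquivFin_apply]
    rfl
  have h3 : Function.Bijective (fun m (j : Fin n) ↦ AdicCompletion.of I R (e m j)) :=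
    (Function.Bijective.piMap fun _ : Fin n ↦ AdicCompletion.of_bijective I R).comp e.bijective
  rw [← h2] at h3
  exact (Function.Bijective.of_comp_iff' hΦ _).mp h3

theorem isAdicComplete_of_finite_free [IsAdicComplete I R] (M : Type v) [AddCommGroup M] [Module R M]
    [Module.Finite R M] [Module.Free R M] : IsAdicComplete I M := by
  classical
  let b := Module.Free.chooseBasis R M
  exact isAdicComplete_of_equiv_pi
    ((b.reindex (Fintype.equivFin _)).equivFun)

theorem isAdicComplete_map_of_finite_free [IsAdicComplete I R] (B : Type v) [CommRing B] [Algebra R B]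
    [Module.Finite R B] [Module.Free R B] : IsAdicComplete (I.map (algebraMap R B)) B :=
  (IsAdicComplete.map_algebraMap_iff I _).mpr (isAdicComplete_of_finite_free B)

end Modules

variable {R : Type u} [CommRing R] [IsDomain R] [ValuationRing R] [Ring.KrullDimLE 1 R]
variable {t : R} (ht : t ≠ 0) [IsAdicComplete (Ideal.span {t}) R]

omit [Ring.KrullDimLE 1 R] in
theorem mem_maximalIdeal : t ∈ maximalIdeal R := by
  rw [← IsLocalRing.jacobson_eq_maximalIdeal (⊥ : Ideal R) bot_ne_top]
  exact IsAdicComplete.le_jacobson_bot (Ideal.span {t}) (Ideal.mem_span_singleton_self t)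

omit [IsAdicComplete (Ideal.span {t}) R] in
theorem eq_maximalIdeal_of_mem {p : Ideal R} [p.IsPrime] {c : R} (hc : c ≠ 0) (h : c ∈ p) :
    p = maximalIdeal R :=
  IsLocalRing.eq_maximalIdeal
    (Ideal.isMaximal_of_isPrime_of_ne_bot p fun hp ↦ hc (by rwa [hp, Ideal.mem_bot] at h))

theorem exists_dvd_pow {c : R} (hc : c ≠ 0) : ∃ N, c ∣ t ^ N := by
  have : t ∈ (Ideal.span {c}).radical := by
    rw [Ideal.radical_eq_sInf, Submodule.mem_sInf]
    rintro p ⟨hle, hp⟩
    rw [eq_maximalIdeal_of_mem (p := p) hc (hle (Ideal.mem_span_singleton_self c))]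
    exact mem_maximalIdeal
  obtain ⟨N, hN⟩ := this
  exact ⟨N, Ideal.mem_span_singleton.mp hN⟩

include ht in
theorem radical_span_eq : (Ideal.span {t}).radical = maximalIdeal R := by
  refine le_antisymm (IsLocalRing.le_maximalIdeal fun h ↦ ?_) ?_
  · rw [Ideal.radical_eq_top, Ideal.span_singleton_eq_top] at h
    exact (mem_maximalIdeal (t := t)) h
  · rw [Ideal.radical_eq_sInf]
    refine le_sInf fun p ⟨hle, hp⟩ ↦ ?_
    rw [eq_maximalIdeal_of_mem (p := p) ht (hle (Ideal.mem_span_singleton_self t))]

include ht in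
theorem exists_pow_mem_map {S : Type v} [CommRing S] [Algebra R S] {x : S}
    (hx : x ∈ (maximalIdeal R).map (algebraMap R S)) :
    ∃ N, x ^ N ∈ (Ideal.span {t}).map (algebraMap R S) := by
  rw [← radical_span_eq ht] at hx
  exact Ideal.map_radical_le _ hx

variable (t) in
theorem henselianRing_maximalIdeal (ht : t ≠ 0) : HenselianRing R (maximalIdeal R) := by
  rw [← radical_span_eq ht]
  exact Hensel.henselianRing_radical_iff.mpr inferInstance

theorem injective_of_ne_zero {D : Type v} [CommRing D] [IsDomain D] [Algebra R D]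
    (htD : algebraMap R D t ≠ 0) : Function.Injective (algebraMap R D) := by
  rw [injective_iff_map_eq_zero]
  intro c hc
  by_contra hc0
  obtain ⟨N, b, hb⟩ := exists_dvd_pow (t := t) hc0
  apply htD
  have := congrArg (algebraMap R D) hb
  rw [map_mul, hc, zero_mul, map_pow] at this
  exact (pow_eq_zero_iff'.mp this).1

omit [Ring.KrullDimLE 1 R] [IsAdicComplete (Ideal.span {t}) R] in
theorem free_of_domain {B : Type v} [CommRing B] [IsDomain B] [Algebra R B] [Module.Finite R B]
    (hinj : Function.Injective (algebraMap R B)) : Module.Free R B := by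
  have : FaithfulSMul R B := (faithfulSMul_iff_algebraMap_injective R B).mpr hinj
  have : Module.IsTorsionFree R B := inferInstance
  have : Module.Flat R B := by
    rw [Module.Flat.flat_iff_torsion_eq_bot_of_isBezout,
      ← Submodule.isTorsionFree_iff_torsion_eq_bot]
    infer_instance
  exact Module.free_of_flat_of_isLocalRing

include ht in
theorem isLocalRing_of_finite_domain {B : Type v} [CommRing B] [IsDomain B] [Algebra R B]
    [Module.Finite R B] (hinj : Function.Injective (algebraMap R B)) : IsLocalRing B := by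
  have := henselianRing_maximalIdeal t ht
  set J := (maximalIdeal R).map (algebraMap R B) with hJ
  have : HenselianRing B J := Hensel.henselianRing_of_isIntegral B
  have hle : ∀ (M : Ideal B) [M.IsMaximal], J ≤ M := fun M hM ↦
    (HenselianRing.jac (I := J)).trans (sInf_le ⟨bot_le, hM⟩)
  have hne : J ≠ ⊤ := fun h ↦ by
    obtain ⟨M, hM⟩ := Ideal.exists_maximal B
    exact hM.ne_top (top_unique (h ▸ hle M))
  have : Nontrivial (B ⧸ J) := Ideal.Quotient.nontrivial_iff.mpr hne
  have : ConnectedSpace (PrimeSpectrum (B ⧸ (⊥ : Ideal B) ⊔ J)) := Hensel.connectedSpace_zeroLocus ⊥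
  rw [bot_sup_eq] at this
  let : Field (R ⧸ maximalIdeal R) := Ideal.Quotient.field _
  have : Module.Finite (R ⧸ maximalIdeal R) (B ⧸ J) := Module.Finite.of_restrictScalars_finite R _ _
  have : IsArtinianRing (B ⧸ J) := isArtinian_of_tower (R ⧸ maximalIdeal R) inferInstance
  have : Subsingleton (PrimeSpectrum (B ⧸ J)) := PreconnectedSpace.trivial_of_discrete
  refine IsLocalRing.of_unique_max_ideal ?_
  obtain ⟨M, hM⟩ := Ideal.exists_maximal B
  refine ⟨M, hM, fun M' hM' ↦ ?_⟩
  have hp : ∀ (N : Ideal B) [N.IsMaximal], (N.map (Ideal.Quotient.mk J)).IsPrime := fun N _ ↦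
    Ideal.map_isPrime_of_surjective Ideal.Quotient.mk_surjective (by rw [Ideal.mk_ker]; exact hle N)
  have h2 := congrArg PrimeSpectrum.asIdeal
    (Subsingleton.elim (⟨_, hp M'⟩ : PrimeSpectrum (B ⧸ J)) ⟨_, hp M⟩)
  have := congrArg (Ideal.comap (Ideal.Quotient.mk J)) h2
  rwa [Ideal.comap_map_of_surjective _ Ideal.Quotient.mk_surjective,
    Ideal.comap_map_of_surjective _ Ideal.Quotient.mk_surjective, ← RingHom.ker_eq_comap_bot,
    Ideal.mk_ker, sup_eq_left.mpr (hle M'), sup_eq_left.mpr (hle M)] at this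

omit [ValuationRing R] in
theorem krullDimLE_one_of_integral {B : Type v} [CommRing B] [IsDomain B] [Algebra R B]
    [Algebra.IsIntegral R B] (hinj : Function.Injective (algebraMap R B)) : Ring.KrullDimLE 1 B := by
  refine Ring.KrullDimLE.mk₁' fun q hq0 hq ↦ ?_
  have : (q.comap (algebraMap R B)).IsMaximal := by
    refine Ideal.isMaximal_of_isPrime_of_ne_bot _ fun h ↦ hq0 ?_
    exact Ideal.eq_bot_of_comap_eq_bot h
  exact Ideal.isMaximal_of_isIntegral_of_isMaximal_comap q this

include ht in
theorem ringKrullDim_eq_one {B : Type v} [CommRing B] [IsDomain B] [Algebra R B]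
    [Algebra.IsIntegral R B] (hinj : Function.Injective (algebraMap R B)) : ringKrullDim B = 1 := by
  have := krullDimLE_one_of_integral (R := R) hinj
  refine le_antisymm (Ring.krullDimLE_iff.mp this) ?_
  have hnf : ¬ IsField B := fun hB ↦ by
    have hR := isField_of_isIntegral_of_isField (R := R) hinj hB
    obtain ⟨b, hb⟩ := hR.mul_inv_cancel ht
    exact (mem_maximalIdeal (t := t)) (IsUnit.of_mul_eq_one _ hb)
  rcases lt_or_ge (ringKrullDim B) 1 with h | h
  · refine absurd (@Ring.KrullDimLE.isField_of_isDomain B _ ?_ _) hnf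
    rw [Ring.krullDimLE_iff]
    exact Order.le_of_lt_succ (lt_of_lt_of_le h (by rfl))
  · exact h

section Content

omit [Ring.KrullDimLE 1 R] [IsAdicComplete (Ideal.span {t}) R] in
theorem exists_dvd_coeffs {σ : Type w} (p : MvPolynomial σ R) (s : Finset (σ →₀ ℕ)) (hs : s.Nonempty) :
    ∃ i ∈ s, ∀ j ∈ s, p.coeff i ∣ p.coeff j := by
  induction hs using Finset.Nonempty.cons_induction with
  | singleton a => exact ⟨a, by simp, by simp⟩
  | cons a s has hs ih =>
    obtain ⟨i, hi, hij⟩ := ih
    rcases ValuationRing.dvd_total (p.coeff a) (p.coeff i) with h | h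
    · refine ⟨a, by simp, fun j hj ↦ ?_⟩
      rcases Finset.mem_cons.mp hj with rfl | hj
      · exact dvd_rfl
      · exact h.trans (hij j hj)
    · refine ⟨i, by simp [hi], fun j hj ↦ ?_⟩
      rcases Finset.mem_cons.mp hj with rfl | hj
      · exact h
      · exact hij j hj

theorem exists_content {n : ℕ} (g : Compl (Ideal.span {t}) (MvPolynomial (Fin n) R)) (hg : g ≠ 0) :
    ∃ (c : R) (p : MvPolynomial (Fin n) R) (d : R) (w : Compl (Ideal.span {t}) (MvPolynomial (Fin n) R)),
      c ≠ 0 ∧ d ∈ maximalIdeal R ∧ (∃ i, p.coeff i = 1) ∧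
      g = algebraMap R _ c * (algebraMap (MvPolynomial (Fin n) R) _ p + algebraMap R _ d * w) := by
  have hI : (Ideal.span {t}).FG := Submodule.fg_span_singleton t
  have := isAdicComplete_compl (I := Ideal.span {t}) (P := MvPolynomial (Fin n) R) hI
  obtain ⟨N, hN⟩ : ∃ N, g ∉ (Ideal.span {t}).map (algebraMap R (Compl (Ideal.span {t}) (MvPolynomial (Fin n) R))) ^ N := by
    by_contra! h
    exact hg (IsHausdorff.haus (I := (Ideal.span {t}).map (algebraMap R (Compl (Ideal.span {t}) (MvPolynomial (Fin n) R))))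
      inferInstance g fun k ↦ by rw [SModEq.zero, smul_eq_mul, Ideal.mul_top]; exact h k)
  obtain ⟨p, hp⟩ := exists_sub_mem_pow (P := MvPolynomial (Fin n) R) hI g N
  obtain ⟨w, hw⟩ := mem_map_span_pow.mp hp
  have hp0 : p.support.Nonempty := by
    rw [Finset.nonempty_iff_ne_empty, ne_eq, MvPolynomial.support_eq_empty]
    rintro rfl
    rw [map_zero] at hp
    exact hN (by simpa using hp)
  obtain ⟨i, hi, hij⟩ := exists_dvd_coeffs p p.support hp0
  have hc0 : p.coeff i ≠ 0 := MvPolynomial.mem_support_iff.mp hi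
  have hC : MvPolynomial.C (p.coeff i) ∣ p := (MvPolynomial.C_dvd_iff_dvd_coeff _ _).mpr fun j ↦ by
    by_cases hj : j ∈ p.support
    · exact hij j hj
    · rw [MvPolynomial.notMem_support_iff.mp hj]; exact dvd_zero _
  obtain ⟨p0, hp0'⟩ := hC
  have hnd : ¬ t ^ N ∣ p.coeff i := by
    rintro ⟨e, he⟩
    refine hN (mem_map_span_pow.mpr ?_)
    refine ⟨algebraMap R _ e * algebraMap (MvPolynomial (Fin n) R) _ p0 + w, ?_⟩
    rw [sub_eq_iff_eq_add] at hw
    rw [hw, mul_add, ← mul_assoc, ← map_mul, ← he, add_comm]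
    congr 1
    conv_lhs => rw [hp0']
    rw [map_mul, ← MvPolynomial.algebraMap_eq, ← IsScalarTower.algebraMap_apply]
  obtain ⟨d, hd⟩ := (ValuationRing.dvd_total (p.coeff i) (t ^ N)).resolve_right hnd
  refine ⟨p.coeff i, p0, d, w, hc0, fun hu ↦ hnd ?_, ⟨i, ?_⟩, ?_⟩
  · rw [hd]; exact (hu.mul_right_dvd).mpr dvd_rfl
  · refine mul_left_cancel₀ hc0 ?_
    rw [← MvPolynomial.coeff_C_mul, ← hp0', mul_one]
  · rw [sub_eq_iff_eq_add] at hw
    rw [mul_add, ← mul_assoc, ← map_mul, ← hd, hw, add_comm]
    congr 1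
    conv_lhs => rw [hp0']
    rw [map_mul, ← MvPolynomial.algebraMap_eq, ← IsScalarTower.algebraMap_apply]

end Content

variable {D : Type v} [CommRing D] [IsDomain D] [Algebra R D]

theorem exists_dvd_pow_of_krullDimLE_one [Ring.KrullDimLE 1 D]
    (hD : AdicRing.TopFiniteType R (Ideal.span {t}) D)
    (x : D) (hx : x ≠ 0) : ∃ N, x ∣ algebraMap R D t ^ N := by
  by_contra! h
  obtain ⟨q, hq, hxq, hdisj⟩ := Ideal.exists_le_prime_disjoint (Ideal.span {x})
    (Submonoid.powers (algebraMap R D t)) (Set.disjoint_left.mpr fun y hy hy' ↦ by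
      obtain ⟨N, rfl⟩ := hy'
      exact h N (Ideal.mem_span_singleton.mp hy))
  have hmax : q.IsMaximal := Ideal.isMaximal_of_isPrime_of_ne_bot q fun hq0 ↦ hx (by
    have := hxq (Ideal.mem_span_singleton_self x); rwa [hq0, Ideal.mem_bot] at this)
  have hjac := le_jacobson_of_topFiniteType (Submodule.fg_span_singleton t) hD
  exact Set.disjoint_left.mp hdisj
    (hjac.trans (sInf_le ⟨bot_le, hmax⟩) (Ideal.mem_map_of_mem _ (Ideal.mem_span_singleton_self t)))
    ⟨1, pow_one _⟩

/-- The finiteness theorem: a rig-point domain is finite over the base. -/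
theorem finite_of_dvd_pow (hD : AdicRing.TopFiniteType R (Ideal.span {t}) D)
    (htD : algebraMap R D t ≠ 0) (hdvd : ∀ x : D, x ≠ 0 → ∃ N, x ∣ algebraMap R D t ^ N) :
    Module.Finite R D := by
  classical
  have ht : t ≠ 0 := fun h ↦ htD (by rw [h, map_zero])
  set I := Ideal.span {t} with hIdef
  have hI : I.FG := Submodule.fg_span_singleton t
  have htI : I.map (algebraMap R D) = Ideal.span {algebraMap R D t} := by
    rw [hIdef, Ideal.map_span, Set.image_singleton]
  have hjac := le_jacobson_of_topFiniteType hI hD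
  have htnu : ¬ IsUnit (algebraMap R D t) := fun hu ↦ by
    obtain ⟨M, hM⟩ := Ideal.exists_maximal D
    exact hM.ne_top (Ideal.eq_top_of_isUnit_mem _
      (hjac.trans (sInf_le ⟨bot_le, hM⟩) (Ideal.mem_map_of_mem _ (Ideal.mem_span_singleton_self t))) hu)
  have hprec := isPrecomplete_of_topFiniteType hI hD
  have hhaus : IsHausdorff (I.map (algebraMap R D)) D := ⟨fun z hz ↦ by
    by_contra hz0
    obtain ⟨N, hN⟩ := hdvd z hz0
    have := hz (N + 1)
    rw [SModEq.zero, smul_eq_mul, Ideal.mul_top, htI, Ideal.span_singleton_pow,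
      Ideal.mem_span_singleton] at this
    obtain ⟨u, hu⟩ := this.trans hN
    refine htnu (IsUnit.of_mul_eq_one u ?_)
    refine mul_left_cancel₀ (pow_ne_zero N htD) ?_
    rw [mul_one, ← mul_assoc, ← pow_succ, ← hu]⟩
  have : IsAdicComplete (I.map (algebraMap R D)) D := ⟨⟩
  let k := R ⧸ maximalIdeal R
  let : Field k := Ideal.Quotient.field _
  set J := (maximalIdeal R).map (algebraMap R D) with hJ
  have : Nontrivial (D ⧸ J) := Ideal.Quotient.nontrivial_iff.mpr fun h ↦ by
    obtain ⟨N, hN⟩ := exists_pow_mem_map ht (S := D) (x := 1) (by rw [← hJ, h]; exact Submodule.mem_top)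
    rw [one_pow, htI, Ideal.mem_span_singleton] at hN
    exact htnu (isUnit_of_dvd_one hN)
  obtain ⟨n₀, φ, hφ⟩ := topFiniteType_exists_compl hD
  let φ₀ : MvPolynomial (Fin n₀) R →ₐ[R] D := φ.comp (IsScalarTower.toAlgHom R _ _)
  have hdense : ∀ x : D, ∃ p, x - φ₀ p ∈ I.map (algebraMap R D) := fun x ↦ by
    obtain ⟨a, rfl⟩ := hφ x
    obtain ⟨p, hp⟩ := exists_sub_mem_pow (P := MvPolynomial (Fin n₀) R) hI a 1
    refine ⟨p, ?_⟩
    have := map_pow_le φ 1 hp
    rw [Ideal.mem_comap, pow_one, map_sub] at this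
    exact this
  have hsurjk : ∀ (K : Ideal D), I.map (algebraMap R D) ≤ K →
      Function.Surjective ((Ideal.Quotient.mkₐ R K).comp φ₀) := fun K hK y ↦ by
    obtain ⟨x, rfl⟩ := Ideal.Quotient.mk_surjective y
    obtain ⟨p, hp⟩ := hdense x
    exact ⟨p, (Ideal.Quotient.eq.mpr (hK hp)).symm⟩
  have hIJ : I.map (algebraMap R D) ≤ J := Ideal.map_mono ((Ideal.span_singleton_le_iff_mem _).mpr mem_maximalIdeal)
  have : Algebra.FiniteType R (D ⧸ J) := Algebra.FiniteType.of_surjective _ (hsurjk J hIJ)
  have : Algebra.FiniteType k (D ⧸ J) := Algebra.FiniteType.of_restrictScalars_finiteType R k _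
  obtain ⟨s, g, ginj, gfin⟩ := exists_finite_inj_algHom_of_fg k (D ⧸ J)
  choose d hd using fun i : Fin s ↦ Ideal.Quotient.mk_surjective (g (MvPolynomial.X i))
  let h : MvPolynomial (Fin s) R →ₐ[R] D := MvPolynomial.aeval d
  have hcompat : ∀ p : MvPolynomial (Fin s) R,
      Ideal.Quotient.mk J (h p) = g (MvPolynomial.map (Ideal.Quotient.mk (maximalIdeal R)) p) := by
    intro p
    induction p using MvPolynomial.induction_on with
    | C a =>
      simp only [h, MvPolynomial.aeval_C, MvPolynomial.map_C]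
      exact (g.commutes (Ideal.Quotient.mk (maximalIdeal R) a)).symm
    | add p q hp hq => simp only [map_add, hp, hq]
    | mul_X p i hp =>
      simp only [map_mul, hp, MvPolynomial.map_X]
      congr 1
      simp [h, hd]
  let P := Compl I (MvPolynomial (Fin s) R)
  have hPc : IsAdicComplete (I.map (algebraMap R P)) P := isAdicComplete_compl hI
  let ψ : P →ₐ[R] D := complLift (P := MvPolynomial (Fin s) R) h
  have hψ : ∀ p, ψ (algebraMap (MvPolynomial (Fin s) R) P p) = h p := complLift_of h
  let : Algebra P D := ψ.toRingHom.toAlgebra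
  have : IsScalarTower R P D := .of_algebraMap_eq fun r ↦ (ψ.commutes r).symm
  set Dt := D ⧸ I.map (algebraMap R D)
  have : Algebra.FiniteType R Dt := Algebra.FiniteType.of_surjective _ (hsurjk _ le_rfl)
  have : Algebra.FiniteType P Dt := Algebra.FiniteType.of_restrictScalars_finiteType R P _
  have : Algebra.IsIntegral P Dt := ⟨fun y ↦ by
    obtain ⟨x, rfl⟩ := Ideal.Quotient.mk_surjective y
    obtain ⟨q, hqm, hq⟩ := gfin.to_isIntegral (Ideal.Quotient.mk J x)
    have hlift : q ∈ Polynomial.lifts (MvPolynomial.map (Ideal.Quotient.mk (maximalIdeal R))) :=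
      Polynomial.map_surjective _ (MvPolynomial.map_surjective _ Ideal.Quotient.mk_surjective) q
    obtain ⟨G, hG, -, hGm⟩ := Polynomial.lifts_and_degree_eq_and_monic hlift hqm
    have h0 : Polynomial.eval₂ h.toRingHom x G ∈ J := by
      rw [← Ideal.Quotient.eq_zero_iff_mem, Polynomial.hom_eval₂, ← hq, ← hG, Polynomial.eval₂_map]
      congr 1
      exact RingHom.ext hcompat
    obtain ⟨N, hN⟩ := exists_pow_mem_map ht h0
    refine ⟨(G.map (algebraMap (MvPolynomial (Fin s) R) P)) ^ N, (hGm.map _).pow N, ?_⟩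
    rw [Polynomial.eval₂_pow, Polynomial.eval₂_map]
    refine Eq.trans ?_ (Ideal.Quotient.eq_zero_iff_mem.mpr hN)
    rw [map_pow, Polynomial.hom_eval₂]
    congr 2
    exact RingHom.ext fun p ↦ congrArg (Ideal.Quotient.mk _) (hψ p)⟩
  have : Module.Finite P Dt := Algebra.IsIntegral.finite
  obtain ⟨N, f, hf⟩ := Module.Finite.exists_fin' P Dt
  obtain ⟨F, hF⟩ := Module.projective_lifting_property
    ((Ideal.Quotient.mkₐ P (I.map (algebraMap R D))).toLinearMap) f Ideal.Quotient.mk_surjective
  have hmapP : (I.map (algebraMap R P)).map (algebraMap P D) = I.map (algebraMap R D) := by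
    rw [Ideal.map_map, ← IsScalarTower.algebraMap_eq]
  have : IsHausdorff (I.map (algebraMap R P)) D :=
    (IsHausdorff.map_algebraMap_iff (I := I.map (algebraMap R P)) (S := D)).mp (hmapP.symm ▸ hhaus)
  have : IsAdicComplete (I.map (algebraMap R P)) (Fin N → P) :=
    isAdicComplete_of_equiv_pi (LinearEquiv.refl P _)
  have hFs : Function.Surjective F := by
    refine surjective_of_mkQ_comp_surjective (I := I.map (algebraMap R P)) ?_
    intro y
    obtain ⟨x, rfl⟩ := Submodule.mkQ_surjective _ y
    obtain ⟨v, hv⟩ := hf (Ideal.Quotient.mk _ x)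
    refine ⟨v, ?_⟩
    rw [LinearMap.comp_apply, Submodule.mkQ_apply, Submodule.mkQ_apply, Submodule.Quotient.eq,
      Ideal.smul_top_eq_map, Submodule.restrictScalars_mem, hmapP]
    rw [← hF] at hv
    exact Ideal.Quotient.eq.mp hv
  have : Module.Finite P D := Module.Finite.of_surjective F hFs
  have hψinj : Function.Injective ψ := (injective_iff_map_eq_zero ψ).mpr fun a ha ↦ by
    by_contra ha0
    obtain ⟨c, p, e, w, hc, he, ⟨i, hi⟩, rfl⟩ := exists_content a ha0
    rw [map_mul, AlgHom.commutes, mul_eq_zero] at ha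
    rcases ha with ha | ha
    · exact hc (injective_of_ne_zero htD (ha.trans (map_zero _).symm))
    · rw [map_add, hψ, map_mul, AlgHom.commutes] at ha
      have h2 := congrArg (Ideal.Quotient.mk J) ha
      rw [map_add, map_mul, hcompat, Ideal.Quotient.eq_zero_iff_mem.mpr (Ideal.mem_map_of_mem _ he),
        zero_mul, add_zero, map_zero] at h2
      have h3 := congrArg (MvPolynomial.coeff i) (ginj (h2.trans (map_zero g).symm))
      rw [MvPolynomial.coeff_map, hi, map_one, MvPolynomial.coeff_zero] at h3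
      exact one_ne_zero h3
  rcases s with _ | s
  · have : IsAdicComplete (I.map (algebraMap R R)) R := by
      rw [Algebra.algebraMap_self, Ideal.map_id]; infer_instance
    let ev : P →ₐ[R] R := complLift (P := MvPolynomial (Fin 0) R) (MvPolynomial.aeval isEmptyElim)
    have hev : (Algebra.ofId R P).comp ev = AlgHom.id R P := by
      refine algHom_ext_compl (P := MvPolynomial (Fin 0) R) hI fun p ↦ ?_
      rw [AlgHom.comp_apply, AlgHom.id_apply, complLift_of, MvPolynomial.eq_C_of_isEmpty p,
        MvPolynomial.aeval_C, ← MvPolynomial.algebraMap_eq,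
        ← IsScalarTower.algebraMap_apply R (MvPolynomial (Fin 0) R) P]
      rfl
    have : Module.Finite R P := Module.Finite.of_surjective (Algebra.linearMap R P)
      fun a ↦ ⟨ev a, congrArg (fun φ : P →ₐ[R] P ↦ φ a) hev⟩
    exact Module.Finite.trans P D
  · exfalso
    let y : P := algebraMap (MvPolynomial (Fin (s + 1)) R) P (MvPolynomial.X 0)
    have hty : algebraMap R P t ∈ (Ideal.span {y}).radical := by
      rw [Ideal.radical_eq_sInf, Submodule.mem_sInf]
      rintro q ⟨hyq, hq⟩
      obtain ⟨Q, -, hQp, hQ⟩ := Ideal.exists_ideal_over_prime_of_isIntegral q (⊥ : Ideal D)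
        (fun a ha ↦ by
          rw [Ideal.mem_comap, Ideal.mem_bot] at ha
          rw [hψinj (ha.trans (map_zero ψ).symm)]
          exact zero_mem _)
      have hyQ : ψ y ∈ Q := by
        have : y ∈ Q.comap (algebraMap P D) := by rw [hQ]; exact hyq (Ideal.mem_span_singleton_self y)
        exact this
      rw [← hQ, Ideal.mem_comap, ← IsScalarTower.algebraMap_apply]
      have hψy : ψ y ≠ 0 := fun h0 ↦ by
        have h1 : (MvPolynomial.X 0 : MvPolynomial (Fin (s + 1)) k) = 0 := by
          apply ginj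
          have := hcompat (MvPolynomial.X 0)
          rw [← hψ] at this
          simp only [MvPolynomial.map_X] at this
          rw [← this, show algebraMap (MvPolynomial (Fin (s + 1)) R) P (MvPolynomial.X 0) = y from rfl,
            h0, map_zero, map_zero]
        exact MvPolynomial.X_ne_zero 0 h1
      obtain ⟨N', hN'⟩ := hdvd _ hψy
      exact hQp.mem_of_pow_mem N' (Q.mem_of_dvd hN' hyQ)
    obtain ⟨M, hM⟩ := hty
    rw [Ideal.mem_span_singleton] at hM
    have : IsAdicComplete (I.map (algebraMap R R)) R := by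
      rw [Algebra.algebraMap_self, Ideal.map_id]; infer_instance
    let ev : P →ₐ[R] R := complLift (P := MvPolynomial (Fin (s + 1)) R) (MvPolynomial.aeval 0)
    have h4 := map_dvd ev hM
    rw [map_pow, AlgHom.commutes] at h4
    rw [show ev y = 0 from (complLift_of _ _).trans (by simp), zero_dvd_iff] at h4
    exact pow_ne_zero M ht h4

end Groth.Agent.AdicRingLib
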