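import Mathlib
import Groth.Prelude.Def_W4bk4boschfrg79
import Groth.Agent.AdicRingLib.Completion
import Groth.Agent.AdicRingLib.Coherent
import Groth.Agent.AdicRingLib.Height1

/-!
Finite extensions of topologically finite type algebras.
-/

set_option autoImplicit false
universe u

namespace Groth.Agent.AdicRingLib

variable {R : Type u} [CommRing R] {I : Ideal R}

theorem isBase_valuation [IsDomain R] [ValuationRing R] [Ring.KrullDimLE 1 R] (t : R) (ht : t ≠ 0)
    [IsAdicComplete (Ideal.span {t}) R] : AdicRing.IsBase R (Ideal.span {t}) :=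
  ⟨inferInstance, Or.inr ⟨inferInstance, inferInstance, inferInstance, t, ht, rfl⟩⟩

/-- A finite algebra over a complete algebra is complete. -/
theorem isAdicComplete_of_finite_algebra (hR : AdicRing.IsBase R I) {A : Type u} [CommRing A] [Algebra R A]
    (hA : AdicRing.TopFiniteType R I A) (C : Type u) [CommRing C] [Algebra R C] [Algebra A C]
    [IsScalarTower R A C] [Module.Finite A C] : IsAdicComplete (I.map (algebraMap R C)) C := by
  have h := isAdicComplete_of_finite hR hA C
  rw [IsScalarTower.algebraMap_eq R A C, ← Ideal.map_map]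
  exact (IsAdicComplete.map_algebraMap_iff (I.map (algebraMap R A)) C (S := C)).mpr h

/-- A finite algebra over a topologically finite type algebra is topologically of finite type. -/
theorem topFiniteType_of_finite (hR : AdicRing.IsBase R I) {A : Type u} [CommRing A] [Algebra R A]
    (hA : AdicRing.TopFiniteType R I A) (C : Type u) [CommRing C] [Algebra R C] [Algebra A C]
    [IsScalarTower R A C] [Module.Finite A C] : AdicRing.TopFiniteType R I C := by
  classical
  have hI := isBase_fg hR
  obtain ⟨k, φ, hφ⟩ := topFiniteType_exists_compl hA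
  haveI := isAdicComplete_of_finite_algebra hR hA C
  obtain ⟨m, b, hb⟩ := Module.Finite.exists_fin (R := A) (M := C)
  let v : Fin (k + m) → C :=
    Fin.append (fun i => algebraMap A C (φ (algebraMap (MvPolynomial (Fin k) R) _ (MvPolynomial.X i)))) b
  let ψ : Compl I (MvPolynomial (Fin (k + m)) R) →ₐ[R] C := complLift (MvPolynomial.aeval v)
  haveI := isAdicComplete_compl (I := I) (P := MvPolynomial (Fin (k + m)) R) hI
  let j : Compl I (MvPolynomial (Fin k) R) →ₐ[R] Compl I (MvPolynomial (Fin (k + m)) R) :=
    complLift ((IsScalarTower.toAlgHom R (MvPolynomial (Fin (k + m)) R) _).comp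
      (MvPolynomial.rename (Fin.castAdd m)))
  have hj : ψ.comp j = (IsScalarTower.toAlgHom R A C).comp φ := by
    refine algHom_ext_compl hI fun p => ?_
    have h1 : ψ (j (algebraMap _ _ p)) = MvPolynomial.aeval v (MvPolynomial.rename (Fin.castAdd m) p) := by
      rw [complLift_of, AlgHom.comp_apply, IsScalarTower.toAlgHom_apply, complLift_of]
    rw [AlgHom.comp_apply, h1]
    exact DFunLike.congr_fun (show (MvPolynomial.aeval v).comp (MvPolynomial.rename (Fin.castAdd m)) =
      ((IsScalarTower.toAlgHom R A C).comp φ).comp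
        (IsScalarTower.toAlgHom R (MvPolynomial (Fin k) R) _) from
      MvPolynomial.algHom_ext fun i => by simp [v]; rfl) p
  refine ⟨k + m, ψ, fun x => ?_⟩
  obtain ⟨a, rfl⟩ := (Submodule.mem_span_range_iff_exists_fun A).1 (hb.ge (show x ∈ ⊤ from trivial))
  choose z hz using fun i => hφ (a i)
  refine ⟨(∑ i, j (z i) * algebraMap (MvPolynomial (Fin (k + m)) R) (Compl I (MvPolynomial (Fin (k + m)) R)) (MvPolynomial.X (Fin.natAdd k i)) : Compl I (MvPolynomial (Fin (k + m)) R)), ?_⟩
  refine (map_sum ψ _ _).trans (Finset.sum_congr rfl fun i _ => ?_)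
  rw [map_mul, ← AlgHom.comp_apply ψ j, hj, complLift_of, MvPolynomial.aeval_X, AlgHom.comp_apply, hz]
  simp [v, Algebra.smul_def]

end Groth.Agent.AdicRingLib

namespace Groth.Agent.AdicRingLib
open TensorProduct

variable {R : Type u} [CommRing R] [IsDomain R] [ValuationRing R] [Ring.KrullDimLE 1 R] {t : R} (ht : t ≠ 0) [IsAdicComplete (Ideal.span {t}) R]

include ht in
theorem isLocalization_tensor_fractionRing (A : Type u) [CommRing A] [Algebra R A] :
    IsLocalization (Algebra.algebraMapSubmonoid A (Submonoid.powers t)) (A ⊗[R] FractionRing R) := by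
  haveI : IsLocalization (Submonoid.powers t) (FractionRing R) := by
    refine (IsLocalization.iff_of_le_of_exists_dvd (M := Submonoid.powers t) (nonZeroDivisors R)
      (powers_le_nonZeroDivisors_of_noZeroDivisors ht) fun c hc ↦ ?_).mpr inferInstance
    obtain ⟨N, hN⟩ := AdicRingLib.exists_dvd_pow (t := t) (nonZeroDivisors.ne_zero hc)
    exact ⟨t ^ N, ⟨N, rfl⟩, hN⟩
  exact IsLocalization.tensor _ _

include ht in
theorem injective_tensor_fractionRing {A : Type u} [CommRing A] [Algebra R A]
    (hA : AdicRing.NoPowTorsion (Ideal.span {t}) A) : Function.Injective (algebraMap A (A ⊗[R] FractionRing R)) := by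
  haveI := isLocalization_tensor_fractionRing ht A
  rw [injective_iff_map_eq_zero]
  intro x hx
  obtain ⟨⟨_, _, ⟨N, rfl⟩, rfl⟩, hm⟩ :=
    (IsLocalization.map_eq_zero_iff (Algebra.algebraMapSubmonoid A (Submonoid.powers t)) (A ⊗[R] FractionRing R) x).1 hx
  refine hA x N fun a ha => ?_
  rw [Ideal.span_singleton_pow, Ideal.mem_span_singleton'] at ha
  obtain ⟨b, rfl⟩ := ha
  rw [mul_smul, Algebra.smul_def (t ^ N), hm, smul_zero]

theorem noPowTorsion_tensor_fractionRing {A : Type u} [CommRing A] [Algebra R A] (ht : t ≠ 0)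
    {x : A ⊗[R] FractionRing R} {N : ℕ} (hx : (t ^ N) • x = 0) : x = 0 := by
  haveI := isLocalization_tensor_fractionRing ht A
  rw [← algebraMap_smul (A ⊗[R] FractionRing R) (t ^ N) x, IsScalarTower.algebraMap_apply R A (A ⊗[R] FractionRing R), smul_eq_mul] at hx
  exact ((IsLocalization.map_units (A ⊗[R] FractionRing R)
    (⟨algebraMap R A (t ^ N), t ^ N, ⟨N, rfl⟩, rfl⟩ : Algebra.algebraMapSubmonoid A (Submonoid.powers t))).mul_right_eq_zero).1 hx

end Groth.Agent.AdicRingLib
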