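import Groth.Agent.AdicRingLib.FiniteTypeAlg

/-! The chart algebras of blowing-ups. -/

set_option autoImplicit false

universe u v

namespace Groth.Agent.AdicRingLib

variable {A : Type u} [CommRing A] {ι : Type} (f : ι → A) (i : ι)

theorem chart_rel (j : {j : ι // j ≠ i}) :
    ∃ z : AdicRing.chartAlg f i, algebraMap A (AdicRing.chartAlg f i) (f i) * z =
      algebraMap A (AdicRing.chartAlg f i) (f j.1) := by
  refine ⟨Ideal.Quotient.mk _ (MvPolynomial.X j), ?_⟩
  rw [IsScalarTower.algebraMap_apply A (MvPolynomial {j : ι // j ≠ i} A) (AdicRing.chartAlg f i),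
    IsScalarTower.algebraMap_apply A (MvPolynomial {j : ι // j ≠ i} A) (AdicRing.chartAlg f i),
    MvPolynomial.algebraMap_eq, Ideal.Quotient.algebraMap_eq, ← map_mul]
  exact Ideal.Quotient.eq.mpr (Ideal.subset_span ⟨j, rfl⟩)

theorem chart_rep (p : AdicRing.chartAlg f i) :
    ∃ (N : ℕ) (a : A), algebraMap A (AdicRing.chartAlg f i) (f i) ^ N * p = algebraMap A _ a := by
  obtain ⟨q, rfl⟩ := Ideal.Quotient.mk_surjective p
  induction q using MvPolynomial.induction_on with
  | C a =>
    refine ⟨0, a, ?_⟩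
    rw [pow_zero, one_mul, IsScalarTower.algebraMap_apply A (MvPolynomial {j : ι // j ≠ i} A) (AdicRing.chartAlg f i),
      MvPolynomial.algebraMap_eq, Ideal.Quotient.algebraMap_eq]
  | add p q hp hq =>
    obtain ⟨N, a, ha⟩ := hp
    obtain ⟨M, b, hb⟩ := hq
    refine ⟨N + M, f i ^ M * a + f i ^ N * b, ?_⟩
    simp only [map_add, map_mul, map_pow, ← ha, ← hb]
    ring
  | mul_X p j hp =>
    obtain ⟨N, a, ha⟩ := hp
    refine ⟨N + 1, a * f j.1, ?_⟩
    have hj : algebraMap A (AdicRing.chartAlg f i) (f i) * Ideal.Quotient.mk _ (MvPolynomial.X j) =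
        algebraMap A (AdicRing.chartAlg f i) (f j.1) := by
      rw [IsScalarTower.algebraMap_apply A (MvPolynomial {j : ι // j ≠ i} A) (AdicRing.chartAlg f i),
        IsScalarTower.algebraMap_apply A (MvPolynomial {j : ι // j ≠ i} A) (AdicRing.chartAlg f i),
        MvPolynomial.algebraMap_eq, Ideal.Quotient.algebraMap_eq, ← map_mul]
      exact Ideal.Quotient.eq.mpr (Ideal.subset_span ⟨j, rfl⟩)
    rw [map_mul, map_mul, ← ha, ← hj, pow_succ]
    ring

theorem chart_exists_algHom {L : Type v} [CommRing L] [Algebra A L] (v : L)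
    (hv : algebraMap A L (f i) * v = 1) : Nonempty (AdicRing.chartAlg f i →ₐ[A] L) := by
  let φ : MvPolynomial {j : ι // j ≠ i} A →ₐ[A] L := MvPolynomial.aeval fun j ↦ algebraMap A L (f j.1) * v
  have hφ : ∀ z ∈ Ideal.span (Set.range fun j : {j : ι // j ≠ i} ↦
      MvPolynomial.C (f i) * MvPolynomial.X j - MvPolynomial.C (f j.1)), φ z = 0 := by
    intro z hz
    refine Submodule.span_induction ?_ (map_zero φ) (fun x y _ _ hx hy ↦ by rw [map_add, hx, hy, add_zero])
      (fun c x _ hx ↦ by rw [smul_eq_mul, map_mul, hx, mul_zero]) hz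
    rintro _ ⟨j, rfl⟩
    simp only [φ, map_sub, map_mul, MvPolynomial.aeval_C, MvPolynomial.aeval_X]
    rw [mul_left_comm, hv, mul_one, sub_self]
  exact ⟨Ideal.Quotient.liftₐ _ φ hφ⟩

theorem chart_algebraMap_eq_zero (b : A) (hb : algebraMap A (AdicRing.chartAlg f i) b = 0) :
    ∃ M : ℕ, f i ^ M * b = 0 := by
  obtain ⟨v, hv⟩ := (IsLocalization.Away.algebraMap_isUnit (S := Localization.Away (f i)) (f i)).exists_right_inv
  obtain ⟨g⟩ := chart_exists_algHom f i v hv
  have h0 : algebraMap A (Localization.Away (f i)) b = 0 := by rw [← g.commutes, hb, map_zero]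
  obtain ⟨⟨_, M, rfl⟩, hM⟩ := (IsLocalization.map_eq_zero_iff (Submonoid.powers (f i)) (Localization.Away (f i)) b).mp h0
  exact ⟨M, hM⟩

/-- An element of the chart killed by elements generating a "torsion free" family is killed by a
power of the chart generator. -/
theorem chart_exists_pow_mul_eq_zero {r : ℕ} (e : Fin r → A)
    (he : ∀ a : A, (∀ j, e j * a = 0) → a = 0) (τ : AdicRing.chartAlg f i)
    (hτ : ∀ j, algebraMap A _ (e j) * τ = 0) :
    ∃ N : ℕ, algebraMap A (AdicRing.chartAlg f i) (f i) ^ N * τ = 0 := by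
  classical
  obtain ⟨N, a, ha⟩ := chart_rep f i τ
  have hM : ∀ j, ∃ M : ℕ, f i ^ M * (e j * a) = 0 := fun j ↦ by
    refine chart_algebraMap_eq_zero f i _ ?_
    rw [map_mul, ← ha, mul_left_comm, hτ, mul_zero]
  choose M hM using hM
  refine ⟨Finset.univ.sup M + N, ?_⟩
  have ha0 : f i ^ Finset.univ.sup M * a = 0 := by
    refine he _ fun j ↦ ?_
    obtain ⟨d, hd⟩ := Nat.exists_eq_add_of_le (Finset.le_sup (f := M) (Finset.mem_univ j))
    rw [hd, pow_add, show e j * (f i ^ M j * f i ^ d * a) = f i ^ d * (f i ^ M j * (e j * a)) by ring, hM, mul_zero]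
  rw [pow_add, mul_assoc, ha, ← map_pow, ← map_mul, ha0, map_zero]

end Groth.Agent.AdicRingLib
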