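import Groth.Agent.AdicRingLib.RigPoints

/-! The integral closure of a complete valuation ring of height one in an algebraic field extension. -/

set_option autoImplicit false

universe u v w

namespace Groth.Agent.AdicRingLib

open Ideal IsLocalRing

variable {R : Type u} [CommRing R] [IsDomain R] [ValuationRing R] [Ring.KrullDimLE 1 R]
variable {t : R} (ht : t ≠ 0) [IsAdicComplete (Ideal.span {t}) R]
variable (L : Type v) [Field L] [Algebra R L] [FaithfulSMul R L]

include ht in
theorem isLocalRing_integralClosure : IsLocalRing (integralClosure R L) := by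
  set C := integralClosure R L
  have hCint : ∀ c : C, IsIntegral R c := fun c ↦
    (isIntegral_algHom_iff C.val Subtype.val_injective).mp c.2
  refine IsLocalRing.of_nonunits_add fun a b ha hb hab ↦ ?_
  let T := Algebra.adjoin R ({a, b} : Set C)
  have : Module.Finite R T :=
    Module.Finite.iff_fg.mpr (fg_adjoin_of_finite (Set.toFinite _) fun x _ ↦ hCint x)
  have hTinj : Function.Injective (algebraMap R T) := fun r r' h ↦
    FaithfulSMul.algebraMap_injective R L (congrArg (fun z : T ↦ ((z : C) : L)) h)
  have : IsLocalRing T := isLocalRing_of_finite_domain (B := T) ht hTinj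
  let aT : T := ⟨a, Algebra.subset_adjoin (by simp)⟩
  let bT : T := ⟨b, Algebra.subset_adjoin (by simp)⟩
  have hTC : IsLocalHom T.val.toRingHom := RingHom.IsIntegral.isLocalHom (fun c ↦
    (hCint c).tower_top (A := T)) Subtype.val_injective
  exact IsLocalRing.nonunits_add (a := aT) (b := bT) (fun h ↦ ha (h.map T.val)) (fun h ↦ hb (h.map T.val))
    (hTC.map_nonunit (aT + bT) hab)

include ht in
theorem mem_or_inv_mem_integralClosure {x : L} (hx : IsAlgebraic R x) :
    x ∈ integralClosure R L ∨ x⁻¹ ∈ integralClosure R L := by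
  set C := integralClosure R L
  have := isLocalRing_integralClosure ht L
  have : IsLocalRing C.toSubring := inferInstanceAs (IsLocalRing C)
  have hS : ∀ y : L, IsIntegral C.toSubring y → y ∈ C.toSubring := fun y hy ↦ by
    have : IsIntegral C y := hy
    exact isIntegral_trans (R := R) y this
  obtain ⟨Q, hQ0, hQ⟩ := hx
  obtain ⟨i₀, hi₀, hdiv⟩ := exists_dvd_all Q.coeff Q.natDegree
  have hc0 : Q.coeff i₀ ≠ 0 := fun h ↦ by
    have := hdiv Q.natDegree le_rfl
    rw [h, zero_dvd_iff] at this
    exact hQ0 (Polynomial.leadingCoeff_eq_zero.mp this)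
  choose d hd using hdiv
  let e : ℕ → C.toSubring := fun j ↦ if hj : j ≤ Q.natDegree then
    ⟨algebraMap R L (d j hj), isIntegral_algebraMap⟩ else 0
  have hsum : ∑ j ∈ Finset.range (Q.natDegree + 1), (e j : L) * x ^ j = 0 := by
    refine mul_left_cancel₀ (a := algebraMap R L (Q.coeff i₀))
      (fun h ↦ hc0 (FaithfulSMul.algebraMap_injective R L (by rw [h, map_zero]))) ?_
    rw [Polynomial.aeval_eq_sum_range] at hQ
    rw [mul_zero, Finset.mul_sum, ← hQ]
    refine Finset.sum_congr rfl fun j hj ↦ ?_
    simp only [e, dif_pos (Finset.mem_range_succ_iff.mp hj)]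
    rw [← mul_assoc, ← map_mul, ← hd, Algebra.smul_def]
  refine mem_or_inv_mem hS x _ e hsum ⟨i₀, hi₀, ?_⟩
  have : d i₀ hi₀ = 1 := mul_left_cancel₀ hc0 (by rw [← hd i₀ hi₀, mul_one])
  simp only [e, dif_pos hi₀, this, map_one]
  exact isUnit_one

end Groth.Agent.AdicRingLib
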