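import Groth.Prelude.Def_FSch3
import Groth.Agent.RegLocus.CplDescendHom
import Groth.Agent.AdicNoeth.Basic

/-!
Flatness of the map of completions induced by a flat map of Noetherian rings.
-/

set_option autoImplicit false
set_option backward.isDefEq.respectTransparency false
universe u

namespace Groth.Agent.AdicRingLib

theorem complMap_algebraMap {A B : Type u} [CommRing A] [CommRing B] (I : Ideal A) (K : Ideal B) (g : A →+* B)
    (h : I.map g ≤ K) (a : A) :
    FSch.complMap I K g h (algebraMap A (AdicCompletion I A) a) = algebraMap B (AdicCompletion K B) (g a) := by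
  refine AdicCompletion.ext_evalₐ fun n => ?_
  have hev : AdicCompletion.evalₐ K n (FSch.complMap I K g h (algebraMap A (AdicCompletion I A) a)) =
      Ideal.quotientMap (K ^ n) g (FSch.pow_le_comap_pow_of_map_le I K g h n)
        (AdicCompletion.evalₐ I n (algebraMap A (AdicCompletion I A) a)) := by
    delta FSch.complMap
    rw [← AdicCompletion.factor_eval_eq_evalₐ K _ (le_of_eq (Ideal.mul_top _))]
    simp [AdicCompletion.liftRingHom, AdicCompletion.eval]
  rw [hev]
  simp [AdicCompletion.algebraMap_apply]

theorem complMap_flat {A B : Type u} [CommRing A] [CommRing B] [IsNoetherianRing A] [IsNoetherianRing B]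
    (I : Ideal A) (K : Ideal B) (g : A →+* B) (hg : g.Flat) (h : I.map g ≤ K) :
    (FSch.complMap I K g h).Flat := by
  haveI : IsNoetherianRing (AdicCompletion I A) := AdicNoeth.isNoetherianRing_adicCompletion _
  haveI : IsNoetherianRing (AdicCompletion K B) := AdicNoeth.isNoetherianRing_adicCompletion _
  let := g.toAlgebra
  let := (FSch.complMap I K g h).toAlgebra
  haveI : Module.Flat A B := hg
  haveI : Module.Flat A (AdicCompletion K B) := Module.Flat.trans A B (AdicCompletion K B)
  haveI : IsScalarTower A (AdicCompletion I A) (AdicCompletion K B) := IsScalarTower.of_algebraMap_eq fun a => by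
    rw [RingHom.algebraMap_toAlgebra (FSch.complMap I K g h), complMap_algebraMap,
      IsScalarTower.algebraMap_apply A B (AdicCompletion K B)]
    rfl
  refine RegLocus.flat_of_dense A (AdicCompletion I A) (AdicCompletion K B) I ?_ fun n x => ?_
  · rw [IsScalarTower.algebraMap_eq A B (AdicCompletion K B), ← Ideal.map_map]
    haveI := AdicCompletion.isAdicComplete_self K (IsNoetherian.noetherian K)
    exact (Ideal.map_mono h).trans (IsAdicComplete.le_jacobson_bot _)
  · obtain ⟨a, ha⟩ := Submodule.Quotient.mk_surjective _ (AdicCompletion.eval I A n x)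
    refine ⟨a, ?_⟩
    have hx : x - algebraMap A (AdicCompletion I A) a ∈ (AdicCompletion.eval I A n).ker := by
      rw [LinearMap.mem_ker, map_sub, sub_eq_zero, ← ha]
      rfl
    rw [← AdicCompletion.pow_smul_top_eq_ker_eval (IsNoetherian.noetherian _), Ideal.smul_top_eq_map,
      Submodule.restrictScalars_mem] at hx
    exact hx

end Groth.Agent.AdicRingLib
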