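import Groth.Agent.AdicRingLib.PolySaturated

/-! Finitely generated algebras over topologically finite type algebras: saturated submodules,
Artin--Rees and completions. -/

set_option autoImplicit false

universe u v w

namespace Groth.Agent.AdicRingLib

open Ideal IsLocalRing MvPolynomial

section Poly

variable {R : Type u} [CommRing R] [IsDomain R] [ValuationRing R] [Ring.KrullDimLE 1 R] {t : R}
  (ht : t ≠ 0) [IsAdicComplete (Ideal.span {t}) R] {n m : ℕ}

include ht in
set_option maxHeartbeats 800000 in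
theorem fg_of_saturated_poly_pi {s : ℕ}
    (N : Submodule (MvPolynomial (Fin m) (Compl (Ideal.span {t}) (MvPolynomial (Fin n) R)))
      (Fin s → MvPolynomial (Fin m) (Compl (Ideal.span {t}) (MvPolynomial (Fin n) R))))
    (hsat : ∀ (c : R) x, c ≠ 0 →
      (MvPolynomial.C (algebraMap R (Compl (Ideal.span {t}) (MvPolynomial (Fin n) R)) c) :
        MvPolynomial (Fin m) (Compl (Ideal.span {t}) (MvPolynomial (Fin n) R))) • x ∈ N → x ∈ N) :
    N.FG := by
  classical
  let A := Compl (Ideal.span {t}) (MvPolynomial (Fin n) R)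
  let Q := MvPolynomial (Fin m) A
  let fn := finSumFinEquiv (m := m) (n := s)
  let v : Fin m ⊕ Fin s → TrivSqZeroExt Q (Fin s → Q) :=
    Sum.elim (fun i ↦ TrivSqZeroExt.inl (X i)) (fun j ↦ TrivSqZeroExt.inr (Pi.single j 1))
  let Q' := MvPolynomial (Fin (m + s)) A
  let Ψ : Q' →ₐ[A] TrivSqZeroExt Q (Fin s → Q) := aeval (v ∘ fn.symm)
  let ι : Q →ₐ[A] Q' := rename (fn ∘ Sum.inl)
  have hΨι : ∀ a, Ψ (ι a) = TrivSqZeroExt.inl a := by
    intro a
    refine (aeval_rename _ _ _).trans ?_
    exact congrArg (fun F : Q →ₐ[A] TrivSqZeroExt Q (Fin s → Q) ↦ F a)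
      (show aeval ((v ∘ fn.symm) ∘ fn ∘ Sum.inl) = TrivSqZeroExt.inlAlgHom A Q (Fin s → Q) from
        MvPolynomial.algHom_ext fun i ↦ by simp [v]; rfl)
  have hΨe : ∀ j, Ψ (X (fn (Sum.inr j))) = TrivSqZeroExt.inr (Pi.single j (1 : Q)) := fun j ↦ by
    exact (aeval_X _ _).trans (by simp [v])
  have hsurj : ∀ y : Fin s → Q, ∃ x, Ψ x = TrivSqZeroExt.inr y := by
    intro y
    refine ⟨∑ j, ι (y j) * X (fn (Sum.inr j)), ?_⟩
    simp only [map_sum, map_mul, hΨι, hΨe]
    rw [Finset.sum_congr rfl (g := fun j ↦ (TrivSqZeroExt.inr (y j • Pi.single j (1 : Q)) : TrivSqZeroExt Q (Fin s → Q)))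
      (fun j _ ↦ TrivSqZeroExt.inl_mul_inr _ _), ← TrivSqZeroExt.inr_sum]
    congr 1
    exact (pi_eq_sum_univ' y).symm
  let W : Ideal (TrivSqZeroExt Q (Fin s → Q)) :=
    { carrier := {z | z.fst = 0 ∧ z.snd ∈ N}
      add_mem' := fun ha hb ↦ ⟨by simp [ha.1, hb.1], by simpa using N.add_mem ha.2 hb.2⟩
      zero_mem' := ⟨by simp, by simp⟩
      smul_mem' := fun c z hz ↦ ⟨by simp [hz.1], by
        simpa [hz.1] using N.smul_mem c.fst hz.2⟩ }
  let N' := W.comap Ψ.toRingHom
  have hN' : ∀ (c : R) x, c ≠ 0 → (C (algebraMap R A c) : Q') * x ∈ N' → x ∈ N' := by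
    intro c x hc hx
    have h1 : Ψ ((C (algebraMap R A c) : Q') * x) ∈ W := hx
    rw [map_mul, show Ψ (C (algebraMap R A c)) = TrivSqZeroExt.inl (C (algebraMap R A c) : Q) from aeval_C _ _] at h1
    obtain ⟨h2, h3⟩ := h1
    rw [TrivSqZeroExt.fst_mul, TrivSqZeroExt.fst_inl] at h2
    have hfx : (Ψ x).fst = 0 := MvPolynomial.ext _ _ fun d ↦ by
      have := congrArg (coeff d) h2
      rw [coeff_C_mul, coeff_zero] at this
      rw [coeff_zero]
      exact noTorsion_compl' ht hc _ this
    rw [TrivSqZeroExt.snd_mul, TrivSqZeroExt.fst_inl, TrivSqZeroExt.snd_inl, smul_zero, add_zero] at h3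
    exact ⟨hfx, hsat c _ hc h3⟩
  obtain ⟨G, hG⟩ := fg_of_saturated_poly ht N' hN'
  refine ⟨G.image fun g ↦ (Ψ g).snd, le_antisymm (Submodule.span_le.mpr ?_) fun y hy ↦ ?_⟩
  · intro z hz
    simp only [Finset.coe_image, Set.mem_image] at hz
    obtain ⟨g, hg, rfl⟩ := hz
    have : g ∈ N' := hG ▸ Submodule.subset_span hg
    exact this.2
  · obtain ⟨x, hx⟩ := hsurj y
    have hxN : x ∈ N' := by
      change Ψ x ∈ W
      rw [hx]
      exact ⟨rfl, hy⟩
    rw [← hG] at hxN
    have key : (Ψ x).fst = 0 ∧ (Ψ x).snd ∈ Submodule.span Q ↑(G.image fun g ↦ (Ψ g).snd) := by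
      clear hx
      induction hxN using Submodule.span_induction with
      | mem g hg =>
        have : g ∈ N' := hG ▸ Submodule.subset_span hg
        exact ⟨this.1, Submodule.subset_span (Finset.mem_coe.mpr (Finset.mem_image_of_mem _ hg))⟩
      | zero => rw [map_zero]; exact ⟨rfl, zero_mem _⟩
      | add a b _ _ iha ihb =>
        rw [map_add, TrivSqZeroExt.fst_add, TrivSqZeroExt.snd_add, iha.1, ihb.1]
        exact ⟨add_zero 0, add_mem iha.2 ihb.2⟩
      | smul c a _ ih =>
        rw [smul_eq_mul, map_mul, TrivSqZeroExt.fst_mul, TrivSqZeroExt.snd_mul, ih.1, mul_zero,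
          MulOpposite.op_zero, zero_smul, add_zero]
        exact ⟨rfl, Submodule.smul_mem (Submodule.span Q _) (Ψ c).fst ih.2⟩
    have h2 := key.2
    rw [hx] at h2
    exact h2

end Poly

section General

variable {R : Type u} [CommRing R] {I : Ideal R}
  {A : Type u} [CommRing A] [Algebra R A] {C : Type u} [CommRing C] [Algebra R C] [Algebra A C]
  [IsScalarTower R A C] [Algebra.FiniteType A C]

theorem isNoetherianRing_finiteTypeAlg [IsNoetherianRing R] (hA : AdicRing.TopFiniteType R I A) :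
    IsNoetherianRing C :=
  have := isNoetherianRing_topFiniteType hA
  Algebra.FiniteType.isNoetherianRing A C

theorem fg_of_isSat_finiteTypeAlg (hR : AdicRing.IsBase R I) (hA : AdicRing.TopFiniteType R I A)
    {M : Type v} [AddCommGroup M] [Module C M] [Module.Finite C M] (N : Submodule C M) (hN : IsSat I N) :
    N.FG := by
  classical
  obtain ⟨hc, ⟨hNoeth, -⟩ | ⟨hdom, hpre, hdim, t, ht, rfl⟩⟩ := hR
  · have := isNoetherianRing_finiteTypeAlg (C := C) hA
    exact IsNoetherian.noetherian N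
  have : ValuationRing R := { }
  obtain ⟨n, φ, hφ⟩ := topFiniteType_exists_compl hA
  let A₀ := Compl (Ideal.span {t}) (MvPolynomial (Fin n) R)
  obtain ⟨m, g, hg⟩ := Algebra.FiniteType.iff_quotient_mvPolynomial''.mp ‹Algebra.FiniteType A C›
  let Q := MvPolynomial (Fin m) A₀
  let π : Q →+* C := g.toRingHom.comp (MvPolynomial.map φ.toRingHom)
  have hπ : Function.Surjective π := hg.comp (MvPolynomial.map_surjective _ hφ)
  have hπC : ∀ c : R, π (MvPolynomial.C (algebraMap R A₀ c)) = algebraMap R C c := fun c ↦ by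
    change g (MvPolynomial.map φ.toRingHom (MvPolynomial.C (algebraMap R A₀ c))) = _
    rw [MvPolynomial.map_C, ← MvPolynomial.algebraMap_eq, g.commutes]
    change algebraMap A C (φ (algebraMap R A₀ c)) = _
    rw [φ.commutes, ← IsScalarTower.algebraMap_apply]
  let : Algebra Q C := π.toAlgebra
  let : Module Q M := Module.compHom M π
  have : IsScalarTower Q C M := ⟨fun a b m ↦ by
    change (π a * b) • m = π a • b • m
    rw [mul_smul]⟩
  obtain ⟨s, F, hF⟩ := Module.Finite.exists_fin' C M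
  let F₀ : (Fin s → Q) →ₗ[Q] M := (F.restrictScalars Q).comp (LinearMap.compLeft (Algebra.linearMap Q C) (Fin s))
  have hF₀ : Function.Surjective F₀ := fun m ↦ by
    obtain ⟨v, rfl⟩ := hF m
    choose w hw using fun j ↦ hπ (v j)
    exact ⟨w, congrArg F (funext hw)⟩
  have hsat : ∀ (c : R) x, c ≠ 0 → (MvPolynomial.C (algebraMap R A₀ c) : Q) • x ∈ (N.restrictScalars Q).comap F₀ →
      x ∈ (N.restrictScalars Q).comap F₀ := by
    intro c x hc hx
    obtain ⟨k, e, he⟩ := exists_dvd_pow (t := t) hc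
    rw [Submodule.mem_comap, map_smul, Submodule.restrictScalars_mem] at hx
    change π _ • F₀ x ∈ N at hx
    rw [hπC] at hx
    refine hN (F₀ x) k fun a ha ↦ ?_
    rw [Ideal.span_singleton_pow, Ideal.mem_span_singleton] at ha
    obtain ⟨b, rfl⟩ := ha
    rw [he, mul_assoc, map_mul, mul_comm, mul_smul]
    exact N.smul_mem _ hx
  have h1 := (fg_of_saturated_poly_pi ht _ hsat).map F₀
  rw [Submodule.map_comap_eq_of_surjective hF₀] at h1
  obtain ⟨S, hS⟩ := h1
  refine ⟨S, le_antisymm (Submodule.span_le.mpr fun x hx ↦ ?_) fun x hx ↦ ?_⟩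
  · have : x ∈ N.restrictScalars Q := hS ▸ Submodule.subset_span hx
    exact this
  · have hx' : x ∈ Submodule.span Q (S : Set M) := by rw [hS]; exact hx
    exact Submodule.span_le_restrictScalars Q C (S : Set M) hx'

/-- A uniform Artin--Rees property with finitely generated error module. -/
theorem artinRees_finiteTypeAlg (hR : AdicRing.IsBase R I) (hA : AdicRing.TopFiniteType R I A)
    {M : Type v} [AddCommGroup M] [Module C M] [Module.Finite C M] (N : Submodule C M) :
    ∃ (K₀ : Submodule C M) (n₀ : ℕ), K₀ ≤ N ∧ K₀.FG ∧ ∀ m : ℕ,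
      ((I.map (algebraMap R C)) ^ (m + n₀) • (⊤ : Submodule C M)) ⊓ N ≤ (I.map (algebraMap R C)) ^ m • K₀ := by
  classical
  obtain ⟨hc, ⟨hNoeth, -⟩ | ⟨hdom, hpre, hdim, t, ht, rfl⟩⟩ := id hR
  · have := isNoetherianRing_finiteTypeAlg (C := C) hA
    obtain ⟨k, hk⟩ := (I.map (algebraMap R C)).exists_pow_inf_eq_pow_smul N
    refine ⟨N, k, le_rfl, IsNoetherian.noetherian N, fun m ↦ ?_⟩
    rw [hk (m + k) (Nat.le_add_left k m), Nat.add_sub_cancel]
    exact Submodule.smul_mono le_rfl inf_le_right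
  let τ := algebraMap R C t
  let N' : Submodule C M :=
    { carrier := {x | ∃ j, τ ^ j • x ∈ N}
      add_mem' := fun {x y} ⟨i, hi⟩ ⟨j, hj⟩ ↦ ⟨i + j, by
        rw [smul_add]
        refine add_mem ?_ ?_
        · rw [add_comm i j, pow_add, mul_smul]; exact N.smul_mem _ hi
        · rw [pow_add, mul_smul]; exact N.smul_mem _ hj⟩
      zero_mem' := ⟨0, by simp⟩
      smul_mem' := fun c x ⟨i, hi⟩ ↦ ⟨i, by rw [smul_comm]; exact N.smul_mem _ hi⟩ }
  have hsat : IsSat (Ideal.span {t}) N' := fun x m hx ↦ by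
    obtain ⟨j, hj⟩ := hx (t ^ m) (by rw [Ideal.span_singleton_pow]; exact Ideal.mem_span_singleton_self _)
    refine ⟨j + m, ?_⟩
    rw [map_pow] at hj
    rw [pow_add, mul_smul]
    exact hj
  obtain ⟨S, hS⟩ := fg_of_isSat_finiteTypeAlg (A := A) hR hA N' hsat
  choose j hj using fun x (hx : x ∈ S) ↦ (hS ▸ Submodule.subset_span hx : x ∈ N')
  let c := S.attach.sup fun x ↦ j x.1 x.2
  let K₀ := N'.map (LinearMap.lsmul C M (τ ^ c))
  have hK₀ : K₀ ≤ N := by
    rw [show K₀ = N'.map (LinearMap.lsmul C M (τ ^ c)) from rfl, ← hS, Submodule.map_span, Submodule.span_le]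
    rintro _ ⟨x, hx, rfl⟩
    change τ ^ c • x ∈ N
    obtain ⟨d, hd⟩ := Nat.exists_eq_add_of_le
      (Finset.le_sup (f := fun x : S ↦ j x.1 x.2) (Finset.mem_attach S ⟨x, hx⟩))
    change c = j x hx + d at hd
    rw [hd, add_comm, pow_add, mul_smul]
    exact N.smul_mem _ (hj x hx)
  refine ⟨K₀, c, hK₀, Submodule.FG.map _ ⟨S, hS⟩, fun m x ⟨hx, hxN⟩ ↦ ?_⟩
  obtain ⟨y, rfl⟩ := map_span_pow_smul_top hx
  rw [pow_add, mul_smul]
  exact Submodule.smul_mem_smul (Ideal.pow_mem_pow (Ideal.mem_map_of_mem _ (Ideal.mem_span_singleton_self t)) m)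
    ⟨y, ⟨m + c, hxN⟩, rfl⟩

theorem sub_mem_of_evals {S : Type u} [CommRing S] (J : Ideal S) {M : Type v} [AddCommGroup M] [Module S M]
    (f : AdicCompletion.AdicCauchySequence J M) {a b : ℕ} (h : a ≤ b) :
    f a - f b ∈ (J ^ a • ⊤ : Submodule S M) := SModEq.sub_mem.mp (f.2 h)

/-- Completion is exact on finite modules; comparison with the tensor product. -/
theorem ofTensorProduct_bijective (hR : AdicRing.IsBase R I) (hA : AdicRing.TopFiniteType R I A)
    (M : Type u) [AddCommGroup M] [Module C M] [Module.Finite C M] :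
    Function.Bijective (AdicCompletion.ofTensorProduct (I.map (algebraMap R C)) M) := by
  classical
  set J := I.map (algebraMap R C)
  refine ⟨?_, AdicCompletion.ofTensorProduct_surjective_of_finite J M⟩
  obtain ⟨s, g, hg⟩ := Module.Finite.exists_fin' C M
  obtain ⟨K₀, n₀, hle, hfg, hAR⟩ := artinRees_finiteTypeAlg (A := A) hR hA g.ker
  have : Module.Finite C K₀ := Module.Finite.iff_fg.mpr hfg
  have hbij := AdicCompletion.ofTensorProduct_bijective_of_pi_of_fintype J (Fin s)
  refine (injective_iff_map_eq_zero _).mpr fun z hz ↦ ?_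
  obtain ⟨z', rfl⟩ := LinearMap.lTensor_surjective (AdicCompletion J C) hg z
  let P := Fin s → C
  let Φ := AdicCompletion.ofTensorProduct J P
  have hnat : ∀ {X Y : Type u} [AddCommGroup X] [AddCommGroup Y] [Module C X] [Module C Y] (f : X →ₗ[C] Y)
      (w : TensorProduct C (AdicCompletion J C) X),
      AdicCompletion.ofTensorProduct J Y (f.lTensor (AdicCompletion J C) w) =
        AdicCompletion.map J f (AdicCompletion.ofTensorProduct J X w) := by
    intro X Y _ _ _ _ f w
    induction w with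
    | zero => simp
    | add a b ha hb => simp only [map_add, ha, hb]
    | tmul r x =>
      rw [LinearMap.lTensor_tmul, AdicCompletion.ofTensorProduct_tmul, AdicCompletion.ofTensorProduct_tmul,
        map_smul, AdicCompletion.map_of]
  rw [hnat] at hz
  obtain ⟨f, hf⟩ := AdicCompletion.mk_surjective J P (Φ z')
  rw [show AdicCompletion.ofTensorProduct J P z' = AdicCompletion.mk J P f from hf.symm] at hz
  have happrox : ∀ j, ∃ k ∈ g.ker, f j - k ∈ (J ^ j • ⊤ : Submodule C P) := by
    intro j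
    have := congrArg (fun y ↦ y.val j) hz
    simp only [AdicCompletion.val_zero_apply, AdicCompletion.map_mk] at this
    have h' : g (f j) ∈ (J ^ j • ⊤ : Submodule C M) := (Submodule.Quotient.mk_eq_zero _).mp this
    rw [← LinearMap.range_eq_top.mpr hg, LinearMap.range_eq_map, ← Submodule.map_smul''] at h'
    obtain ⟨u, hu, hue⟩ := h'
    exact ⟨f j - u, by simp [hue], by simpa using hu⟩
  choose k hk hfk using happrox
  have hkk : ∀ {a b : ℕ}, a ≤ b → k a - k b ∈ (J ^ a • ⊤ : Submodule C P) := fun {a b} hab ↦ by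
    have h1 := sub_mem_of_evals J f hab
    have h2 := Submodule.smul_mono_left (Ideal.pow_le_pow_right hab) (hfk b)
    have := sub_mem (add_mem h1 h2) (hfk a)
    simpa using this
  have hmem : ∀ j, k (j + n₀) - k n₀ ∈ K₀ := fun j ↦ by
    refine Submodule.smul_le_right (hAR 0 ⟨?_, sub_mem (hk _) (hk _)⟩)
    have := neg_mem (hkk (Nat.le_add_left n₀ j))
    rw [zero_add]
    simpa using this
  let e : AdicCompletion.AdicCauchySequence J K₀ := ⟨fun j ↦ ⟨k (j + n₀) - k n₀, hmem j⟩, fun {a b} hab ↦ by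
    rw [SModEq.sub_mem]
    have hd := hAR a ⟨hkk (Nat.add_le_add_right hab n₀), sub_mem (hk _) (hk _)⟩
    have hmap : (J ^ a • ⊤ : Submodule C K₀).map K₀.subtype = J ^ a • K₀ := by
      rw [Submodule.map_smul'', Submodule.map_top, Submodule.range_subtype]
    rw [← hmap] at hd
    obtain ⟨u, hu, hue⟩ := hd
    rwa [show (⟨k (a + n₀) - k n₀, hmem a⟩ : K₀) - ⟨k (b + n₀) - k n₀, hmem b⟩ = u from
      Subtype.ext (by
        change (k (a + n₀) - k n₀) - (k (b + n₀) - k n₀) = K₀.subtype u
        rw [hue]; abel)]⟩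
  have hx : Φ z' = AdicCompletion.of J P (k n₀) +
      AdicCompletion.map J K₀.subtype (AdicCompletion.mk J K₀ e) := by
    rw [← hf]
    refine AdicCompletion.ext fun j ↦ ?_
    rw [AdicCompletion.val_add_apply, AdicCompletion.map_mk]
    change Submodule.Quotient.mk (f j) = Submodule.Quotient.mk (k n₀) + Submodule.Quotient.mk (k (j + n₀) - k n₀)
    rw [← Submodule.Quotient.mk_add, add_sub_cancel, Submodule.Quotient.eq]
    have := add_mem (hfk j) (hkk (Nat.le_add_right j n₀))
    simpa using this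
  obtain ⟨w, hw⟩ := AdicCompletion.ofTensorProduct_surjective_of_finite J K₀ (AdicCompletion.mk J K₀ e)
  have hz' : z' = (1 : AdicCompletion J C) ⊗ₜ[C] (k n₀) + K₀.subtype.lTensor (AdicCompletion J C) w := by
    refine hbij.1 ?_
    rw [map_add, hnat, hw, AdicCompletion.ofTensorProduct_tmul, one_smul]
    exact hx
  rw [hz', map_add, LinearMap.lTensor_tmul, LinearMap.mem_ker.mp (hk n₀), TensorProduct.tmul_zero, zero_add,
    ← LinearMap.comp_apply, ← LinearMap.lTensor_comp,
    show g.comp K₀.subtype = 0 from LinearMap.ext fun x ↦ hle x.2, LinearMap.lTensor_zero,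
    LinearMap.zero_apply]

/-- The completion of a finitely generated algebra is flat. -/
theorem flat_completion (hR : AdicRing.IsBase R I) (hA : AdicRing.TopFiniteType R I A) :
    Module.Flat C (AdicCompletion (I.map (algebraMap R C)) C) := by
  classical
  set J := I.map (algebraMap R C)
  rw [Module.Flat.iff_lTensor_injective]
  intro L hL
  have : Module.Finite C L := Module.Finite.iff_fg.mpr hL
  have hbij := ofTensorProduct_bijective (A := A) (C := C) hR hA L
  refine (injective_iff_map_eq_zero _).mpr fun z hz ↦ hbij.1 ?_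
  rw [map_zero]
  obtain ⟨f, hf⟩ := AdicCompletion.mk_surjective J L (AdicCompletion.ofTensorProduct J L z)
  have hnat : ∀ w, AdicCompletion.ofTensorProduct J C (L.subtype.lTensor (AdicCompletion J C) w) =
      AdicCompletion.map J L.subtype (AdicCompletion.ofTensorProduct J L w) := by
    intro w
    induction w with
    | zero => simp
    | add a b ha hb => simp only [map_add, ha, hb]
    | tmul r x =>
      rw [LinearMap.lTensor_tmul, AdicCompletion.ofTensorProduct_tmul, AdicCompletion.ofTensorProduct_tmul,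
        map_smul, AdicCompletion.map_of]
      rfl
  have h0 : AdicCompletion.map J L.subtype (AdicCompletion.mk J L f) = 0 := by
    rw [hf, ← hnat, hz, map_zero]
  rw [← hf]
  obtain ⟨K₀, n₀, hle, -, hAR⟩ := artinRees_finiteTypeAlg (A := A) hR hA (L : Submodule C C)
  refine AdicCompletion.ext fun j ↦ (Submodule.Quotient.mk_eq_zero _).mpr ?_
  have h1 := congrArg (fun y ↦ y.val (j + n₀)) h0
  simp only [AdicCompletion.val_zero_apply, AdicCompletion.map_mk] at h1
  have h2 : (f (j + n₀) : C) ∈ (J ^ (j + n₀) • ⊤ : Submodule C C) := (Submodule.Quotient.mk_eq_zero _).mp h1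
  have h3 := Submodule.smul_mono le_rfl hle (hAR j ⟨h2, (f (j + n₀)).2⟩)
  have hmap : (J ^ j • ⊤ : Submodule C L).map L.subtype = J ^ j • (L : Submodule C C) := by
    rw [Submodule.map_smul'', Submodule.map_top, Submodule.range_subtype]
  rw [← hmap] at h3
  obtain ⟨u, hu, hue⟩ := h3
  have h4 : f (j + n₀) ∈ (J ^ j • ⊤ : Submodule C L) := by rwa [← Subtype.ext hue]
  have := add_mem (sub_mem_of_evals J f (Nat.le_add_right j n₀)) h4
  simpa using this

end General

end Groth.Agent.AdicRingLib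

namespace Groth.Agent.AdicRingLib

/-- In a flat extension an element killed by finitely many elements is killed by a power of `F`,
if this holds downstairs. -/
theorem exists_pow_mul_eq_zero_of_flat {C : Type u} [CommRing C] {D : Type v} [CommRing D] [Algebra C D]
    [Module.Flat C D] {r : ℕ} (e : Fin r → C) (F : C)
    (h : ∀ τ : C, (∀ j, e j * τ = 0) → ∃ N : ℕ, F ^ N * τ = 0)
    (x : D) (hx : ∀ j, algebraMap C D (e j) * x = 0) : ∃ N : ℕ, algebraMap C D F ^ N * x = 0 := by
  classical
  let Φ : C →ₗ[C] (Fin r → C) := LinearMap.pi fun j ↦ LinearMap.lsmul C C (e j)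
  have hx0 : Φ.lTensor D (TensorProduct.tmul C x (1 : C)) = 0 := by
    let E := TensorProduct.piScalarRight C C D (Fin r)
    refine E.injective ?_
    rw [map_zero]
    funext j
    simp only [E, LinearMap.lTensor_tmul, TensorProduct.piScalarRight_apply, TensorProduct.piScalarRightHom_tmul, Φ,
      LinearMap.pi_apply, LinearMap.lsmul_apply, smul_eq_mul, mul_one, Pi.zero_apply]
    rw [Algebra.smul_def]
    exact hx j
  obtain ⟨y, hy⟩ := (Module.Flat.lTensor_exact (R := C) D (LinearMap.exact_subtype_ker_map Φ) _).mp hx0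
  have hcl : ∀ z : TensorProduct C D Φ.ker, ∃ N : ℕ, algebraMap C D F ^ N *
      TensorProduct.rid C D (Φ.ker.subtype.lTensor D z) = 0 := by
    intro z
    induction z with
    | zero => exact ⟨0, by simp⟩
    | add a b ha hb =>
      obtain ⟨N, hN⟩ := ha
      obtain ⟨M, hM⟩ := hb
      refine ⟨N + M, ?_⟩
      rw [map_add, map_add, mul_add, pow_add, mul_assoc, mul_left_comm, hN, mul_assoc, hM]
      simp
    | tmul c τ =>
      obtain ⟨N, hN⟩ := h τ fun j ↦ congrFun τ.2 j
      refine ⟨N, ?_⟩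
      rw [LinearMap.lTensor_tmul, TensorProduct.rid_tmul, Submodule.subtype_apply, Algebra.smul_def,
        ← mul_assoc, ← map_pow, ← map_mul, hN, map_zero, zero_mul]
  obtain ⟨N, hN⟩ := hcl y
  exact ⟨N, by rwa [hy, TensorProduct.rid_tmul, one_smul] at hN⟩

end Groth.Agent.AdicRingLib
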