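import Mathlib

/-!
Universe polymorphic copy of the flatness criterion `flat_of_away_and_quotient` of `FlatCrit`.
-/

universe u v

open scoped TensorProduct
open LinearMap Function

namespace Groth.Agent.AdicRingLib.FlatAwayUniv

section TorZero

variable (R : Type u) [CommRing R] (M : Type v) [AddCommGroup M] [Module R M]

/-- The relations of the tautological free presentation of `M`. -/
noncomputable def rel : Submodule R (M →₀ R) := LinearMap.ker (Finsupp.linearCombination R (id : M → M))

noncomputable instance instAddCommGroupRel : AddCommGroup ↥(rel R M) := Submodule.addCommGroup (rel R M)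

/-- `Tor₁(M, Q) = 0`. -/
def TorZero (Q : Type u) [AddCommGroup Q] [Module R Q] : Prop :=
  Injective ((rel R M).subtype.rTensor Q)

variable {R M}
variable {K : Type u} [AddCommGroup K] [Module R K] {P : Type u} [AddCommGroup P] [Module R P]
  {Q : Type u} [AddCommGroup Q] [Module R Q]

theorem exact_rel : Exact (rel R M).subtype (Finsupp.linearCombination R (id : M → M)) :=
  LinearMap.exact_subtype_ker_map _

theorem surjective_rel : Surjective (Finsupp.linearCombination R (id : M → M)) :=
  Finsupp.linearCombination_id_surjective R M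

theorem TorZero.lTensor_injective (h : TorZero R M Q) {f : K →ₗ[R] P} {g : P →ₗ[R] Q}
    (hf : Injective f) (he : Exact f g) (hg : Surjective g) : Injective (f.lTensor M) :=
  lTensor_injective_of_exact_of_exact_of_rTensor_injective exact_rel surjective_rel he hg h
    (Module.Flat.lTensor_preserves_injective_linearMap f hf)

theorem TorZero.of_presentation (hP : TorZero R M P) {f : K →ₗ[R] P} {g : P →ₗ[R] Q}
    (he : Exact f g) (hg : Surjective g) (hi : Injective (f.lTensor M)) : TorZero R M Q := by
  rw [TorZero, ← LinearMap.lTensor_inj_iff_rTensor_inj]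
  exact lTensor_injective_of_exact_of_exact_of_rTensor_injective he hg exact_rel surjective_rel
    ((LinearMap.lTensor_inj_iff_rTensor_inj _ _).mp hi)
    ((LinearMap.lTensor_inj_iff_rTensor_inj _ _).mpr hP)

theorem TorZero.of_flat [Module.Flat R Q] : TorZero R M Q :=
  Module.Flat.rTensor_preserves_injective_linearMap _ Subtype.val_injective

theorem TorZero.of_extension (hK : TorZero R M K) (hQ : TorZero R M Q) {f : K →ₗ[R] P} {g : P →ₗ[R] Q}
    (hf : Injective f) (he : Exact f g) (hg : Surjective g) : TorZero R M P := by
  rw [TorZero, injective_iff_map_eq_zero]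
  intro x hx
  have h2 : g.lTensor (rel R M) x = 0 := by
    apply hQ
    rw [← LinearMap.comp_apply, LinearMap.rTensor_comp_lTensor, ← LinearMap.lTensor_comp_rTensor,
      LinearMap.comp_apply, hx, map_zero, map_zero]
  obtain ⟨y, rfl⟩ := (_root_.lTensor_exact (rel R M) he hg x).mp h2
  suffices y = 0 by simp [this]
  apply hK
  apply Module.Flat.lTensor_preserves_injective_linearMap (M := M →₀ R) f hf
  rw [← LinearMap.comp_apply, LinearMap.lTensor_comp_rTensor, ← LinearMap.rTensor_comp_lTensor,
    LinearMap.comp_apply, hx, map_zero, map_zero]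

theorem TorZero.of_linearEquiv (h : TorZero R M P) (e : P ≃ₗ[R] Q) : TorZero R M Q :=
  h.of_presentation (f := (0 : P →ₗ[R] P) ∘ₗ (⊥ : Submodule R P).subtype) (g := e.toLinearMap)
    (by rw [LinearMap.exact_iff]; ext x; simp) e.surjective
    (fun x y _ => by
      have : Subsingleton (M ⊗[R] (⊥ : Submodule R P)) := inferInstance
      exact Subsingleton.elim x y)

theorem torZero_quotient_iff (I : Ideal R) :
    TorZero R M (R ⧸ I) ↔ Injective (I.subtype.lTensor M) := by
  refine ⟨fun h => h.lTensor_injective Subtype.val_injective ?_ (Submodule.mkQ_surjective _),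
    fun h => TorZero.of_presentation (TorZero.of_flat (Q := R)) ?_ (Submodule.mkQ_surjective _) h⟩ <;>
  exact LinearMap.exact_subtype_mkQ I

theorem TorZero.finsupp (ι : Type u) (h : TorZero R M Q) : TorZero R M (ι →₀ Q) := by
  classical
  rw [TorZero, injective_iff_map_eq_zero]
  intro x hx
  apply (TensorProduct.finsuppRight R R (rel R M) Q ι).injective
  ext i
  rw [map_zero, Finsupp.zero_apply, TensorProduct.finsuppRight_apply]
  apply h
  rw [map_zero, ← LinearMap.comp_apply, LinearMap.rTensor_comp_lTensor,
    ← LinearMap.lTensor_comp_rTensor, LinearMap.comp_apply, hx, map_zero]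

theorem TorZero.of_subsingleton [Subsingleton Q] : TorZero R M Q := fun _ _ _ =>
  Subsingleton.elim _ _

end TorZero

section Annihilated

variable {R : Type u} [CommRing R] {M : Type v} [AddCommGroup M] [Module R M]

theorem lTensor_injective_of_flat_baseChange (B : Type u) [CommRing B] [Algebra R B]
    [Module.Flat B (B ⊗[R] M)] {K : Type u} [AddCommGroup K] [Module R K] [Module B K]
    [IsScalarTower R B K] {N : Type u} [AddCommGroup N] [Module R N] [Module B N]
    [IsScalarTower R B N] (f : K →ₗ[B] N) (hf : Injective f) :
    Injective ((f.restrictScalars R).lTensor M) := by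
  rw [LinearMap.lTensor_inj_iff_rTensor_inj]
  have h := Module.Flat.rTensor_preserves_injective_linearMap (M := B ⊗[R] M) f hf
  let eK := TensorProduct.AlgebraTensorModule.cancelBaseChange R B B K M
  let eN := TensorProduct.AlgebraTensorModule.cancelBaseChange R B B N M
  have : ∀ x, eN (f.rTensor (B ⊗[R] M) x) = (f.restrictScalars R).rTensor M (eK x) := by
    intro x
    induction x with
    | zero => simp
    | add x y hx hy => simp [hx, hy]
    | tmul k y =>
      induction y with
      | zero => simp
      | add x y hx hy => simp_all [TensorProduct.tmul_add]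
      | tmul b m => simp [eK, eN]
  intro x y hxy
  obtain ⟨x, rfl⟩ := eK.surjective x
  obtain ⟨y, rfl⟩ := eK.surjective y
  rw [← this, ← this] at hxy
  exact congrArg eK (h (eN.injective hxy))

/-- If `Tor₁(M, R/I) = 0` and `M/IM` is flat over `R/I`, then `Tor₁(M, Q) = 0` for every `Q`
killed by `I`. -/
theorem torZero_of_smul_eq_bot {I : Ideal R} (h1 : Injective (I.subtype.lTensor M))
    [Module.Flat (R ⧸ I) ((R ⧸ I) ⊗[R] M)] {Q : Type u} [AddCommGroup Q] [Module R Q]
    (hQ : I • (⊤ : Submodule R Q) = ⊥) : TorZero R M Q := by
  have htor : Module.IsTorsionBySet R Q I := fun x a => by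
    have : (a : R) • x ∈ I • (⊤ : Submodule R Q) := Submodule.smul_mem_smul a.2 trivial
    simpa [hQ] using this
  letI := htor.module
  haveI : IsScalarTower R (R ⧸ I) Q := htor.isScalarTower
  let g := Finsupp.linearCombination (R ⧸ I) (id : Q → Q)
  letI : AddCommGroup ↥(LinearMap.ker g) := Submodule.addCommGroup _
  refine TorZero.of_presentation (P := Q →₀ R ⧸ I) (K := ↥(LinearMap.ker g)) (((torZero_quotient_iff I).mpr h1).finsupp Q)
    (f := (LinearMap.ker g).subtype.restrictScalars R) (g := g.restrictScalars R) ?_
    (Finsupp.linearCombination_id_surjective _ Q) ?_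
  · exact LinearMap.exact_subtype_ker_map g
  · exact lTensor_injective_of_flat_baseChange (R ⧸ I) _ Subtype.val_injective

end Annihilated

variable {A : Type u} {M : Type v} [CommRing A] [AddCommGroup M] [Module A M]

theorem flat_of_away_and_quotient (f : A) (hA : f ∈ nonZeroDivisors A) (hM : IsSMulRegular M f)
    [Module.Flat (Localization.Away f) (LocalizedModule (Submonoid.powers f) M)]
    [Module.Flat (A ⧸ Ideal.span {f}) ((A ⧸ Ideal.span {f}) ⊗[A] M)] : Module.Flat A M := by
  have h1 : Injective ((Ideal.span {f}).subtype.lTensor M) := by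
    let g : A →ₗ[A] Ideal.span {f} := LinearMap.toSpanSingleton A _ ⟨f, Ideal.mem_span_singleton_self f⟩
    have hg : Surjective g := by
      rintro ⟨x, hx⟩
      obtain ⟨a, rfl⟩ := Ideal.mem_span_singleton'.mp hx
      exact ⟨a, by ext; simp [g]⟩
    have key : ∀ y, TensorProduct.rid A M ((Ideal.span {f}).subtype.lTensor M (g.lTensor M y)) =
        f • TensorProduct.rid A M y := by
      intro y
      induction y with
      | zero => simp
      | add x y hx hy => simp [hx, hy]
      | tmul m a => simp [g, smul_smul, mul_comm]
    intro x y hxy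
    obtain ⟨x, rfl⟩ := LinearMap.lTensor_surjective M hg x
    obtain ⟨y, rfl⟩ := LinearMap.lTensor_surjective M hg y
    refine congrArg _ ((TensorProduct.rid A M).injective (hM ?_))
    simp only
    rw [← key, ← key, hxy]
  let B := Localization.Away f
  haveI : Module.Flat B (B ⊗[A] M) :=
    Module.Flat.of_linearEquiv (LocalizedModule.equivTensorProduct (Submonoid.powers f) M).symm
  haveI : Module.Flat A (B ⊗[A] M) := Module.Flat.trans A B _
  rw [Module.Flat.iff_lTensor_injective']
  intro J
  -- multiplication by `f` is injective on `M ⊗ J`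
  let μ : J →ₗ[A] J := LinearMap.lsmul A J f
  have hμ : Injective μ := fun a b hab => by
    ext
    exact mul_cancel_left_mem_nonZeroDivisors hA |>.mp (congrArg Subtype.val hab)
  have hreg : Injective (μ.lTensor M) := by
    refine TorZero.lTensor_injective (torZero_of_smul_eq_bot h1 ?_) hμ (LinearMap.exact_map_mkQ_range μ)
      (Submodule.mkQ_surjective _)
    rw [eq_bot_iff, Submodule.smul_le]
    intro r hr x _
    obtain ⟨x, rfl⟩ := Submodule.mkQ_surjective _ x
    obtain ⟨a, rfl⟩ := Ideal.mem_span_singleton'.mp hr
    rw [Submodule.mem_bot, ← map_smul, Submodule.mkQ_apply, Submodule.Quotient.mk_eq_zero]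
    exact ⟨a • x, by simp [μ, smul_smul, mul_comm]⟩
  rw [injective_iff_map_eq_zero]
  intro x hx
  let eK := TensorProduct.assoc A B M J
  have hloc : TensorProduct.mk A B (M ⊗[A] J) 1 x = 0 := by
    apply eK.symm.injective
    apply Module.Flat.lTensor_preserves_injective_linearMap (M := B ⊗[A] M) J.subtype Subtype.val_injective
    have key : ∀ y : M ⊗[A] J, J.subtype.lTensor (B ⊗[A] M) (eK.symm ((1 : B) ⊗ₜ y)) =
        (TensorProduct.assoc A B M A).symm ((1 : B) ⊗ₜ J.subtype.lTensor M y) := by
      intro y
      induction y with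
      | zero => simp
      | add a b ha hb => simp [TensorProduct.tmul_add, ha, hb]
      | tmul m a => simp [eK]
    rw [map_zero, map_zero, TensorProduct.mk_apply, key, hx, TensorProduct.tmul_zero, map_zero]
  obtain ⟨⟨s, n, rfl⟩, hs⟩ :=
    (IsLocalizedModule.eq_zero_iff (Submonoid.powers f) (TensorProduct.mk A B (M ⊗[A] J) 1)).mp hloc
  replace hs : f ^ n • x = 0 := hs
  clear hloc hx
  induction n with
  | zero => simpa using hs
  | succ n ih =>
    rw [pow_succ', mul_smul] at hs
    have hμf : ∀ z : M ⊗[A] J, μ.lTensor M z = f • z := fun z => by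
      induction z with
      | zero => simp
      | add x y hx hy => simp [hx, hy]
      | tmul m a => simp [μ, TensorProduct.tmul_smul]
    exact ih (hreg (by rw [map_zero, hμf]; exact hs))



end Groth.Agent.AdicRingLib.FlatAwayUniv
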