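import Groth.Agent.AdicRingLib.FiniteTypeAlg
import Groth.Agent.FlatCrit.Basic

/-! Flatness criteria for topologically finite type algebras. -/

set_option autoImplicit false

universe u v w

namespace Groth.Agent.AdicRingLib

open scoped TensorProduct
open Function

variable {R : Type u} [CommRing R] {I : Ideal R}
  {A : Type u} [CommRing A] [Algebra R A] {B : Type u} [CommRing B] [Algebra R B] [Algebra A B]
  [IsScalarTower R A B] {M : Type u} [AddCommGroup M] [Module B M] [Module A M] [IsScalarTower A B M]
  [Module.Finite B M]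

theorem flat_of_flat_mod_pow (hR : AdicRing.IsBase R I) (hA : AdicRing.TopFiniteType R I A)
    (hB : AdicRing.TopFiniteType R I B)
    (h : ∀ N : ℕ, Module.Flat (AdicRing.trunc A I N) ((AdicRing.trunc A I N) ⊗[A] M)) :
    Module.Flat A M := by
  rw [Module.Flat.iff_lTensor_injective]
  intro J hJ
  have : Module.Finite A J := Module.Finite.iff_fg.mpr hJ
  have : Module.Finite B (M ⊗[A] J) := FlatCrit.finite_tensor (R := A) (S := B) (M := M) J
  have hcomp := isAdicComplete_of_finite hR hB (M ⊗[A] J)
  rw [injective_iff_map_eq_zero]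
  intro x hx
  obtain ⟨k, hk⟩ := artinRees hR hA (J : Submodule A A)
  refine IsHausdorff.haus (I := I.map (algebraMap R B)) inferInstance x fun m ↦ ?_
  rw [SModEq.zero]
  let K : Ideal A := (I ^ (m + k + 1)).map (algebraMap R A)
  let π : J →ₗ[A] A ⧸ K := (Submodule.mkQ K) ∘ₗ J.subtype
  have h1 : π.rangeRestrict.lTensor M x = 0 := by
    have : Module.Flat (A ⧸ K) ((A ⧸ K) ⊗[A] M) := h (m + k)
    let N : Submodule (A ⧸ K) (A ⧸ K) :=
      { (LinearMap.range π).toAddSubmonoid with
        smul_mem' := fun c y hy => by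
          obtain ⟨c, rfl⟩ := Ideal.Quotient.mk_surjective c
          exact (LinearMap.range π).smul_mem c hy }
    have hinj : Injective ((LinearMap.range π).subtype.lTensor M) :=
      FlatCrit.lTensor_injective_of_flat_baseChange (A ⧸ K) N.subtype Subtype.val_injective
    apply hinj
    rw [map_zero, ← LinearMap.comp_apply, ← LinearMap.lTensor_comp,
      show (LinearMap.range π).subtype ∘ₗ π.rangeRestrict = (Submodule.mkQ K) ∘ₗ J.subtype from rfl,
      LinearMap.lTensor_comp, LinearMap.comp_apply, hx, map_zero]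
  obtain ⟨y, hy⟩ := (_root_.lTensor_exact M (f := (LinearMap.ker π).subtype) (g := π.rangeRestrict)
    (by rw [LinearMap.exact_iff, LinearMap.ker_rangeRestrict, Submodule.range_subtype])
    π.surjective_rangeRestrict x).mp h1
  rw [← hy]
  have hle : LinearMap.ker π ≤ (I.map (algebraMap R A)) ^ m • (⊤ : Submodule A J) := by
    intro j hj
    have h2 : (j : A) ∈ ((I.map (algebraMap R A)) ^ (m + k) • (⊤ : Submodule A A)) ⊓ J := by
      refine ⟨?_, j.2⟩
      rw [smul_eq_mul, Ideal.mul_top]
      refine Ideal.pow_le_pow_right (Nat.le_succ _) ?_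
      rw [← Ideal.map_pow]
      exact (Submodule.Quotient.mk_eq_zero _).mp hj
    have h3 : (j : A) ∈ ((I.map (algebraMap R A)) ^ m • (⊤ : Submodule A J)).map (J : Submodule A A).subtype := by
      rw [Submodule.map_smul'', Submodule.map_top, Submodule.range_subtype]
      exact hk m h2
    obtain ⟨j', hj', he⟩ := h3
    rwa [← Subtype.ext he]
  have := FlatCrit.mem_map_smul_top (S := B) (FlatCrit.range_lTensor_subtype_le (M := M) _ _ hle ⟨y, rfl⟩)
  rwa [Ideal.map_pow, Ideal.map_map, ← IsScalarTower.algebraMap_eq] at this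

end Groth.Agent.AdicRingLib
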