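import Groth.Agent.AdicRingLib.RigPoints

/-! Rig-points below closed points. -/

set_option autoImplicit false

universe u v w

namespace Groth.Agent.AdicRingLib

open Ideal IsLocalRing

variable {R : Type u} [CommRing R]

theorem exists_free_algebra_range {K : Type u} [CommRing K] [Algebra R K]
    (hK : ∀ x : K, IsIntegral R x) [Nontrivial R] (s : Finset K) :
    ∃ (B : Type u) (_ : CommRing B) (_ : Algebra R B), Module.Finite R B ∧ Module.Free R B ∧
      ∃ ρ : B →ₐ[R] K, ∀ x ∈ s, x ∈ ρ.range := by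
  classical
  induction s using Finset.induction with
  | empty => exact ⟨R, inferInstance, inferInstance, inferInstance, inferInstance, Algebra.ofId R K, by simp⟩
  | @insert x s hx ih =>
    obtain ⟨B, _, _, hfin, hfree, ρ, hρ⟩ := ih
    obtain ⟨g, hg, hgx⟩ := hK x
    let g' := g.map (algebraMap R B)
    have hg' : g'.Monic := hg.map _
    have : Module.Finite B (AdjoinRoot g') := hg'.finite_adjoinRoot
    have : Module.Free B (AdjoinRoot g') := hg'.free_adjoinRoot
    have hroot : g'.eval₂ ρ.toRingHom x = 0 := by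
      rw [Polynomial.eval₂_map, AlgHom.toRingHom_eq_coe, ρ.comp_algebraMap]
      exact hgx
    refine ⟨AdjoinRoot g', inferInstance, inferInstance, Module.Finite.trans B _, Module.Free.trans (R := R) (S := B),
      ⟨AdjoinRoot.lift ρ.toRingHom x hroot, fun r ↦ ?_⟩, ?_⟩
    · change AdjoinRoot.lift ρ.toRingHom x hroot (algebraMap R (AdjoinRoot g') r) = _
      rw [IsScalarTower.algebraMap_apply R B (AdjoinRoot g'), AdjoinRoot.algebraMap_eq, AdjoinRoot.lift_of]
      exact ρ.commutes r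
    · intro y hy
      rcases Finset.mem_insert.mp hy with rfl | hy
      · exact ⟨AdjoinRoot.root g', AdjoinRoot.lift_root hroot⟩
      · obtain ⟨b, hb⟩ := hρ y hy
        exact ⟨AdjoinRoot.of g' b, (AdjoinRoot.lift_of hroot).trans hb⟩

variable [IsDomain R] [ValuationRing R] [Ring.KrullDimLE 1 R] {t : R}
  [IsAdicComplete (Ideal.span {t}) R]

theorem exists_rig_prime_le (ht : t ≠ 0) (n : ℕ) (m : Ideal (Compl (Ideal.span {t}) (MvPolynomial (Fin n) R)))
    [m.IsMaximal] (hm : algebraMap R (Compl (Ideal.span {t}) (MvPolynomial (Fin n) R)) t ∈ m) :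
    ∃ p : Ideal (Compl (Ideal.span {t}) (MvPolynomial (Fin n) R)), p.IsPrime ∧ p ≤ m ∧
      algebraMap R (Compl (Ideal.span {t}) (MvPolynomial (Fin n) R)) t ∉ p ∧
      ringKrullDim (Compl (Ideal.span {t}) (MvPolynomial (Fin n) R) ⧸ p) = 1 := by
  classical
  have hI : (Ideal.span {t}).FG := Submodule.fg_span_singleton t
  let A := Compl (Ideal.span {t}) (MvPolynomial (Fin n) R)
  let π : A →ₐ[R] A ⧸ m := Ideal.Quotient.mkₐ R m
  have hmR : m.comap (algebraMap R A) = maximalIdeal R := eq_maximalIdeal_of_mem ht hm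
  have hdense : ∀ x : A, ∃ p, π x = π (algebraMap (MvPolynomial (Fin n) R) A p) := fun x ↦ by
    obtain ⟨p, hp⟩ := exists_sub_mem_pow (P := MvPolynomial (Fin n) R) hI x 1
    obtain ⟨w, hw⟩ := mem_map_span_pow.mp hp
    rw [pow_one] at hw
    exact ⟨p, Ideal.Quotient.eq.mpr (by rw [hw]; exact m.mul_mem_right _ hm)⟩
  have hft : Algebra.FiniteType R (A ⧸ m) :=
    Algebra.FiniteType.of_surjective (π.comp (IsScalarTower.toAlgHom R (MvPolynomial (Fin n) R) A))
      fun y ↦ by
        obtain ⟨x, rfl⟩ := Ideal.Quotient.mk_surjective y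
        obtain ⟨p, hp⟩ := hdense x
        exact ⟨p, hp.symm⟩
  let k := R ⧸ m.comap (algebraMap R A)
  have : (m.comap (algebraMap R A)).IsMaximal := hmR ▸ inferInstance
  let : Field k := Ideal.Quotient.field _
  let : Field (A ⧸ m) := Ideal.Quotient.field m
  have : Algebra.FiniteType k (A ⧸ m) := Algebra.FiniteType.of_restrictScalars_finiteType R k _
  have : Module.Finite k (A ⧸ m) := finite_of_finite_type_of_isJacobsonRing k _
  have : Module.Finite R (A ⧸ m) := Module.Finite.trans k _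
  obtain ⟨B₀, _, _, hfin, hfree, ρ₀, hρ₀⟩ := exists_free_algebra_range (R := R) (K := A ⧸ m)
    (fun x ↦ Algebra.IsIntegral.isIntegral x)
    (Finset.univ.image fun i ↦ π (algebraMap (MvPolynomial (Fin n) R) A (MvPolynomial.X i)))
  have hP₀ : (RingHom.ker ρ₀.toRingHom).IsPrime := RingHom.ker_isPrime _
  obtain ⟨P, hP, hPle⟩ := Ideal.exists_minimalPrimes_le (J := RingHom.ker ρ₀.toRingHom) (I := ⊥) bot_le
  have : P.IsPrime := hP.1.1
  have htP : algebraMap R B₀ t ∉ P := fun h ↦ by
    refine Set.disjoint_left.mp (Ideal.disjoint_nonZeroDivisors_of_mem_minimalPrimes hP) h ?_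
    rw [SetLike.mem_coe, mem_nonZeroDivisors_iff_right]
    intro b hb
    rw [mul_comm, ← Algebra.smul_def] at hb
    exact (smul_eq_zero_iff_right ht).mp hb
  let B := B₀ ⧸ P
  have htB : algebraMap R B t ≠ 0 := fun h ↦ htP (Ideal.Quotient.eq_zero_iff_mem.mp h)
  have hinj := injective_of_ne_zero (t := t) htB
  have := free_of_domain hinj
  have := isAdicComplete_map_of_finite_free (I := Ideal.span {t}) B
  let ρ : B →ₐ[R] A ⧸ m := Ideal.Quotient.liftₐ P ρ₀ hPle
  have hb : ∀ i : Fin n, ∃ b : B, ρ b = π (algebraMap (MvPolynomial (Fin n) R) A (MvPolynomial.X i)) :=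
    fun i ↦ by
      obtain ⟨b, hb⟩ := hρ₀ _ (Finset.mem_image_of_mem _ (Finset.mem_univ i))
      exact ⟨Ideal.Quotient.mk P b, hb⟩
  choose b hb using hb
  let ψ : A →ₐ[R] B := complLift (MvPolynomial.aeval b)
  have hψ : ∀ p, ψ (algebraMap (MvPolynomial (Fin n) R) A p) = MvPolynomial.aeval b p := complLift_of _
  have hpoly : ∀ p, ρ (ψ (algebraMap (MvPolynomial (Fin n) R) A p)) =
      π (algebraMap (MvPolynomial (Fin n) R) A p) := fun p ↦ by
    rw [hψ]
    exact congrArg (fun φ : MvPolynomial (Fin n) R →ₐ[R] A ⧸ m ↦ φ p)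
      (show ρ.comp (MvPolynomial.aeval b) = π.comp (IsScalarTower.toAlgHom R _ A) from
        MvPolynomial.algHom_ext fun i ↦ by
          rw [AlgHom.comp_apply, MvPolynomial.aeval_X, hb]; rfl)
  have hker : ∀ x, ψ x = 0 → x ∈ m := fun x hx ↦ by
    obtain ⟨p, hp⟩ := exists_sub_mem_pow (P := MvPolynomial (Fin n) R) hI x 1
    obtain ⟨w, hw⟩ := mem_map_span_pow.mp hp
    rw [pow_one, sub_eq_iff_eq_add] at hw
    have h1 : π (algebraMap R A t * w) = 0 := Ideal.Quotient.eq_zero_iff_mem.mpr (m.mul_mem_right _ hm)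
    have h2 : ρ (ψ (algebraMap R A t * w)) = 0 := by
      rw [map_mul, map_mul, AlgHom.commutes, AlgHom.commutes, show algebraMap R (A ⧸ m) t = 0 from
        Ideal.Quotient.eq_zero_iff_mem.mpr hm, zero_mul]
    have h3 : π x = ρ (ψ x) := by rw [hw, map_add, map_add, map_add, h1, h2, hpoly]
    rw [hx, map_zero] at h3
    exact Ideal.Quotient.eq_zero_iff_mem.mp h3
  refine ⟨RingHom.ker ψ.toRingHom, RingHom.ker_isPrime _, hker, fun h ↦ htB ?_, ?_⟩
  · rw [← ψ.commutes]; exact h
  · let ι : A ⧸ RingHom.ker ψ.toRingHom →ₐ[R] B := Ideal.kerLiftAlg ψ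
    have hι : Function.Injective ι := Ideal.kerLiftAlg_injective ψ
    have : (RingHom.ker ψ.toRingHom).IsPrime := RingHom.ker_isPrime _
    have : Algebra.IsIntegral R (A ⧸ RingHom.ker ψ.toRingHom) :=
      ⟨fun x ↦ (isIntegral_algHom_iff ι hι).mp (Algebra.IsIntegral.isIntegral _)⟩
    refine ringKrullDim_eq_one ht fun r r' h ↦ hinj ?_
    rw [← ι.commutes, ← ι.commutes, h]

end Groth.Agent.AdicRingLib
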