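import Groth.Agent.AdicRingLib.Coherent

/-! Saturated submodules over finitely generated algebras over topologically finite type algebras. -/

set_option autoImplicit false

universe u v w

namespace Groth.Agent.AdicRingLib

open Ideal IsLocalRing MvPolynomial

/-- An ideal of a polynomial ring, filtered by total degree, has boundedly represented elements. -/
theorem exists_degree_bounded_generators {B : Type v} [CommRing B] [IsNoetherianRing B] {m : ℕ}
    (L : ℕ → Set (MvPolynomial (Fin m) B))
    (hzero : ∀ D, (0 : MvPolynomial (Fin m) B) ∈ L D)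
    (hadd : ∀ D a b, a ∈ L D → b ∈ L D → a + b ∈ L D)
    (hmul : ∀ a b q l, q.totalDegree ≤ a → l ∈ L b → q * l ∈ L (a + b))
    (hdeg : ∀ D l, l ∈ L D → l.totalDegree ≤ D) :
    ∃ (s : Finset (ℕ × MvPolynomial (Fin m) B)), (∀ g ∈ s, g.2 ∈ L g.1) ∧
      ∀ D, ∀ l ∈ L D, ∃ q : (ℕ × MvPolynomial (Fin m) B) → MvPolynomial (Fin m) B,
        (∀ g ∈ s, q g = 0 ∨ (g.1 ≤ D ∧ (q g).totalDegree ≤ D - g.1)) ∧ l = ∑ g ∈ s, q g * g.2 := by
  classical
  let S := MvPolynomial (Option (Fin m)) B
  let Φ : S →ₐ[B] Polynomial (MvPolynomial (Fin m) B) :=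
    MvPolynomial.aeval (fun o ↦ o.elim Polynomial.X fun i ↦ Polynomial.C (X i) * Polynomial.X)
  have hC : ∀ a, Φ (MvPolynomial.C a) = Polynomial.C (MvPolynomial.C a) := fun a ↦ by
    rw [← MvPolynomial.algebraMap_eq, Φ.commutes,
      IsScalarTower.algebraMap_apply B (MvPolynomial (Fin m) B) (Polynomial (MvPolynomial (Fin m) B))]
    rfl
  have hnone : Φ (X none) = Polynomial.X := aeval_X _ _
  have hsome : ∀ i, Φ (X (some i)) = Polynomial.C (X i) * Polynomial.X := fun i ↦ aeval_X _ _
  have hΦdeg : ∀ (F : S) (j : ℕ), ((Φ F).coeff j).totalDegree ≤ j := by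
    intro F
    induction F using MvPolynomial.induction_on with
    | C a =>
      intro j
      rw [hC, Polynomial.coeff_C]
      split_ifs <;> simp
    | add p q hp hq =>
      intro j
      rw [map_add, Polynomial.coeff_add]
      exact (totalDegree_add _ _).trans (max_le (hp j) (hq j))
    | mul_X p o hp =>
      intro j
      rw [map_mul]
      cases o with
      | none =>
        rw [hnone]
        cases j with
        | zero => simp
        | succ j => simpa using (hp j).trans (Nat.le_succ j)
      | some i =>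
        rw [hsome, ← mul_assoc]
        cases j with
        | zero => simp
        | succ j =>
          rw [Polynomial.coeff_mul_X, Polynomial.coeff_mul_C]
          exact (totalDegree_mul _ _).trans (Nat.add_le_add (hp j)
            ((totalDegree_monomial_le _ _).trans (by simp [Finsupp.sum_single_index])))
  have hsum : ∀ (D : ℕ) {ι : Type} (s : Finset ι) (f : ι → MvPolynomial (Fin m) B),
      (∀ i ∈ s, f i ∈ L D) → ∑ i ∈ s, f i ∈ L D := fun D ι s f hf ↦
    Finset.sum_induction f (· ∈ L D) (hadd D) (hzero D) hf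
  let W : Ideal S :=
    { carrier := {F | ∀ j, (Φ F).coeff j ∈ L j}
      add_mem' := fun {a b} ha hb j ↦ by rw [map_add, Polynomial.coeff_add]; exact hadd j _ _ (ha j) (hb j)
      zero_mem' := fun j ↦ by rw [map_zero, Polynomial.coeff_zero]; exact hzero j
      smul_mem' := fun G F hF j ↦ by
        rw [smul_eq_mul, map_mul, Polynomial.coeff_mul]
        refine hsum j _ _ fun x hx ↦ ?_
        have := hmul x.1 x.2 _ _ (hΦdeg G x.1) (hF x.2)
        rwa [Finset.HasAntidiagonal.mem_antidiagonal.mp hx] at this }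
  have hlift : ∀ D (l : MvPolynomial (Fin m) B), l.totalDegree ≤ D →
      ∃ F, Φ F = Polynomial.C l * Polynomial.X ^ D := by
    intro D l hl
    refine ⟨∑ c ∈ l.support, MvPolynomial.C (l.coeff c) *
      ((∏ i, X (some i) ^ c i) * X none ^ (D - ∑ i, c i)), ?_⟩
    conv_rhs => rw [l.as_sum]
    rw [map_sum, map_sum, Finset.sum_mul]
    refine Finset.sum_congr rfl fun c hc ↦ ?_
    have hcD : ∑ i, c i ≤ D := by
      refine le_trans (le_of_eq ?_) ((le_totalDegree hc).trans hl)
      exact (Finsupp.sum_fintype c (fun _ e ↦ e) (fun _ ↦ rfl)).symm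
    have hprod : ∏ i, Φ (X (some i)) ^ c i =
        Polynomial.C (∏ i, (X i : MvPolynomial (Fin m) B) ^ c i) * Polynomial.X ^ ∑ i, c i := by
      simp only [hsome, mul_pow, Finset.prod_mul_distrib, Finset.prod_pow_eq_pow_sum, map_prod, map_pow]
    rw [map_mul, map_mul, map_prod, hC, map_pow, hnone]
    simp only [map_pow]
    rw [hprod, mul_assoc (Polynomial.C (∏ i, (X i : MvPolynomial (Fin m) B) ^ c i)), ← pow_add,
      Nat.add_sub_cancel' hcD, ← mul_assoc, ← map_mul, monomial_eq,
      Finsupp.prod_fintype _ _ (fun _ ↦ pow_zero _)]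
  obtain ⟨T, hT⟩ := IsNoetherian.noetherian (R := S) (M := S) W
  let gens : Finset (ℕ × MvPolynomial (Fin m) B) :=
    T.biUnion fun F ↦ (Finset.range ((Φ F).natDegree + 1)).image fun b ↦ (b, (Φ F).coeff b)
  refine ⟨gens, fun g hg ↦ ?_, fun D l hl ↦ ?_⟩
  · simp only [gens, Finset.mem_biUnion, Finset.mem_image] at hg
    obtain ⟨F, hF, b, -, rfl⟩ := hg
    exact (hT ▸ Submodule.subset_span hF : F ∈ W) b
  · let Good := fun (j : ℕ) (l : MvPolynomial (Fin m) B) ↦
      ∃ q : (ℕ × MvPolynomial (Fin m) B) → MvPolynomial (Fin m) B,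
        (∀ g ∈ gens, q g = 0 ∨ (g.1 ≤ j ∧ (q g).totalDegree ≤ j - g.1)) ∧ l = ∑ g ∈ gens, q g * g.2
    have hG0 : ∀ j, Good j 0 := fun j ↦ ⟨0, fun g _ ↦ Or.inl rfl, by simp⟩
    have hGadd : ∀ j a b, Good j a → Good j b → Good j (a + b) := by
      rintro j _ _ ⟨q, hq, rfl⟩ ⟨q', hq', rfl⟩
      refine ⟨q + q', fun g hg ↦ ?_, by simp [add_mul, Finset.sum_add_distrib]⟩
      rcases hq g hg with h | ⟨h1, h2⟩
      · simpa [h] using hq' g hg
      · rcases hq' g hg with h' | ⟨-, h2'⟩
        · simpa [h'] using Or.inr (a := q g = 0) ⟨h1, h2⟩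
        · exact Or.inr ⟨h1, (totalDegree_add _ _).trans (max_le h2 h2')⟩
    have hmemW : ∀ F ∈ Submodule.span S (T : Set S), ∀ j, Good j ((Φ F).coeff j) := by
      intro F hF
      induction hF using Submodule.span_induction with
      | mem F hF =>
        intro j
        by_cases hj : j ≤ (Φ F).natDegree
        · have hg : (j, (Φ F).coeff j) ∈ gens := Finset.mem_biUnion.mpr ⟨F, hF,
            Finset.mem_image.mpr ⟨j, Finset.mem_range_succ_iff.mpr hj, rfl⟩⟩
          refine ⟨fun g ↦ if g = (j, (Φ F).coeff j) then 1 else 0, fun g _ ↦ ?_, ?_⟩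
          · dsimp only
            split_ifs with h
            · exact Or.inr ⟨h ▸ le_rfl, by simp⟩
            · exact Or.inl rfl
          · simp only [ite_mul, one_mul, zero_mul]
            rw [Finset.sum_ite_eq' gens _ fun g ↦ g.2, if_pos hg]
        · rw [Polynomial.coeff_eq_zero_of_natDegree_lt (not_le.mp hj)]; exact hG0 j
      | zero => intro j; rw [map_zero, Polynomial.coeff_zero]; exact hG0 j
      | add a b _ _ ha hb => intro j; rw [map_add, Polynomial.coeff_add]; exact hGadd j _ _ (ha j) (hb j)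
      | smul G F _ hF =>
        intro j
        rw [smul_eq_mul, map_mul, Polynomial.coeff_mul]
        refine Finset.sum_induction _ (Good j) (hGadd j) (hG0 j) fun x hx ↦ ?_
        obtain ⟨q, hq, hqs⟩ := hF x.2
        have hxj := Finset.HasAntidiagonal.mem_antidiagonal.mp hx
        refine ⟨fun g ↦ (Φ G).coeff x.1 * q g, fun g hg ↦ ?_,
          by rw [hqs, Finset.mul_sum]; exact Finset.sum_congr rfl fun g _ ↦ (mul_assoc _ _ _).symm⟩
        rcases hq g hg with h | ⟨h1, h2⟩
        · exact Or.inl (by simp [h])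
        · refine Or.inr ⟨by omega, (totalDegree_mul _ _).trans ?_⟩
          have := hΦdeg G x.1
          omega
    obtain ⟨F, hF⟩ := hlift D l (hdeg D l hl)
    have hFW : F ∈ W := fun j ↦ by
      rw [hF, Polynomial.coeff_C_mul, Polynomial.coeff_X_pow]
      split_ifs with h
      · rw [mul_one, h]; exact hl
      · rw [mul_zero]; exact hzero j
    rw [← hT] at hFW
    obtain ⟨q, hq, hqs⟩ := hmemW F hFW D
    refine ⟨q, hq, ?_⟩
    rw [hF, Polynomial.coeff_C_mul, Polynomial.coeff_X_pow, if_pos rfl, mul_one] at hqs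
    exact hqs

/-- A lift with the same support. -/
theorem exists_map_eq_totalDegree_le {A : Type v} {B : Type w} [CommRing A] [CommRing B] {σ : Type*}
    (φ : A →+* B) (hφ : Function.Surjective φ) (q : MvPolynomial σ B) :
    ∃ p : MvPolynomial σ A, MvPolynomial.map φ p = q ∧ p.totalDegree ≤ q.totalDegree := by
  classical
  choose a ha using fun c ↦ hφ (q.coeff c)
  refine ⟨∑ c ∈ q.support, monomial c (a c), ?_, ?_⟩
  · rw [map_sum]
    conv_rhs => rw [q.as_sum]
    exact Finset.sum_congr rfl fun c _ ↦ by rw [map_monomial, ha]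
  · refine (totalDegree_finsetSum _ _).trans (Finset.sup_le fun c hc ↦ ?_)
    exact (totalDegree_monomial_le _ _).trans (le_totalDegree hc)

variable {R : Type u} [CommRing R] [IsDomain R] [ValuationRing R] [Ring.KrullDimLE 1 R] {t : R}
  (ht : t ≠ 0) [IsAdicComplete (Ideal.span {t}) R] {n m : ℕ}

theorem noTorsion_compl' (ht : t ≠ 0) {c : R} (hc : c ≠ 0)
    (x : Compl (Ideal.span {t}) (MvPolynomial (Fin n) R)) (hx : algebraMap R _ c * x = 0) : x = 0 := by
  obtain ⟨k, e, he⟩ := exists_dvd_pow (t := t) hc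
  have h : algebraMap R (Compl (Ideal.span {t}) (MvPolynomial (Fin n) R)) (t ^ k) * x = 0 := by
    rw [he, mul_comm c, map_mul, mul_assoc, hx, mul_zero]
  clear he
  induction k with
  | zero => simpa using h
  | succ k ih => exact ih (noTorsion_compl ht _ (by rw [← mul_assoc, ← map_mul, ← pow_succ']; exact h))

include ht in
theorem exists_mul_of_mem_map_maximalIdeal (x : Compl (Ideal.span {t}) (MvPolynomial (Fin n) R))
    (hx : x ∈ (maximalIdeal R).map (algebraMap R _)) :
    ∃ c ∈ maximalIdeal R, ∃ z, x = algebraMap R _ c * z := by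
  refine Submodule.span_induction ?_ ?_ ?_ ?_ hx
  · rintro _ ⟨c, hc, rfl⟩; exact ⟨c, hc, 1, (mul_one _).symm⟩
  · exact ⟨t, mem_maximalIdeal, 0, (mul_zero _).symm⟩
  · rintro _ _ _ _ ⟨c, hc, z, rfl⟩ ⟨d, hd, w, rfl⟩
    rcases ValuationRing.dvd_total c d with ⟨e, rfl⟩ | ⟨e, rfl⟩
    · exact ⟨c, hc, z + algebraMap R _ e * w, by rw [map_mul]; ring⟩
    · exact ⟨d, hd, algebraMap R _ e * z + w, by rw [map_mul]; ring⟩
  · rintro a _ _ ⟨c, hc, z, rfl⟩; exact ⟨c, hc, a * z, by rw [smul_eq_mul]; ring⟩

include ht in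
theorem fg_of_saturated_poly
    (N : Ideal (MvPolynomial (Fin m) (Compl (Ideal.span {t}) (MvPolynomial (Fin n) R))))
    (hsat : ∀ (c : R) x, c ≠ 0 →
      MvPolynomial.C (algebraMap R (Compl (Ideal.span {t}) (MvPolynomial (Fin n) R)) c) * x ∈ N → x ∈ N) :
    N.FG := by
  classical
  let A := Compl (Ideal.span {t}) (MvPolynomial (Fin n) R)
  have hI : (Ideal.span {t}).FG := Submodule.fg_span_singleton t
  have hbase : AdicRing.IsBase R (Ideal.span {t}) :=
    ⟨inferInstance, Or.inr ⟨inferInstance, inferInstance, inferInstance, t, ht, rfl⟩⟩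
  have hA : AdicRing.TopFiniteType R (Ideal.span {t}) A := ⟨n, AlgHom.id R A, Function.surjective_id⟩
  obtain ⟨φ, -, hφs, -, hφker⟩ := exists_red (t := t) (n := n) (maximalIdeal R) (K := 1)
    (by rw [pow_one]; exact mem_maximalIdeal)
  let : Field (R ⧸ maximalIdeal R) := Ideal.Quotient.field _
  let B := MvPolynomial (Fin n) (R ⧸ maximalIdeal R)
  let L : ℕ → Set (MvPolynomial (Fin m) B) := fun D ↦
    {l | ∃ y ∈ N, y.totalDegree ≤ D ∧ MvPolynomial.map φ.toRingHom y = l}
  have hLdeg : ∀ D l, l ∈ L D → l.totalDegree ≤ D := by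
    rintro D _ ⟨y, -, hyD, rfl⟩
    exact (Finset.sup_mono (support_map_subset _ _)).trans hyD
  obtain ⟨s, hs, hrep⟩ := exists_degree_bounded_generators L (fun D ↦ ⟨0, N.zero_mem, by simp, by simp⟩)
    (by rintro D _ _ ⟨y, hy, hyD, rfl⟩ ⟨y', hy', hy'D, rfl⟩
        exact ⟨y + y', N.add_mem hy hy', (totalDegree_add _ _).trans (max_le hyD hy'D), map_add _ _ _⟩)
    (by rintro a b q _ hq ⟨y, hy, hyb, rfl⟩
        obtain ⟨p, hp, hpq⟩ := exists_map_eq_totalDegree_le φ.toRingHom hφs q
        exact ⟨p * y, N.mul_mem_left _ hy,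
          (totalDegree_mul _ _).trans (Nat.add_le_add (hpq.trans hq) hyb), by rw [map_mul, hp]⟩)
    hLdeg
  choose g hgN hgdeg hgmap using fun x : s ↦ hs x.1 x.2
  refine ⟨Finset.univ.image g, le_antisymm (Submodule.span_le.mpr ?_) fun y hy ↦ ?_⟩
  · intro z hz
    simp only [Finset.coe_image, Set.mem_image, Finset.coe_univ, Set.image_univ, Set.mem_range] at hz
    obtain ⟨x, rfl⟩ := hz
    exact hgN x
  · let G := Submodule.span (MvPolynomial (Fin m) A) (↑(Finset.univ.image g) : Set (MvPolynomial (Fin m) A))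
    let D := y.totalDegree
    let PD := restrictTotalDegree (Fin m) A D
    let ND : Submodule A PD := (N.restrictScalars A).comap PD.subtype
    have hfinPD : Module.Finite A PD := by
      refine Module.Finite.iff_fg.mpr ?_
      have hfin : {c : Fin m →₀ ℕ | c.sum (fun _ e ↦ e) ≤ D}.Finite := by
        refine (Set.finite_range fun f : Fin m → Fin (D + 1) ↦
          Finsupp.equivFunOnFinite.symm fun i ↦ (f i : ℕ)).subset fun c hc ↦ ?_
        have hc' : ∑ i, c i ≤ D := (Finsupp.sum_fintype c (fun _ e ↦ e) (fun _ ↦ rfl)).symm.trans_le hc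
        refine ⟨fun i ↦ ⟨c i, Nat.lt_succ_of_le
          ((Finset.single_le_sum (fun j _ ↦ Nat.zero_le (c j)) (Finset.mem_univ i)).trans hc')⟩, ?_⟩
        ext i
        simp
      refine ⟨hfin.toFinset.image fun c ↦ monomial c (1 : A), le_antisymm (Submodule.span_le.mpr ?_) fun p hp ↦ ?_⟩
      · intro z hz
        simp only [Finset.coe_image, Set.mem_image, Set.Finite.coe_toFinset] at hz
        obtain ⟨c, hc, rfl⟩ := hz
        rw [SetLike.mem_coe, mem_restrictTotalDegree]
        exact (totalDegree_monomial_le _ _).trans hc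
      · rw [p.as_sum]
        refine Submodule.sum_mem _ fun c hc ↦ ?_
        rw [show monomial c (p.coeff c) = p.coeff c • monomial c (1 : A) by rw [smul_monomial, smul_eq_mul, mul_one]]
        refine Submodule.smul_mem _ _ (Submodule.subset_span ?_)
        simp only [Finset.coe_image, Set.mem_image, Set.Finite.coe_toFinset]
        exact ⟨c, (le_totalDegree hc).trans ((mem_restrictTotalDegree _ _ _).mp hp), rfl⟩
    have hNDfg : ND.FG := by
      refine fg_of_isSat hbase hA ND fun x k hx ↦ ?_
      have h := hx (t ^ k) (by rw [Ideal.span_singleton_pow]; exact Ideal.mem_span_singleton_self _)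
      refine hsat (t ^ k) x.1 (pow_ne_zero k ht) ?_
      rw [← MvPolynomial.smul_eq_C_mul]
      exact h
    let GD : Submodule A PD := (G.restrictScalars A).comap PD.subtype
    have hle : ND ≤ GD ⊔ (maximalIdeal R).map (algebraMap R A) • ND := by
      intro z hz
      have hzD : z.1.totalDegree ≤ D := (mem_restrictTotalDegree _ _ _).mp z.2
      obtain ⟨q, hq, hqs⟩ := hrep D _ ⟨z.1, hz, hzD, rfl⟩
      choose p hp hpd using fun x : s ↦ exists_map_eq_totalDegree_le φ.toRingHom hφs (q x.1)
      let u := ∑ x : s, if q x.1 = 0 then 0 else p x * g x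
      have huG : u ∈ G := Submodule.sum_mem _ fun x _ ↦ by
        split_ifs
        · exact zero_mem _
        · exact Submodule.smul_mem G (p x) (Submodule.subset_span (by simp))
      have huN : u ∈ N := Submodule.sum_mem _ fun x _ ↦ by
        split_ifs
        · exact zero_mem _
        · exact N.mul_mem_left _ (hgN x)
      have huD : u.totalDegree ≤ D := by
        refine (totalDegree_finsetSum _ _).trans (Finset.sup_le fun x _ ↦ ?_)
        split_ifs with h
        · simp
        · rcases hq x.1 x.2 with h' | ⟨h1, h2⟩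
          · exact absurd h' h
          · refine (totalDegree_mul _ _).trans ?_
            have := hgdeg x
            have := hpd x
            omega
      have hmapu : MvPolynomial.map φ.toRingHom u = MvPolynomial.map φ.toRingHom z.1 := by
        rw [hqs, ← Finset.sum_coe_sort s, map_sum]
        refine Finset.sum_congr rfl fun x _ ↦ ?_
        split_ifs with h
        · simp [h]
        · rw [map_mul, hp, hgmap]
      let r := z.1 - u
      have hr : ∀ c, ∃ a ∈ maximalIdeal R, ∃ w, r.coeff c = algebraMap R A a * w := fun c ↦ by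
        refine exists_mul_of_mem_map_maximalIdeal ht _ (hφker _ ?_)
        have := congrArg (coeff c) hmapu
        rw [coeff_map, coeff_map] at this
        change φ (coeff c (z.1 - u)) = 0
        rw [coeff_sub, map_sub, sub_eq_zero]
        exact this.symm
      choose a ha w hw using hr
      obtain ⟨d, hdm, hd0, -, hd⟩ := exists_common_divisor ht (r.support.image a) (by
        intro x hx
        obtain ⟨c, -, rfl⟩ := Finset.mem_image.mp hx
        exact ha c)
      have hCd : MvPolynomial.C (algebraMap R A d) ∣ r :=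
        (C_dvd_iff_dvd_coeff _ _).mpr fun c ↦ by
          by_cases hc : c ∈ r.support
          · rw [hw c]
            exact Dvd.dvd.mul_right (_root_.map_dvd _ (hd _ (Finset.mem_image_of_mem a hc))) _
          · rw [notMem_support_iff.mp hc]; exact dvd_zero _
      obtain ⟨z', hz'⟩ := hCd
      have hz'N : z' ∈ N := hsat d z' hd0 (hz' ▸ N.sub_mem hz huN)
      have hz'D : z'.totalDegree ≤ D := by
        refine Finset.sup_le fun c hc ↦ ?_
        have : c ∈ r.support := by
          rw [mem_support_iff] at hc ⊢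
          rw [hz', coeff_C_mul]
          exact fun h ↦ hc (noTorsion_compl' ht hd0 _ h)
        exact (le_totalDegree this).trans ((totalDegree_sub _ _).trans (max_le hzD huD))
      rw [← sub_add_cancel z ⟨u, (mem_restrictTotalDegree _ _ _).mpr huD⟩]
      refine add_mem (Submodule.mem_sup_right ?_) (Submodule.mem_sup_left huG)
      have : z - ⟨u, (mem_restrictTotalDegree _ _ _).mpr huD⟩ =
          algebraMap R A d • (⟨z', (mem_restrictTotalDegree _ _ _).mpr hz'D⟩ : PD) :=
        Subtype.ext (hz'.trans (MvPolynomial.smul_eq_C_mul _ _).symm)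
      rw [this]
      exact Submodule.smul_mem_smul (Ideal.mem_map_of_mem _ hdm) hz'N
    have hjac : (maximalIdeal R).map (algebraMap R A) ≤ Ideal.jacobson ⊥ := by
      intro x hx
      obtain ⟨N', hN'⟩ := exists_pow_mem_map ht hx
      have : x ∈ (Ideal.jacobson (⊥ : Ideal A)).radical := ⟨N', le_jacobson_of_topFiniteType hI hA hN'⟩
      rwa [Ideal.IsRadical.radical (Ideal.isRadical_jacobson _)] at this
    have := Submodule.le_of_le_smul_of_le_jacobson_bot hNDfg hjac hle
      (show (⟨y, (mem_restrictTotalDegree _ _ _).mpr le_rfl⟩ : PD) ∈ ND from hy)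
    exact this

end Groth.Agent.AdicRingLib
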