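import Mathlib
import Groth.Agent.CplFin.Basic
import Groth.Agent.CAlgCompl.Basic

/-!
Closed points of the rigid spectrum of an adically complete Noetherian ring.
-/

set_option autoImplicit false
universe u v

namespace Groth.Agent.AdicRingLib.RigTfae

variable {A : Type u} [CommRing A]

/-- Closed point of `Spec A \ V(I)`. -/
def RigClosed (I : Ideal A) (q : PrimeSpectrum A) : Prop :=
  ¬ I ≤ q.asIdeal ∧ ∀ q' : PrimeSpectrum A, q ≤ q' → ¬ I ≤ q'.asIdeal → q' = q

/-- In a Noetherian domain, if every nonzero prime contains a fixed nonzero element, the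
dimension is at most one. -/
theorem krullDimLE_one_of_forall_mem {D : Type u} [CommRing D] [IsDomain D] [IsNoetherianRing D]
    {a : D} (ha : a ≠ 0) (h : ∀ P : Ideal D, P.IsPrime → P ≠ ⊥ → a ∈ P) : Ring.KrullDimLE 1 D := by
  refine Ring.krullDimLE_one_iff_of_noZeroDivisors.2 fun P hP0 hP => ?_
  by_contra hmax
  obtain ⟨m, hm, hPm⟩ := Ideal.exists_le_maximal P hP.ne_top
  have hlt : P < m := lt_of_le_of_ne hPm fun he => hmax (he ▸ hm)
  let s := (Ideal.finite_minimalPrimes_of_isNoetherianRing D (Ideal.span {a})).toFinset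
  have hne : ∀ Q ∈ s, Q.height ≤ 1 := fun Q hQ => by
    rw [Set.Finite.mem_toFinset] at hQ
    exact Ideal.height_le_one_of_isPrincipal_of_mem_minimalPrimes _ _ hQ
  have hm2 : ¬ m.height ≤ 1 := by
    intro hle
    haveI := hP
    have h1 : P.height < m.height := Ideal.height_strict_mono_of_isPrime hlt
    have h2 : P.height ≠ 0 := fun h0 => hP0 (Ideal.height_eq_zero_iff_eq_bot.1 h0)
    exact (lt_of_le_of_lt (ENat.one_le_iff_ne_zero.2 h2) (h1.trans_le hle)).false
  obtain ⟨x, hxm, hx⟩ : ∃ x ∈ m, ∀ Q ∈ s, x ∉ Q := by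
    by_contra! hc
    have hsub : (m : Set D) ⊆ ⋃ Q ∈ (s : Set (Ideal D)), (Q : Set D) := fun y hy => by
      obtain ⟨Q, hQ, hyQ⟩ := hc y hy
      exact Set.mem_biUnion hQ hyQ
    obtain ⟨Q, hQ, hmQ⟩ := (Ideal.subset_union_prime (⊥ : Ideal D) ⊥ fun Q hQ _ _ =>
      ((Set.Finite.mem_toFinset _).1 hQ).1.1).1 hsub
    have hQp : Q.IsPrime := ((Set.Finite.mem_toFinset _).1 hQ).1.1
    exact hm2 ((hm.eq_of_le hQp.ne_top hmQ) ▸ hne Q hQ)
  obtain ⟨Q, hQmin, hQm⟩ := Ideal.exists_minimalPrimes_le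
    (I := Ideal.span {x}) (J := m) ((Ideal.span_singleton_le_iff_mem _).2 hxm)
  haveI := hQmin.1.1
  have hxQ : x ∈ Q := hQmin.1.2 (Ideal.mem_span_singleton_self x)
  have hxne : x ≠ 0 := fun h0 => by
    obtain ⟨Q₀, hQ₀, -⟩ := Ideal.exists_minimalPrimes_le
      (I := Ideal.span {a}) (J := m) ((Ideal.span_singleton_le_iff_mem _).2 (h m hm.isPrime (ne_bot_of_gt hlt)))
    exact hx Q₀ ((Set.Finite.mem_toFinset _).2 hQ₀) (h0 ▸ Q₀.zero_mem)
  have hQ0 : Q ≠ ⊥ := fun hb => hxne (by simpa [hb] using hxQ)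
  obtain ⟨Q', hQ', hQ'Q⟩ := Ideal.exists_minimalPrimes_le
    (I := Ideal.span {a}) (J := Q) ((Ideal.span_singleton_le_iff_mem _).2 (h Q inferInstance hQ0))
  haveI := hQ'.1.1
  have hQ'0 : Q' ≠ ⊥ := fun hb => ha (by simpa [hb] using hQ'.1.2 (Ideal.mem_span_singleton_self a))
  rcases eq_or_lt_of_le hQ'Q with he | hlt'
  · exact hx Q' ((Set.Finite.mem_toFinset _).2 hQ') (he ▸ hxQ)
  · have h1 : Q'.height < Q.height := Ideal.height_strict_mono_of_isPrime hlt'
    have h2 : Q'.height ≠ 0 := fun h0 => hQ'0 (Ideal.height_eq_zero_iff_eq_bot.1 h0)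
    exact (lt_of_le_of_lt (ENat.one_le_iff_ne_zero.2 h2)
      (h1.trans_le (Ideal.height_le_one_of_isPrincipal_of_mem_minimalPrimes _ _ hQmin))).false

/-- A domain which is henselian along `J` has only trivial idempotents modulo `J`. -/
theorem idempotent_trivial {D : Type u} [CommRing D] [IsDomain D] (J : Ideal D) [HenselianRing D J]
    {e : D ⧸ J} (he : IsIdempotentElem e) : e = 0 ∨ e = 1 := by
  obtain ⟨a₀, rfl⟩ := Ideal.Quotient.mk_surjective e
  have hu : IsUnit (Ideal.Quotient.mk J (2 * a₀ - 1)) := by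
    refine IsUnit.of_mul_eq_one (Ideal.Quotient.mk J (2 * a₀ - 1)) ?_
    simp only [map_sub, map_mul, map_one, map_ofNat]
    linear_combination 4 * he.eq
  obtain ⟨a, ha, hsub⟩ := HenselianRing.is_henselian (I := J) (Polynomial.X ^ 2 - Polynomial.X)
    (Polynomial.monic_X_pow_sub (by rw [Polynomial.degree_X]; decide)) a₀ (by
      rw [← Ideal.Quotient.eq_zero_iff_mem]
      simp only [Polynomial.eval_sub, Polynomial.eval_pow, Polynomial.eval_X, map_sub, map_pow]
      rw [pow_two, he.eq, sub_self])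
    (by
      simp only [Polynomial.derivative_sub, Polynomial.derivative_X_pow, Polynomial.derivative_X, Polynomial.eval_sub,
        Polynomial.eval_mul, Polynomial.eval_C, Polynomial.eval_pow, Polynomial.eval_X, Polynomial.eval_one]
      simpa using hu)
  simp only [Polynomial.IsRoot, Polynomial.eval_sub, Polynomial.eval_pow, Polynomial.eval_X] at ha
  rw [Ideal.Quotient.eq.2 hsub |>.symm]
  rcases mul_eq_zero.1 (show a * (a - 1) = 0 by linear_combination ha) with h | h
  · exact .inl (by rw [h, map_zero])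
  · exact .inr (by rw [sub_eq_zero.1 h, map_one])

/-- An Artinian ring with only trivial idempotents has at most one maximal ideal. -/
theorem maximal_unique {R : Type u} [CommRing R] [IsArtinianRing R]
    (h : ∀ e : R, IsIdempotentElem e → e = 0 ∨ e = 1) {M N : Ideal R} (hM : M.IsMaximal) (hN : N.IsMaximal) :
    M = N := by
  refine hM.eq_of_le hN.ne_top fun x hx => ?_
  obtain ⟨n, y, hy⟩ := IsArtinian.exists_pow_succ_smul_dvd x (1 : R)
  simp only [smul_eq_mul, mul_one] at hy
  have key : ∀ k, x ^ n = x ^ (n + k) * y ^ k := by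
    intro k
    induction k with
    | zero => simp
    | succ k ih =>
      calc x ^ n = x ^ (n + k) * y ^ k := ih
        _ = (x ^ n.succ * y) * x ^ k * y ^ k := by rw [hy]; ring
        _ = _ := by rw [Nat.succ_eq_add_one]; ring
  have hid : IsIdempotentElem (x ^ n * y ^ n) := by
    change x ^ n * y ^ n * (x ^ n * y ^ n) = _
    nth_rw 3 [key n]
    ring
  rcases h _ hid with h0 | h1
  · have : x ^ n = 0 := by
      rw [key n, show x ^ (n + n) * y ^ n = x ^ n * (x ^ n * y ^ n) by ring, h0, mul_zero]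
    exact hN.isPrime.mem_of_pow_mem n (this ▸ N.zero_mem)
  · rcases Nat.eq_zero_or_pos n with hn | hn
    · subst hn
      have : x * y = 1 := by simpa using hy
      exact (hM.ne_top (Ideal.eq_top_of_isUnit_mem _ hx (IsUnit.of_mul_eq_one _ this))).elim
    · exact (hM.ne_top ((Ideal.eq_top_iff_one _).2 (h1 ▸ M.mul_mem_right _
        (Ideal.pow_mem_of_mem M hx n hn)))).elim

theorem image_eq_bot {I p : Ideal A} (h : I ≤ p) : I.map (Ideal.Quotient.mk p) = ⊥ := by
  rw [← le_bot_iff, ← Ideal.map_quotient_self p]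
  exact Ideal.map_mono h

theorem dim_one_of_rigClosed [IsNoetherianRing A] {I : Ideal A} [IsAdicComplete I A] {q : PrimeSpectrum A}
    (hq : RigClosed I q) : ringKrullDim (A ⧸ q.asIdeal) = 1 := by
  obtain ⟨a, haI, haq⟩ := SetLike.not_le_iff_exists.1 hq.1
  have hmem : ∀ P : Ideal (A ⧸ q.asIdeal), P.IsPrime → P ≠ ⊥ → Ideal.Quotient.mk q.asIdeal a ∈ P := by
    intro P hP hP0
    by_contra ha
    have hle : q ≤ ⟨P.comap (Ideal.Quotient.mk q.asIdeal), inferInstance⟩ := fun x hx => by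
      change Ideal.Quotient.mk q.asIdeal x ∈ P
      rw [Ideal.Quotient.eq_zero_iff_mem.2 hx]
      exact P.zero_mem
    have heq := hq.2 _ hle fun hI => ha (hI haI)
    apply hP0
    rw [← Ideal.map_comap_of_surjective _ Ideal.Quotient.mk_surjective P]
    exact le_bot_iff.1 ((Ideal.map_mono (le_of_eq (congrArg PrimeSpectrum.asIdeal heq))).trans
      (le_of_eq (Ideal.map_quotient_self _)))
  haveI := krullDimLE_one_of_forall_mem (D := A ⧸ q.asIdeal)
    (fun h0 => haq (Ideal.Quotient.eq_zero_iff_mem.1 h0)) hmem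
  obtain ⟨m, hm, hqm⟩ := Ideal.exists_le_maximal q.asIdeal q.2.ne_top
  have hIm : I ≤ m := (IsAdicComplete.le_jacobson_bot (I := I)).trans (sInf_le ⟨bot_le, hm⟩)
  refine le_antisymm ((Ring.krullDimLE_iff (n := 1)).1 inferInstance) ?_
  refine Order.one_le_krullDim_iff.2 ⟨⟨⊥, Ideal.isPrime_bot⟩,
    ⟨m.map (Ideal.Quotient.mk q.asIdeal), Ideal.map_isPrime_of_surjective Ideal.Quotient.mk_surjective
      (by rwa [Ideal.mk_ker])⟩, lt_of_le_of_ne bot_le ?_⟩
  intro he
  have : Ideal.Quotient.mk q.asIdeal a ∈ (⊥ : Ideal (A ⧸ q.asIdeal)) := by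
    rw [show (⊥ : Ideal (A ⧸ q.asIdeal)) = m.map (Ideal.Quotient.mk q.asIdeal) from congrArg PrimeSpectrum.asIdeal he]
    exact Ideal.mem_map_of_mem _ (hIm haI)
  exact haq (Ideal.Quotient.eq_zero_iff_mem.1 this)

theorem isAdicComplete_quotient [IsNoetherianRing A] (I q : Ideal A) [IsAdicComplete I A] :
    IsAdicComplete (I.map (Ideal.Quotient.mk q)) (A ⧸ q) := by
  haveI := Groth.Agent.CplFin.isAdicComplete_of_finite A I (A ⧸ q)
  exact (IsAdicComplete.map_algebraMap_iff (S := A ⧸ q) _ _).2 inferInstance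

theorem max_eq_radical_of_dim_one [IsNoetherianRing A] {I : Ideal A} [IsAdicComplete I A] {q : PrimeSpectrum A}
    (hd : ringKrullDim (A ⧸ q.asIdeal) = 1) (hI : ¬ I ≤ q.asIdeal) :
    (∀ m : Ideal (A ⧸ q.asIdeal), m.IsMaximal → m = (I.map (Ideal.Quotient.mk q.asIdeal)).radical) ∧
      IsAdicComplete (I.map (Ideal.Quotient.mk q.asIdeal)).radical (A ⧸ q.asIdeal) := by
  set J := I.map (Ideal.Quotient.mk q.asIdeal) with hJ
  haveI : IsAdicComplete J (A ⧸ q.asIdeal) := isAdicComplete_quotient I q.asIdeal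
  have hJ0 : J ≠ ⊥ := fun h0 => hI <| by
    rw [← Ideal.mk_ker (I := q.asIdeal)]
    exact fun x hx => RingHom.mem_ker.2 ((Submodule.mem_bot _).1 (h0.le (Ideal.mem_map_of_mem (Ideal.Quotient.mk q.asIdeal) hx)))
  haveI : Ring.KrullDimLE 1 (A ⧸ q.asIdeal) := (Ring.krullDimLE_iff (n := 1)).2 hd.le
  haveI : Ring.KrullDimLE 0 ((A ⧸ q.asIdeal) ⧸ J) := Ring.KrullDimLE.mk₀ fun P hP => by
    have hne : P.comap (Ideal.Quotient.mk J) ≠ ⊥ := fun h0 => hJ0 <| le_bot_iff.1 <|
      h0 ▸ fun x hx => show Ideal.Quotient.mk J x ∈ P by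
        rw [Ideal.Quotient.eq_zero_iff_mem.2 hx]; exact P.zero_mem
    haveI := (Ideal.comap_isPrime (Ideal.Quotient.mk J) P).isMaximal_of_ne_bot hne
    exact (Ideal.map_comap_of_surjective _ Ideal.Quotient.mk_surjective P) ▸
      ((Ideal.map_eq_top_or_isMaximal_of_surjective _ Ideal.Quotient.mk_surjective inferInstance).resolve_left
        fun ht => hP.ne_top ((Ideal.map_comap_of_surjective _ Ideal.Quotient.mk_surjective P).symm.trans ht))
  haveI : IsArtinianRing ((A ⧸ q.asIdeal) ⧸ J) := IsNoetherianRing.isArtinianRing_of_krullDimLE_zero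
  haveI : HenselianRing (A ⧸ q.asIdeal) J := inferInstance
  have hjac : J ≤ Ideal.jacobson ⊥ := IsAdicComplete.le_jacobson_bot (I := J)
  have huniq : ∀ m n : Ideal (A ⧸ q.asIdeal), m.IsMaximal → n.IsMaximal → m = n := by
    intro m n hm hn
    have hJm : J ≤ m := hjac.trans (sInf_le ⟨bot_le, hm⟩)
    have hJn : J ≤ n := hjac.trans (sInf_le ⟨bot_le, hn⟩)
    have key := fun (M : Ideal (A ⧸ q.asIdeal)) (hM : M.IsMaximal) (hJM : J ≤ M) =>
      Ideal.IsMaximal.map_of_surjective_of_ker_le (f := Ideal.Quotient.mk J) (m := M) Ideal.Quotient.mk_surjective (by rwa [Ideal.mk_ker])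
    have := maximal_unique (fun e he => idempotent_trivial J he) (key m hm hJm) (key n hn hJn)
    have h2 := congrArg (Ideal.comap (Ideal.Quotient.mk J)) this
    rwa [Ideal.comap_map_of_surjective _ Ideal.Quotient.mk_surjective, Ideal.comap_map_of_surjective _ Ideal.Quotient.mk_surjective,
      ← RingHom.ker_eq_comap_bot, Ideal.mk_ker, sup_eq_left.2 hJm, sup_eq_left.2 hJn] at h2
  have hrad : ∀ m : Ideal (A ⧸ q.asIdeal), m.IsMaximal → m = J.radical := by
    intro m hm
    refine le_antisymm ?_ ((hm.isPrime.radical_le_iff).2 (hjac.trans (sInf_le ⟨bot_le, hm⟩)))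
    rw [Ideal.radical_eq_sInf]
    refine le_sInf fun P ⟨hJP, hP⟩ => ?_
    have hne : P ≠ ⊥ := fun h0 => hJ0 (le_bot_iff.1 (h0 ▸ hJP))
    exact le_of_eq (huniq m P hm (hP.isMaximal_of_ne_bot hne))
  refine ⟨hrad, ?_⟩
  obtain ⟨k, hk⟩ := Ideal.exists_pow_le_of_le_radical_of_fg (le_refl J.radical) (IsNoetherian.noetherian _)
  exact Groth.Agent.CplFin.isAdicComplete_of_le_of_pow_le _ J _ Ideal.le_radical (k + 1) (Nat.succ_ne_zero k)
    ((Ideal.pow_le_pow_right (Nat.le_succ k)).trans hk)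

theorem rigClosed_of_max {I : Ideal A} {q : PrimeSpectrum A} (hd : ringKrullDim (A ⧸ q.asIdeal) = 1)
    (h : ∀ m : Ideal (A ⧸ q.asIdeal), m.IsMaximal → m = (I.map (Ideal.Quotient.mk q.asIdeal)).radical) :
    RigClosed I q := by
  haveI : Ring.KrullDimLE 1 (A ⧸ q.asIdeal) := (Ring.krullDimLE_iff (n := 1)).2 hd.le
  have hI : ¬ I ≤ q.asIdeal := fun hle => by
    obtain ⟨m, hm⟩ := Ideal.exists_maximal (A ⧸ q.asIdeal)
    have h1 := h m hm
    rw [image_eq_bot hle, Ideal.radical_bot_of_noZeroDivisors] at h1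
    have hf : IsField (A ⧸ q.asIdeal) :=
      Ring.isField_iff_isSimpleOrder_ideal.2 ⟨fun P => by
        by_contra hc
        push Not at hc
        obtain ⟨m', hm', hPm⟩ := Ideal.exists_le_maximal P hc.2
        have h2 := h m' hm'
        rw [image_eq_bot hle, Ideal.radical_bot_of_noZeroDivisors] at h2
        exact hc.1 (le_bot_iff.1 (h2 ▸ hPm))⟩
    rw [ringKrullDim_eq_zero_of_isField hf] at hd
    exact zero_ne_one hd
  refine ⟨hI, fun q' hle hq' => ?_⟩
  by_contra hne
  have hne' : q'.asIdeal.map (Ideal.Quotient.mk q.asIdeal) ≠ ⊥ := fun h0 => hne <| PrimeSpectrum.ext <|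
    le_antisymm (by rwa [Ideal.map_eq_bot_iff_le_ker, Ideal.mk_ker] at h0) hle
  haveI hp : (q'.asIdeal.map (Ideal.Quotient.mk q.asIdeal)).IsPrime :=
    Ideal.map_isPrime_of_surjective Ideal.Quotient.mk_surjective (by rw [Ideal.mk_ker]; exact hle)
  have h1 := h _ (hp.isMaximal_of_ne_bot hne')
  apply hq'
  have h2 : (I.map (Ideal.Quotient.mk q.asIdeal)) ≤ q'.asIdeal.map (Ideal.Quotient.mk q.asIdeal) :=
    h1 ▸ Ideal.le_radical
  have h3 := Ideal.comap_mono (f := Ideal.Quotient.mk q.asIdeal) h2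
  rw [Ideal.comap_map_of_surjective _ Ideal.Quotient.mk_surjective, Ideal.comap_map_of_surjective _ Ideal.Quotient.mk_surjective,
    ← RingHom.ker_eq_comap_bot, Ideal.mk_ker, sup_eq_left.2 (show q.asIdeal ≤ q'.asIdeal from hle)] at h3
  exact le_sup_left.trans h3

/-- An algebra whose prime quotients are finite over the base is finite, if it is Noetherian. -/
theorem finite_of_forall_prime_quotient {R : Type v} [CommRing R] [Algebra A R] [IsNoetherianRing R]
    (h : ∀ P : Ideal R, P.IsPrime → Module.Finite A (R ⧸ P)) : Module.Finite A R := by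
  let mot : (N : Type v) → [AddCommGroup N] → [Module R N] → [Module.Finite R N] → Prop := fun N _ _ _ =>
    ∀ (_ : Module A N) (_ : IsScalarTower A R N), Module.Finite A N
  suffices mot R from this inferInstance inferInstance
  refine IsNoetherianRing.induction_on_isQuotientEquivQuotientPrime R
    inferInstance (motive := mot) (fun N => ?_) (fun N _ _ _ P e => ?_)
    (fun N₁ _ _ _ N₂ _ _ _ N₃ _ _ _ f g hf hg hfg h₁ h₃ => ?_)
  · intro _ _ _ _ _ _
    exact inferInstance
  · intro _ _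
    haveI hP : Module.Finite A (R ⧸ P.asIdeal) := h P.asIdeal P.2
    exact Module.Finite.equiv (e.restrictScalars A).symm
  · intro _ _
    letI : Module A N₁ := Module.compHom N₁ (algebraMap A R)
    haveI : IsScalarTower A R N₁ := IsScalarTower.of_compHom A R N₁
    letI : Module A N₃ := Module.compHom N₃ (algebraMap A R)
    haveI : IsScalarTower A R N₃ := IsScalarTower.of_compHom A R N₃
    haveI := h₁ inferInstance inferInstance
    haveI := h₃ inferInstance inferInstance
    exact Module.Finite.of_exact (f := f.restrictScalars A) (g := g.restrictScalars A) hfg hg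

section TwoRings

variable [IsNoetherianRing A] {I : Ideal A} [IsAdicComplete I A] {B : Type u} [CommRing B] [Algebra A B]
  [IsNoetherianRing B] [IsAdicComplete (I.map (algebraMap A B)) B] {q : PrimeSpectrum B}

theorem finite_of_finite_maximal (hq : RigClosed (I.map (algebraMap A B)) q)
    (h : ∀ m : Ideal B, m.IsMaximal → q.asIdeal ≤ m → Module.Finite A (B ⧸ m)) :
    Module.Finite A (B ⧸ q.asIdeal) := by
  obtain ⟨hmax, -⟩ := max_eq_radical_of_dim_one (dim_one_of_rigClosed hq) hq.1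
  haveI := isAdicComplete_quotient (I.map (algebraMap A B)) q.asIdeal
  have hmap : (I.map (algebraMap A B)).map (Ideal.Quotient.mk q.asIdeal) = I.map (algebraMap A (B ⧸ q.asIdeal)) := by
    rw [Ideal.map_map]; rfl
  rw [hmap] at hmax
  haveI : IsAdicComplete (I.map (algebraMap A (B ⧸ q.asIdeal))) (B ⧸ q.asIdeal) := hmap ▸ inferInstance
  haveI : IsHausdorff I (B ⧸ q.asIdeal) :=
    (IsHausdorff.map_algebraMap_iff (S := B ⧸ q.asIdeal)).1 inferInstance
  let J := I.map (algebraMap A (B ⧸ q.asIdeal))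
  have hfin : Module.Finite A ((B ⧸ q.asIdeal) ⧸ J) := by
    refine finite_of_forall_prime_quotient fun P hP => ?_
    haveI := hP
    let ψ : B →ₐ[A] ((B ⧸ q.asIdeal) ⧸ J) :=
      (Ideal.Quotient.mkₐ A J).comp (Ideal.Quotient.mkₐ A q.asIdeal)
    have hψs : Function.Surjective ψ :=
      (Ideal.Quotient.mkₐ_surjective A _).comp (Ideal.Quotient.mkₐ_surjective A _)
    have hJr : J ≤ P.comap (Ideal.Quotient.mk J) := fun x hx => by
      rw [Ideal.mem_comap, Ideal.Quotient.eq_zero_iff_mem.2 hx]; exact P.zero_mem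
    obtain ⟨m0, hm0, hPm0⟩ := Ideal.exists_le_maximal _ (Ideal.IsPrime.ne_top (I := P.comap (Ideal.Quotient.mk J)) inferInstance)
    have heq : P.comap (Ideal.Quotient.mk J) = m0 :=
      le_antisymm hPm0 ((hmax m0 hm0).le.trans ((Ideal.IsPrime.radical_le_iff inferInstance).2 hJr))
    haveI hmax' : (P.comap ψ.toRingHom).IsMaximal := by
      change ((P.comap (Ideal.Quotient.mk J)).comap (Ideal.Quotient.mk q.asIdeal)).IsMaximal
      rw [heq]
      haveI := hm0
      exact Ideal.comap_isMaximal_of_surjective _ Ideal.Quotient.mk_surjective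
    haveI := h (P.comap ψ.toRingHom) hmax' (fun x hx => by
      change Ideal.Quotient.mk J (Ideal.Quotient.mk q.asIdeal x) ∈ P
      rw [Ideal.Quotient.eq_zero_iff_mem.2 hx, map_zero]
      exact P.zero_mem)
    let g : (B ⧸ P.comap ψ.toRingHom) →ₐ[A] ((B ⧸ q.asIdeal) ⧸ J) ⧸ P :=
      Ideal.quotientMapₐ (I := P.comap ψ.toRingHom) P ψ le_rfl
    refine Module.Finite.of_surjective g.toLinearMap fun y => ?_
    obtain ⟨z, rfl⟩ := Ideal.Quotient.mk_surjective y
    obtain ⟨w, rfl⟩ := hψs z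
    exact ⟨Ideal.Quotient.mk _ w, rfl⟩
  haveI := hfin
  refine Groth.Agent.CAlgCompl.finite_of_finite_quotient I (B ⧸ q.asIdeal) ?_
  exact Module.Finite.equiv
    (((Submodule.quotEquivOfEq _ _ (Ideal.smul_top_eq_map (R := A) (S := B ⧸ q.asIdeal) I)).trans
      (Submodule.Quotient.restrictScalarsEquiv A J)).symm)

omit [IsNoetherianRing B] [IsAdicComplete (I.map (algebraMap A B)) B] in
theorem rigClosed_comap_of_finite (hq : RigClosed (I.map (algebraMap A B)) q)
    (h : Module.Finite A (B ⧸ q.asIdeal)) :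
    RigClosed I (PrimeSpectrum.comap (algebraMap A B) q) := by
  refine ⟨fun hle => hq.1 (Ideal.map_le_iff_le_comap.2 hle), fun y hy hyI => ?_⟩
  haveI : Algebra.IsIntegral A (B ⧸ q.asIdeal) := Algebra.IsIntegral.of_finite A _
  obtain ⟨Q, -, hQ, hQy⟩ := Ideal.exists_ideal_over_prime_of_isIntegral y.asIdeal (⊥ : Ideal (B ⧸ q.asIdeal))
    (fun x hx => hy (show algebraMap A B x ∈ q.asIdeal from
      Ideal.Quotient.eq_zero_iff_mem.1 ((Ideal.mem_bot).1 hx)))
  haveI := hQ
  have hle : q ≤ ⟨Q.comap (Ideal.Quotient.mk q.asIdeal), inferInstance⟩ := fun x hx => by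
    change Ideal.Quotient.mk q.asIdeal x ∈ Q
    rw [Ideal.Quotient.eq_zero_iff_mem.2 hx]; exact Q.zero_mem
  have heq := hq.2 _ hle fun hI => hyI fun x hx => by
    rw [← hQy]
    exact hI (Ideal.mem_map_of_mem _ hx)
  ext x
  rw [← hQy]
  change algebraMap A B x ∈ (⟨Q.comap (Ideal.Quotient.mk q.asIdeal), inferInstance⟩ : PrimeSpectrum B).asIdeal ↔ _
  rw [heq]
  rfl

theorem finite_of_isMaximal_under {m : Ideal B} [m.IsMaximal]
    (hft : Algebra.FiniteType A (B ⧸ I.map (algebraMap A B))) (hp : (m.under A).IsMaximal) :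
    Module.Finite A (B ⧸ m) := by
  have hm : I.map (algebraMap A B) ≤ m :=
    (IsAdicComplete.le_jacobson_bot (I := I.map (algebraMap A B))).trans (sInf_le ⟨bot_le, inferInstance⟩)
  haveI := hp
  haveI : Algebra.FiniteType A (B ⧸ m) :=
    hft.of_surjective (Ideal.Quotient.factorₐ A hm) (Ideal.Quotient.factor_surjective hm)
  letI := Ideal.Quotient.field (m.under A)
  letI := Ideal.Quotient.field m
  haveI : Algebra.FiniteType (A ⧸ m.under A) (B ⧸ m) := Algebra.FiniteType.of_restrictScalars_finiteType A _ _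
  haveI := finite_of_finite_type_of_isJacobsonRing (A ⧸ m.under A) (B ⧸ m)
  haveI : Module.Finite A (A ⧸ m.under A) :=
    Module.Finite.of_surjective (Submodule.mkQ _) (Submodule.mkQ_surjective _)
  exact Module.Finite.trans (A ⧸ m.under A) (B ⧸ m)

theorem finite_maximal_of_rigClosed_comap
    (hft : Algebra.FiniteType A (B ⧸ I.map (algebraMap A B)))
    (hp : RigClosed I (PrimeSpectrum.comap (algebraMap A B) q)) (m : Ideal B) [hm : m.IsMaximal]
    (hqm : q.asIdeal ≤ m) : Module.Finite A (B ⧸ m) := by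
  refine finite_of_isMaximal_under hft ?_
  have hIm : I ≤ m.under A := Ideal.map_le_iff_le_comap.1
    ((IsAdicComplete.le_jacobson_bot (I := I.map (algebraMap A B))).trans (sInf_le ⟨bot_le, hm⟩))
  obtain ⟨n, hn, hle⟩ := Ideal.exists_le_maximal (m.under A) (Ideal.IsPrime.ne_top inferInstance)
  suffices m.under A = n from this ▸ hn
  by_contra hne
  have hdim := dim_one_of_rigClosed hp
  haveI : Ring.KrullDimLE 1 (A ⧸ (PrimeSpectrum.comap (algebraMap A B) q).asIdeal) := (Ring.krullDimLE_iff (n := 1)).2 hdim.le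
  set p := (PrimeSpectrum.comap (algebraMap A B) q).asIdeal with hpdef
  have hpm : p ≤ m.under A := Ideal.comap_mono hqm
  have hne0 : (m.under A).map (Ideal.Quotient.mk p) ≠ ⊥ := fun h0 => hp.1 (by
    rw [Ideal.map_eq_bot_iff_le_ker, Ideal.mk_ker] at h0
    exact hIm.trans h0)
  haveI hP : ((m.under A).map (Ideal.Quotient.mk p)).IsPrime :=
    Ideal.map_isPrime_of_surjective Ideal.Quotient.mk_surjective (by rwa [Ideal.mk_ker])
  haveI := hP.isMaximal_of_ne_bot hne0
  have hu := Ideal.comap_isMaximal_of_surjective (Ideal.Quotient.mk p) Ideal.Quotient.mk_surjective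
    (K := (m.under A).map (Ideal.Quotient.mk p))
  rw [Ideal.comap_map_of_surjective _ Ideal.Quotient.mk_surjective, ← RingHom.ker_eq_comap_bot, Ideal.mk_ker,
    sup_eq_left.2 hpm] at hu
  exact hne (hu.eq_of_le hn.ne_top hle)

end TwoRings

end Groth.Agent.AdicRingLib.RigTfae
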