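import Groth.Agent.AdicRingLib.Height1

/-! Rig-points of admissible algebras over complete valuation rings of height one. -/

set_option autoImplicit false

universe u v w

namespace Groth.Agent.AdicRingLib

open Ideal IsLocalRing
open scoped TensorProduct

variable {R : Type u} [CommRing R] [IsDomain R] [ValuationRing R] [Ring.KrullDimLE 1 R]
variable {t : R} (ht : t ≠ 0) [IsAdicComplete (Ideal.span {t}) R]

omit [IsDomain R] [ValuationRing R] [Ring.KrullDimLE 1 R] [IsAdicComplete (Ideal.span {t}) R] in
theorem map_ne_zero_of_noPowTorsion {D : Type v} [CommRing D] [Nontrivial D] [Algebra R D]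
    (h : AdicRing.NoPowTorsion (Ideal.span {t}) D) : algebraMap R D t ≠ 0 := fun h0 ↦
  one_ne_zero (h 1 1 fun a ha ↦ by
    rw [pow_one, Ideal.mem_span_singleton] at ha
    obtain ⟨b, rfl⟩ := ha
    rw [Algebra.smul_def, map_mul, h0, zero_mul, zero_mul])

theorem finite_of_ringKrullDim {D : Type v} [CommRing D] [IsDomain D] [Algebra R D]
    (hD : AdicRing.TopFiniteType R (Ideal.span {t}) D) (htD : algebraMap R D t ≠ 0)
    (hdim : ringKrullDim D = 1) : Module.Finite R D := by
  have : Ring.KrullDimLE 1 D := Ring.krullDimLE_iff.mpr hdim.le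
  exact finite_of_dvd_pow hD htD (exists_dvd_pow_of_krullDimLE_one hD)

section ValuationClosure

omit [Ring.KrullDimLE 1 R] [IsAdicComplete (Ideal.span {t}) R] in
theorem exists_dvd_all (c : ℕ → R) (n : ℕ) : ∃ i ≤ n, ∀ j ≤ n, c i ∣ c j := by
  induction n with
  | zero => exact ⟨0, le_rfl, fun j hj ↦ by simp [Nat.le_zero.mp hj]⟩
  | succ n ih =>
    obtain ⟨i, hi, hij⟩ := ih
    rcases ValuationRing.dvd_total (c i) (c (n + 1)) with hz | hz
    · exact ⟨i, hi.trans (Nat.le_succ n), fun j hj ↦ by
        rcases Nat.lt_or_eq_of_le hj with hj | rfl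
        · exact hij j (Nat.lt_succ_iff.mp hj)
        · exact hz⟩
    · exact ⟨n + 1, le_rfl, fun j hj ↦ by
        rcases Nat.lt_or_eq_of_le hj with hj | rfl
        · exact hz.trans (hij j (Nat.lt_succ_iff.mp hj))
        · exact dvd_rfl⟩

omit [IsDomain R] [ValuationRing R] [Ring.KrullDimLE 1 R] [IsAdicComplete (Ideal.span {t}) R] in
theorem mem_or_inv_mem {L : Type v} [Field L] {S : Subring L} [IsLocalRing S]
    (hS : ∀ y : L, IsIntegral S y → y ∈ S) (x : L) (n : ℕ) :
    ∀ e : ℕ → S, ∑ i ∈ Finset.range (n + 1), (e i : L) * x ^ i = 0 →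
      (∃ i ≤ n, IsUnit (e i)) → x ∈ S ∨ x⁻¹ ∈ S := by
  induction n with
  | zero =>
    rintro e he ⟨i, hi, hu⟩
    rw [Nat.le_zero.mp hi] at hu
    simp only [zero_add, Finset.sum_range_one, pow_zero, mul_one] at he
    exact absurd (Subtype.ext he : e 0 = 0) hu.ne_zero
  | succ n ih =>
    rintro e he ⟨i, hi, hu⟩
    let a : S := e (n + 1)
    have hint : IsIntegral S ((a : L) * x) := by
      refine ⟨Polynomial.X ^ (n + 1) + ∑ j ∈ Finset.range (n + 1),
        Polynomial.C (e j * a ^ (n - j)) * Polynomial.X ^ j, ?_, ?_⟩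
      · refine Polynomial.monic_X_pow_add ?_
        refine (Polynomial.degree_sum_le _ _).trans_lt ?_
        rw [Finset.sup_lt_iff (WithBot.bot_lt_coe _)]
        exact fun j hj ↦ (Polynomial.degree_C_mul_X_pow_le j _).trans_lt
          (WithBot.coe_lt_coe.mpr (Finset.mem_range.mp hj))
      · simp only [Polynomial.eval₂_add, Polynomial.eval₂_pow, Polynomial.eval₂_X,
          Polynomial.eval₂_finsetSum, Polynomial.eval₂_mul, Polynomial.eval₂_C]
        have := congrArg (fun z ↦ (a : L) ^ n * z) he
        simp only [mul_zero, Finset.mul_sum, Finset.sum_range_succ _ (n + 1)] at this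
        rw [← this, add_comm, mul_add, Finset.mul_sum]
        congr 1
        · refine Finset.sum_congr rfl fun j hj ↦ ?_
          have hjn := Finset.mem_range_succ_iff.mp hj
          change ((e j * a ^ (n - j) : S) : L) * _ = _
          rw [mul_pow]
          push_cast
          rw [show (a : L) ^ n = (a : L) ^ (n - j) * (a : L) ^ j by
            rw [← pow_add, Nat.sub_add_cancel hjn]]
          ring
        · simp only [a, mul_pow, pow_succ]; ring
    have hb := hS _ hint
    let b : S := ⟨_, hb⟩
    by_cases ha : IsUnit a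
    · obtain ⟨u, hu'⟩ := ha
      left
      have : x = ((↑u⁻¹ : S) : L) * (b : L) := by
        change x = _ * ((a : L) * x)
        rw [← mul_assoc, ← hu', ← Subring.coe_mul, Units.inv_mul, Subring.coe_one, one_mul]
      rw [this]
      exact S.mul_mem (Subtype.property _) hb
    · by_cases hbu : IsUnit b
      · obtain ⟨u, hu'⟩ := hbu
        right
        have h1 : ((a : L) * x) * ((↑u⁻¹ : S) : L) = 1 := by
          change (b : L) * _ = 1
          rw [← hu', ← Subring.coe_mul, Units.mul_inv, Subring.coe_one]
        have : x⁻¹ = (a : L) * ((↑u⁻¹ : S) : L) :=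
          inv_eq_of_mul_eq_one_right (by rw [← h1]; ring)
        rw [this]
        exact S.mul_mem a.2 (Subtype.property _)
      · refine ih (Function.update e n (e n + b)) ?_ ?_
        · rw [Finset.sum_range_succ, Function.update_self,
            Finset.sum_congr rfl (g := fun j ↦ (e j : L) * x ^ j) fun j hj ↦ by
              rw [Function.update_of_ne (Finset.mem_range.mp hj).ne]]
          rw [Finset.sum_range_succ, Finset.sum_range_succ] at he
          rw [← he]
          change _ + ((e n : L) + (a : L) * x) * x ^ n = _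
          simp only [a, pow_succ]; ring
        · rcases Nat.lt_or_eq_of_le hi with hi | rfl
          · rcases Nat.lt_or_eq_of_le (Nat.lt_succ_iff.mp hi) with hin | rfl
            · exact ⟨i, hin.le, by rwa [Function.update_of_ne hin.ne]⟩
            · refine ⟨i, le_rfl, ?_⟩
              rw [Function.update_self]
              by_contra h
              exact (IsLocalRing.nonunits_add h (b := -b) (fun hc ↦ hbu (IsUnit.neg_iff b |>.mp hc)))
                (by simpa using hu)
          · exact absurd hu ha

variable {B : Type v} [CommRing B] [IsDomain B] [Algebra R B]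

include ht in
theorem valuationRing_integralClosure [Module.Finite R B] (hinj : Function.Injective (algebraMap R B))
    (hdvd : ∀ x : B, x ≠ 0 → ∃ N, x ∣ algebraMap R B t ^ N) :
    ValuationRing (integralClosure B (FractionRing B)) := by
  let L := FractionRing B
  have hinjL : Function.Injective (algebraMap R L) := by
    rw [IsScalarTower.algebraMap_eq R B L]
    exact (IsFractionRing.injective B L).comp hinj
  set C := integralClosure B L
  have : Algebra.IsIntegral R B := inferInstance
  have hCint : ∀ c : C, IsIntegral R c := fun c ↦ by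
    have : IsIntegral R (c : L) := isIntegral_trans (R := R) (A := B) (c : L) c.2
    exact (isIntegral_algHom_iff (C.val.restrictScalars R) Subtype.val_injective).mp this
  have : IsLocalRing C := by
    refine IsLocalRing.of_nonunits_add fun a b ha hb hab ↦ ?_
    let T := Algebra.adjoin R ({a, b} : Set C)
    have : Module.Finite R T :=
      Module.Finite.iff_fg.mpr (fg_adjoin_of_finite (Set.toFinite _) fun x _ ↦ hCint x)
    have hTinj : Function.Injective (algebraMap R T) := fun r r' h ↦ hinjL <| by
      have := congrArg (fun z : T ↦ ((z : C) : L)) h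
      exact this
    have : IsLocalRing T := isLocalRing_of_finite_domain (B := T) ht hTinj
    let aT : T := ⟨a, Algebra.subset_adjoin (by simp)⟩
    let bT : T := ⟨b, Algebra.subset_adjoin (by simp)⟩
    have hTC : IsLocalHom T.val.toRingHom := RingHom.IsIntegral.isLocalHom (fun c ↦
      (hCint c).tower_top (A := T)) Subtype.val_injective
    exact IsLocalRing.nonunits_add (a := aT) (b := bT) (fun h ↦ ha (h.map T.val)) (fun h ↦ hb (h.map T.val))
      (hTC.map_nonunit (aT + bT) hab)
  have : IsLocalRing C.toSubring := inferInstanceAs (IsLocalRing C)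
  have hS : ∀ y : L, IsIntegral C.toSubring y → y ∈ C.toSubring := fun y hy ↦ by
    have : IsIntegral C y := hy
    exact isIntegral_trans (R := B) y this
  have hmem : ∀ x : L, x ∈ C ∨ x⁻¹ ∈ C := fun x ↦ by
    obtain ⟨p, q, hq, rfl⟩ := IsFractionRing.div_surjective (A := B) x
    obtain ⟨N, q', hq'⟩ := hdvd q (nonZeroDivisors.ne_zero hq)
    let T0 : L := algebraMap B L (algebraMap R B t) ^ N
    have hT0 : T0 ≠ 0 := pow_ne_zero _ fun h ↦ ht (hinjL (by
      rw [map_zero, IsScalarTower.algebraMap_apply R B L, h]))
    set x := algebraMap B L p / algebraMap B L q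
    have hx : algebraMap R L (t ^ N) * x = algebraMap B L (p * q') := by
      rw [IsScalarTower.algebraMap_apply R B L, map_pow, hq', map_mul, map_mul]
      have hq0 := IsFractionRing.to_map_ne_zero_of_mem_nonZeroDivisors (K := L) hq
      simp only [x]
      rw [mul_div_assoc']
      rw [div_eq_iff hq0]
      ring
    obtain ⟨Q, hQm, hQ⟩ := Algebra.IsIntegral.isIntegral (R := R) (p * q')
    let c : ℕ → R := fun i ↦ Q.coeff i * (t ^ N) ^ i
    obtain ⟨i₀, hi₀, hdiv⟩ := exists_dvd_all c Q.natDegree
    have hc0 : c i₀ ≠ 0 := fun h ↦ by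
      have := hdiv Q.natDegree le_rfl
      rw [h, zero_dvd_iff] at this
      simp only [c, hQm.coeff_natDegree, one_mul] at this
      exact pow_ne_zero _ (pow_ne_zero _ ht) this
    choose d hd using hdiv
    let e : ℕ → C.toSubring := fun j ↦ if hj : j ≤ Q.natDegree then
      ⟨algebraMap B L (algebraMap R B (d j hj)), (isIntegral_algebraMap (A := L) (x := algebraMap R B (d j hj)) : IsIntegral B _)⟩ else 0
    have hsum : ∑ j ∈ Finset.range (Q.natDegree + 1), (e j : L) * x ^ j = 0 := by
      refine mul_left_cancel₀ (a := algebraMap R L (c i₀)) (fun h ↦ hc0 (hinjL (by rw [h, map_zero]))) ?_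
      have h0 := congrArg (algebraMap B L) hQ
      rw [map_zero, Polynomial.hom_eval₂, ← IsScalarTower.algebraMap_eq,
        Polynomial.eval₂_eq_sum_range, ← hx] at h0
      rw [mul_zero, Finset.mul_sum, ← h0]
      refine Finset.sum_congr rfl fun j hj ↦ ?_
      have hj' := Finset.mem_range_succ_iff.mp hj
      simp only [e, dif_pos hj']
      rw [← IsScalarTower.algebraMap_apply R B L, ← mul_assoc, ← map_mul, ← hd j hj']
      simp only [c, map_mul, map_pow, mul_pow]
      ring
    refine mem_or_inv_mem hS x _ e hsum ⟨i₀, hi₀, ?_⟩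
    have : d i₀ hi₀ = 1 := mul_left_cancel₀ hc0 (by rw [← hd i₀ hi₀, mul_one])
    simp only [e, dif_pos hi₀, this, map_one]
    exact isUnit_one
  refine ValuationRing.iff_dvd_total.mpr ⟨fun a b ↦ ?_⟩
  by_cases ha : a = 0
  · exact Or.inr (ha ▸ dvd_zero b)
  by_cases hb : b = 0
  · exact Or.inl (hb ▸ dvd_zero a)
  have ha' : (a : L) ≠ 0 := fun h ↦ ha (Subtype.ext h)
  have hb' : (b : L) ≠ 0 := fun h ↦ hb (Subtype.ext h)
  rcases hmem ((b : L) / (a : L)) with h | h
  · exact Or.inl ⟨⟨_, h⟩, Subtype.ext (by
      change (b : L) = (a : L) * ((b : L) / (a : L))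
      field_simp)⟩
  · exact Or.inr ⟨⟨_, h⟩, Subtype.ext (by
      change (a : L) = (b : L) * ((b : L) / (a : L))⁻¹
      field_simp)⟩

end ValuationClosure

theorem subalgebra_eq_top_of_dense {B : Type v} [CommRing B] [Algebra R B] [Module.Finite R B]
    (C : Subalgebra R B) (h : ∀ b : B, ∃ c ∈ C, b - c ∈ (Ideal.span {t}).map (algebraMap R B)) :
    C = ⊤ := by
  refine top_unique fun b _ ↦ ?_
  have hle : (⊤ : Submodule R B) ≤ C.toSubmodule ⊔ Ideal.span {t} • ⊤ := fun y _ ↦ by
    obtain ⟨c, hc, hy⟩ := h y
    rw [← sub_add_cancel y c]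
    refine add_mem (Submodule.mem_sup_right ?_) (Submodule.mem_sup_left hc)
    rw [Ideal.smul_top_eq_map]
    exact hy
  exact Submodule.le_of_le_smul_of_le_jacobson_bot Module.Finite.fg_top
    (IsAdicComplete.le_jacobson_bot _) hle (Submodule.mem_top (x := b))

theorem ker_complLift_fg {n : ℕ} {S : Type v} [CommRing S] [Algebra R S]
    [IsAdicComplete ((Ideal.span {t}).map (algebraMap R S)) S]
    [Algebra.FinitePresentation R S]
    (hnzd : ∀ s : S, algebraMap R S t * s = 0 → s = 0)
    (eS : MvPolynomial (Fin n) R →ₐ[R] S) (heS : Function.Surjective eS) :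
    (RingHom.ker (complLift (I := Ideal.span {t}) eS).toRingHom).FG := by
  classical
  have hI : (Ideal.span {t}).FG := Submodule.fg_span_singleton t
  let A := Compl (Ideal.span {t}) (MvPolynomial (Fin n) R)
  have := isAdicComplete_compl (P := MvPolynomial (Fin n) R) hI
  let L := complLift (I := Ideal.span {t}) eS
  change (RingHom.ker L.toRingHom).FG
  let K : Submodule A A := RingHom.ker L.toRingHom
  change K.FG
  obtain ⟨m, g, hg⟩ := Submodule.fg_iff_exists_fin_generating_family.mp
    (Algebra.FinitePresentation.ker_fG_of_surjective eS heS)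
  have hgK : ∀ i, algebraMap (MvPolynomial (Fin n) R) A (g i) ∈ K := fun i ↦ by
    change L _ = 0
    rw [complLift_of]
    have : g i ∈ RingHom.ker eS.toRingHom := hg ▸ Submodule.subset_span ⟨i, rfl⟩
    exact this
  let F : (Fin m → A) →ₗ[A] K :=
    Fintype.linearCombination A fun i ↦ (⟨_, hgK i⟩ : K)
  have hcomplete : IsAdicComplete ((Ideal.span {t}).map (algebraMap R A)) (Fin m → A) :=
    isAdicComplete_of_equiv_pi (LinearEquiv.refl A _)
  have hhaus : IsHausdorff ((Ideal.span {t}).map (algebraMap R A)) K := ⟨fun z hz ↦ by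
    refine Subtype.ext (IsHausdorff.haus (I := (Ideal.span {t}).map (algebraMap R A)) inferInstance
      (z : A) fun k ↦ ?_)
    have hz' := hz k
    rw [SModEq.zero] at hz' ⊢
    have := Submodule.mem_map_of_mem (f := K.subtype) hz'
    rw [Submodule.map_smul''] at this
    exact Submodule.smul_mono le_rfl le_top this⟩
  have hF : Function.Surjective F := by
    refine surjective_of_mkQ_comp_surjective (I := (Ideal.span {t}).map (algebraMap R A)) ?_
    intro y
    obtain ⟨⟨x, hx⟩, rfl⟩ := Submodule.mkQ_surjective _ y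
    obtain ⟨p, hp⟩ := exists_sub_mem_pow (P := MvPolynomial (Fin n) R) hI x 1
    obtain ⟨w, hw⟩ := mem_map_span_pow.mp hp
    rw [pow_one] at hw
    obtain ⟨q, hq⟩ := heS (L w)
    have hJ : p + MvPolynomial.C t * q ∈ RingHom.ker eS.toRingHom := by
      change eS (p + _) = 0
      have h0 : L x = 0 := hx
      rw [sub_eq_iff_eq_add] at hw
      rw [hw, map_add, map_mul, AlgHom.commutes, complLift_of] at h0
      rw [map_add, map_mul, ← MvPolynomial.algebraMap_eq, AlgHom.commutes, hq, add_comm, h0]
    rw [← hg] at hJ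
    obtain ⟨a, ha⟩ := (Submodule.mem_span_range_iff_exists_fun _).mp hJ
    have hwq : w - algebraMap (MvPolynomial (Fin n) R) A q ∈ K := by
      change L _ = 0
      rw [map_sub, complLift_of, hq, sub_self]
    refine ⟨fun i ↦ algebraMap (MvPolynomial (Fin n) R) A (a i), ?_⟩
    rw [LinearMap.comp_apply, Submodule.mkQ_apply, Submodule.mkQ_apply, eq_comm, Submodule.Quotient.eq]
    have hd : (⟨x, hx⟩ : K) - F (fun i ↦ algebraMap (MvPolynomial (Fin n) R) A (a i)) =
        algebraMap R A t • (⟨_, hwq⟩ : K) := by
      refine Subtype.ext ?_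
      simp only [F, Submodule.coe_sub, Fintype.linearCombination_apply, AddSubmonoidClass.coe_finsetSum,
        SetLike.val_smul, smul_eq_mul, ← map_mul, ← map_sum]
      simp only [smul_eq_mul] at ha
      rw [ha]
      rw [sub_eq_iff_eq_add] at hw
      rw [hw, map_add, map_mul, ← MvPolynomial.algebraMap_eq,
        ← IsScalarTower.algebraMap_apply]
      ring
    rw [hd]
    exact Submodule.smul_mem_smul (Ideal.mem_map_of_mem _ (Ideal.mem_span_singleton_self t)) Submodule.mem_top
  have : Module.Finite A K := Module.Finite.of_surjective F hF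
  exact Module.Finite.iff_fg.mp this

include ht in
theorem admissible_range {B : Type v} [CommRing B] [IsDomain B] [Algebra R B] [Module.Finite R B]
    (hinj : Function.Injective (algebraMap R B)) {n : ℕ}
    (ψ : Compl (Ideal.span {t}) (MvPolynomial (Fin n) R) →ₐ[R] B) :
    AdicRing.Admissible R (Ideal.span {t}) ψ.range ∧ Module.Finite R ψ.range := by
  have hI : (Ideal.span {t}).FG := Submodule.fg_span_singleton t
  have := free_of_domain hinj
  have := isAdicComplete_map_of_finite_free (I := Ideal.span {t}) B
  let e : MvPolynomial (Fin n) R →ₐ[R] B := ψ.comp (IsScalarTower.toAlgHom R _ _)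
  let S := e.range
  have hS : Module.Finite R S := by
    have hS' : S = Algebra.adjoin R (Set.range fun i ↦ e (MvPolynomial.X i)) := by
      rw [Algebra.adjoin_range_eq_range_aeval]
      exact congrArg AlgHom.range (MvPolynomial.algHom_ext fun i ↦ (MvPolynomial.aeval_X (R := R) (fun i ↦ e (MvPolynomial.X i)) i).symm)
    rw [hS']
    exact Module.Finite.iff_fg.mpr (fg_adjoin_of_finite (Set.finite_range _)
      fun x _ ↦ Algebra.IsIntegral.isIntegral x)
  have hSinj : Function.Injective (algebraMap R S) := fun r r' h ↦ hinj (congrArg Subtype.val h)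
  have := free_of_domain hSinj
  have := isAdicComplete_map_of_finite_free (I := Ideal.span {t}) S
  have : Module.FinitePresentation R S := Module.finitePresentation_of_projective R S
  let eS : MvPolynomial (Fin n) R →ₐ[R] S := e.rangeRestrict
  have hfac : ψ = S.val.comp (complLift (I := Ideal.span {t}) eS) := algHom_ext_compl hI fun p ↦ by
    rw [AlgHom.comp_apply, complLift_of]; rfl
  have hrange : ψ.range = S := by
    refine le_antisymm ?_ ?_
    · rintro _ ⟨x, rfl⟩
      change ψ x ∈ S
      rw [hfac]; exact Subtype.property _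
    · rintro _ ⟨p, rfl⟩; exact ⟨_, rfl⟩
  refine ⟨⟨⟨n, ψ.rangeRestrict, ψ.rangeRestrict_surjective, ?_⟩, ?_⟩, by rw [hrange]; exact hS⟩
  · have hker : RingHom.ker ψ.rangeRestrict.toRingHom =
        RingHom.ker (complLift (I := Ideal.span {t}) eS).toRingHom := by
      ext x
      rw [RingHom.mem_ker, RingHom.mem_ker, Subtype.ext_iff, Subtype.ext_iff]
      change ψ x = 0 ↔ ((complLift (I := Ideal.span {t}) eS x : S) : B) = 0
      rw [hfac]; rfl
    have := ker_complLift_fg (fun s h ↦ by
      rcases mul_eq_zero.mp h with h | h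
      · exact absurd (hSinj (h.trans (map_zero _).symm)) ht
      · exact h) eS e.rangeRestrict_surjective
    rw [← hker] at this
    exact this
  · intro x k hx
    have h1 := hx (t ^ k) (by rw [Ideal.span_singleton_pow]; exact Ideal.mem_span_singleton_self _)
    rw [Algebra.smul_def, mul_eq_zero] at h1
    rcases h1 with h1 | h1
    · exact absurd (hinj ((congrArg Subtype.val h1).trans (map_zero _).symm)) (pow_ne_zero k ht)
    · exact h1

end Groth.Agent.AdicRingLib
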