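import Groth.Agent.AdicRingLib.RigPoints

/-! Saturated ideals of restricted power series rings over valuation rings of height one are
finitely generated. -/

set_option autoImplicit false

universe u v w

namespace Groth.Agent.AdicRingLib

open Ideal IsLocalRing MvPolynomial

theorem isAdicComplete_of_pow_eq_bot {Q : Type v} [CommRing Q] {J : Ideal Q} {K : ℕ} (h : J ^ K = ⊥) :
    IsAdicComplete J Q where
  haus' x hx := by
    have := hx K
    rwa [h, SModEq.zero, Submodule.bot_smul, Submodule.mem_bot] at this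
  prec' f hf := by
    refine ⟨f K, fun m ↦ ?_⟩
    rcases le_total m K with hm | hm
    · exact hf hm
    · have := hf hm
      rw [h, Submodule.bot_smul, SModEq.bot] at this
      rw [this]

variable {R : Type u} [CommRing R] {t : R} {n : ℕ}

/-- Reduction of restricted power series modulo an ideal containing a power of `t`. -/
theorem exists_red (a : Ideal R) {K : ℕ} (hK : t ^ K ∈ a) :
    ∃ φ : Compl (Ideal.span {t}) (MvPolynomial (Fin n) R) →ₐ[R] MvPolynomial (Fin n) (R ⧸ a),
      (∀ p, φ (algebraMap _ _ p) = MvPolynomial.map (Ideal.Quotient.mk a) p) ∧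
      Function.Surjective φ ∧
      IsHausdorff ((Ideal.span {t}).map (algebraMap R (MvPolynomial (Fin n) (R ⧸ a))))
        (MvPolynomial (Fin n) (R ⧸ a)) ∧
      ∀ x, φ x = 0 → x ∈ a.map (algebraMap R (Compl (Ideal.span {t}) (MvPolynomial (Fin n) R))) := by
  have hI : (Ideal.span {t}).FG := Submodule.fg_span_singleton t
  have hbot : ((Ideal.span {t}).map (algebraMap R (MvPolynomial (Fin n) (R ⧸ a)))) ^ K = ⊥ := by
    rw [← Ideal.map_pow, Ideal.span_singleton_pow, Ideal.map_span, Set.image_singleton,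
      Ideal.span_singleton_eq_bot]
    change MvPolynomial.C (Ideal.Quotient.mk a (t ^ K)) = 0
    rw [Ideal.Quotient.eq_zero_iff_mem.mpr hK, map_zero]
  have := isAdicComplete_of_pow_eq_bot hbot
  let φ : Compl (Ideal.span {t}) (MvPolynomial (Fin n) R) →ₐ[R] MvPolynomial (Fin n) (R ⧸ a) :=
    complLift (MvPolynomial.aeval X)
  have hφ : ∀ p, φ (algebraMap _ _ p) = MvPolynomial.map (Ideal.Quotient.mk a) p := fun p ↦ by
    refine (complLift_of _ p).trans ?_
    induction p using MvPolynomial.induction_on with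
    | C r => simp [MvPolynomial.algebraMap_eq, IsScalarTower.algebraMap_apply R (R ⧸ a) (MvPolynomial (Fin n) (R ⧸ a))]
    | add p q hp hq => simp only [map_add, hp, hq]
    | mul_X p i hp => simp only [map_mul, hp, MvPolynomial.aeval_X, MvPolynomial.map_X]
  refine ⟨φ, hφ, fun y ↦ ?_, inferInstance, fun x hx ↦ ?_⟩
  · obtain ⟨p, rfl⟩ := MvPolynomial.map_surjective (Ideal.Quotient.mk a) Ideal.Quotient.mk_surjective y
    exact ⟨_, hφ p⟩
  · obtain ⟨p, hp⟩ := exists_sub_mem_pow (P := MvPolynomial (Fin n) R) hI x K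
    have hle : (Ideal.span {t}).map (algebraMap R (Compl (Ideal.span {t}) (MvPolynomial (Fin n) R))) ^ K ≤
        a.map (algebraMap R (Compl (Ideal.span {t}) (MvPolynomial (Fin n) R))) := by
      rw [← Ideal.map_pow, Ideal.span_singleton_pow]
      exact Ideal.map_mono ((Ideal.span_singleton_le_iff_mem _).mpr hK)
    have h0 : MvPolynomial.map (Ideal.Quotient.mk a) p = 0 := by
      obtain ⟨w, hw⟩ := mem_map_span_pow.mp hp
      have := congrArg φ hw
      rw [map_sub, map_mul, AlgHom.commutes, hx, hφ, zero_sub,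
        show algebraMap R (MvPolynomial (Fin n) (R ⧸ a)) (t ^ K) = 0 by
          change MvPolynomial.C (Ideal.Quotient.mk a (t ^ K)) = 0
          rw [Ideal.Quotient.eq_zero_iff_mem.mpr hK, map_zero], zero_mul, neg_eq_zero] at this
      exact this
    have h1 : p ∈ a.map (algebraMap R (MvPolynomial (Fin n) R)) := by
      rw [MvPolynomial.algebraMap_eq, MvPolynomial.mem_map_C_iff]
      intro i
      have := congrArg (coeff i) h0
      rwa [MvPolynomial.coeff_map, MvPolynomial.coeff_zero, Ideal.Quotient.eq_zero_iff_mem] at this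
    have h2 := Ideal.mem_map_of_mem (algebraMap (MvPolynomial (Fin n) R)
      (Compl (Ideal.span {t}) (MvPolynomial (Fin n) R))) h1
    rw [Ideal.map_map, ← IsScalarTower.algebraMap_eq] at h2
    have := Ideal.add_mem _ (hle hp) h2
    rwa [sub_add_cancel] at this

variable [IsDomain R] [ValuationRing R] [Ring.KrullDimLE 1 R] (ht : t ≠ 0)
  [IsAdicComplete (Ideal.span {t}) R]

include ht in
omit [Ring.KrullDimLE 1 R] in
theorem exists_common_divisor (s : Finset R) (hs : ∀ x ∈ s, x ∈ maximalIdeal R) :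
    ∃ d ∈ maximalIdeal R, d ≠ 0 ∧ d ∣ t ∧ ∀ x ∈ s, d ∣ x := by
  classical
  induction s using Finset.induction with
  | empty => exact ⟨t, mem_maximalIdeal, ht, dvd_rfl, by simp⟩
  | @insert a s ha ih =>
    obtain ⟨d, hd, hd0, hdt, hds⟩ := ih fun x hx ↦ hs x (Finset.mem_insert_of_mem hx)
    by_cases h : d ∣ a
    · exact ⟨d, hd, hd0, hdt, by simpa [h] using hds⟩
    · have h' : a ∣ d := (ValuationRing.dvd_total d a).resolve_left h
      refine ⟨a, hs a (Finset.mem_insert_self a s), fun h0 ↦ h (h0 ▸ dvd_zero d), h'.trans hdt, fun x hx ↦ ?_⟩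
      rcases Finset.mem_insert.mp hx with rfl | hx
      · exact dvd_rfl
      · exact h'.trans (hds x hx)

include ht in
/-- A saturated ideal of a ring of restricted power series is finitely generated. -/
theorem fg_of_saturated (N : Ideal (Compl (Ideal.span {t}) (MvPolynomial (Fin n) R)))
    (hsat : ∀ x, algebraMap R _ t * x ∈ N → x ∈ N) : N.FG := by
  classical
  let A := Compl (Ideal.span {t}) (MvPolynomial (Fin n) R)
  have hI : (Ideal.span {t}).FG := Submodule.fg_span_singleton t
  have hA := isAdicComplete_compl (P := MvPolynomial (Fin n) R) hI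
  have hsatK : ∀ (k : ℕ) x, algebraMap R A (t ^ k) * x ∈ N → x ∈ N := by
    intro k
    induction k with
    | zero => intro x hx; simpa using hx
    | succ k ih => intro x hx; exact ih x (hsat _ (by rwa [← mul_assoc, ← map_mul, ← pow_succ']))
  have hsatc : ∀ (c : R) x, c ≠ 0 → algebraMap R A c * x ∈ N → x ∈ N := by
    intro c x hc hx
    obtain ⟨k, e, he⟩ := exists_dvd_pow (t := t) hc
    refine hsatK k x ?_
    rw [he, mul_comm c, map_mul, mul_assoc]
    exact N.mul_mem_left _ hx
  let k := R ⧸ maximalIdeal R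
  let : Field k := Ideal.Quotient.field _
  obtain ⟨φ, hφ, hφs, hφh, -⟩ := exists_red (t := t) (n := n) (maximalIdeal R) (K := 1)
    (by rw [pow_one]; exact mem_maximalIdeal)
  let ord : MonomialOrder (Fin n) := MonomialOrder.lex
  let Nb : Ideal (MvPolynomial (Fin n) k) := N.map φ.toRingHom
  have hNb : ∀ f, f ∈ Nb ↔ ∃ x ∈ N, φ x = f := fun f ↦ Ideal.mem_map_iff_of_surjective φ.toRingHom hφs
  let S : Set (Fin n →₀ ℕ) := {a | ∃ f ∈ Nb, f ≠ 0 ∧ ord.degree f = a}
  obtain ⟨s0, hs0S, hs0⟩ : ∃ s0 : Finset (Fin n →₀ ℕ), (∀ b ∈ s0, b ∈ S) ∧ ∀ a ∈ S, ∃ b ∈ s0, b ≤ a := by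
    obtain ⟨T, hTS, hT⟩ := Submodule.fg_span_iff_fg_span_finset_subset
      ((fun a ↦ monomial a (1 : k)) '' S) |>.mp
        (IsNoetherian.noetherian (R := MvPolynomial (Fin n) k) (M := MvPolynomial (Fin n) k) _)
    obtain ⟨s0, hs0, rfl⟩ := Finset.subset_set_image_iff.mp hTS
    refine ⟨s0, hs0, fun a ha ↦ ?_⟩
    have : monomial a (1 : k) ∈ Ideal.span ((fun a ↦ monomial a (1 : k)) '' (s0 : Set (Fin n →₀ ℕ))) := by
      rw [← Finset.coe_image]
      change _ ∈ Submodule.span _ _
      rw [← hT]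
      exact Submodule.subset_span ⟨a, ha, rfl⟩
    obtain ⟨b, hb, hba⟩ := mem_ideal_span_monomial_image.mp this a (by simp)
    exact ⟨b, hb, hba⟩
  have hg : ∀ b : s0, ∃ g ∈ N, φ g ≠ 0 ∧ ord.degree (φ g) = b := fun b ↦ by
    obtain ⟨f, hf, hf0, hfb⟩ := hs0S b b.2
    obtain ⟨x, hx, rfl⟩ := (hNb f).mp hf
    exact ⟨x, hx, hf0, hfb⟩
  choose g hgN hg0 hgdeg using hg
  have hgp : ∀ b : s0, ∃ p, g b - algebraMap (MvPolynomial (Fin n) R) A p ∈
      (Ideal.span {t}).map (algebraMap R A) ^ 1 := fun b ↦ exists_sub_mem_pow hI (g b) 1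
  choose p hp using hgp
  have hφp : ∀ b, φ (g b) = MvPolynomial.map (Ideal.Quotient.mk (maximalIdeal R)) (p b) := fun b ↦ by
    obtain ⟨w, hw⟩ := mem_map_span_pow.mp (hp b)
    rw [pow_one, sub_eq_iff_eq_add] at hw
    rw [hw, map_add, map_mul, AlgHom.commutes, hφ,
      show algebraMap R (MvPolynomial (Fin n) k) t = 0 by
        change MvPolynomial.C (Ideal.Quotient.mk _ t) = 0
        rw [Ideal.Quotient.eq_zero_iff_mem.mpr mem_maximalIdeal, map_zero], zero_mul, zero_add]
  let high : Finset R := Finset.univ.biUnion fun b : s0 ↦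
    ((p b).support.filter fun c ↦ ord.toSyn (b : Fin n →₀ ℕ) < ord.toSyn c).image fun c ↦ (p b).coeff c
  obtain ⟨d0, hd0m, hd00, hd0t, hd0⟩ := exists_common_divisor ht high (by
    intro x hx
    simp only [high, Finset.mem_biUnion, Finset.mem_univ, true_and, Finset.mem_image, Finset.mem_filter] at hx
    obtain ⟨b, c, ⟨-, hc⟩, rfl⟩ := hx
    have h := ord.coeff_eq_zero_of_lt (f := φ (g b)) (d := c) (by rw [hgdeg]; exact hc)
    rwa [hφp, coeff_map, Ideal.Quotient.eq_zero_iff_mem] at h)
  obtain ⟨ψ, hψ, hψs, hψh, hψker⟩ := exists_red (t := t) (n := n) (Ideal.span {d0}) (K := 1)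
    (by rw [pow_one, Ideal.mem_span_singleton]; exact hd0t)
  have hd0le : Ideal.span {d0} ≤ maximalIdeal R := (Ideal.span_singleton_le_iff_mem _).mpr hd0m
  have : Nontrivial (R ⧸ Ideal.span {d0}) :=
    Ideal.Quotient.nontrivial_iff.mpr fun h ↦ (maximalIdeal.isMaximal R).ne_top (top_unique (h ▸ hd0le))
  have hunit : ∀ r : R, r ∉ maximalIdeal R → IsUnit (Ideal.Quotient.mk (Ideal.span {d0}) r) := fun r hr ↦
    ((IsLocalRing.notMem_maximalIdeal).mp hr).map _
  have hψp : ∀ b, ψ (g b) = MvPolynomial.map (Ideal.Quotient.mk (Ideal.span {d0})) (p b) := fun b ↦ by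
    obtain ⟨w, hw⟩ := mem_map_span_pow.mp (hp b)
    rw [pow_one, sub_eq_iff_eq_add] at hw
    rw [hw, map_add, map_mul, AlgHom.commutes, hψ,
      show algebraMap R (MvPolynomial (Fin n) (R ⧸ Ideal.span {d0})) t = 0 by
        change MvPolynomial.C (Ideal.Quotient.mk _ t) = 0
        rw [Ideal.Quotient.eq_zero_iff_mem.mpr (Ideal.mem_span_singleton.mpr hd0t), map_zero],
      zero_mul, zero_add]
  have hlead : ∀ b : s0, IsUnit ((ψ (g b)).coeff (b : Fin n →₀ ℕ)) := fun b ↦ by
    rw [hψp, coeff_map]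
    refine hunit _ fun h ↦ ?_
    have h1 := ord.coeff_degree_ne_zero_iff.mpr (hg0 b)
    rw [hgdeg, hφp, coeff_map, ne_eq, Ideal.Quotient.eq_zero_iff_mem] at h1
    exact h1 h
  have hdeg : ∀ b : s0, ord.degree (ψ (g b)) = b := fun b ↦ by
    refine ord.toSyn.injective (le_antisymm (ord.degree_le_iff.mpr fun c hc ↦ ?_)
      (ord.le_degree (mem_support_iff.mpr (hlead b).ne_zero)))
    by_contra hlt
    rw [hψp, mem_support_iff, coeff_map, ne_eq, Ideal.Quotient.eq_zero_iff_mem] at hc
    refine hc (Ideal.mem_span_singleton.mpr (hd0 _ ?_))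
    simp only [high, Finset.mem_biUnion, Finset.mem_univ, true_and, Finset.mem_image, Finset.mem_filter]
    exact ⟨b, c, ⟨mem_support_iff.mpr fun h0 ↦ hc (h0 ▸ zero_mem _), not_le.mp hlt⟩, rfl⟩
  have hlc : ∀ b : s0, IsUnit (ord.leadingCoeff (ψ (g b))) := fun b ↦ by
    rw [MonomialOrder.leadingCoeff, hdeg]; exact hlead b
  let G := Submodule.span A (Set.range g)
  have hGN : G ≤ N := Submodule.span_le.mpr (by rintro _ ⟨b, rfl⟩; exact hgN b)
  have hcomp : ∀ y : A, MvPolynomial.map (Ideal.Quotient.factor hd0le) (ψ y) = φ y := by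
    intro y
    let F : MvPolynomial (Fin n) (R ⧸ Ideal.span {d0}) →ₐ[R] MvPolynomial (Fin n) k :=
      { MvPolynomial.map (Ideal.Quotient.factor hd0le) with
        commutes' := fun r ↦ by
          change MvPolynomial.map (Ideal.Quotient.factor hd0le) (MvPolynomial.C (Ideal.Quotient.mk _ r)) =
            MvPolynomial.C (Ideal.Quotient.mk _ r)
          rw [MvPolynomial.map_C, Ideal.Quotient.factor_mk] }
    change F (ψ y) = φ y
    exact congrArg (fun G : A →ₐ[R] MvPolynomial (Fin n) k ↦ G y)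
      (algHom_ext_compl hI (f := F.comp ψ) (g := φ) fun q ↦ by
        rw [AlgHom.comp_apply, hψ, hφ]
        change MvPolynomial.map _ (MvPolynomial.map _ q) = _
        rw [MvPolynomial.map_map]; rfl)
  have hstep : ∀ x ∈ N, ∃ u ∈ G, ∃ z ∈ N, x = u + algebraMap R A d0 * z := by
    intro x hx
    obtain ⟨q, r, hqr, -, hr⟩ := ord.div hlc (ψ x)
    choose Q hQ using fun b ↦ hψs (q b)
    let u := ∑ b : s0, Q b * g b
    have hu : u ∈ G := Submodule.sum_mem _ fun b _ ↦ Submodule.smul_mem G _ (Submodule.subset_span ⟨b, rfl⟩)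
    let y := x - u
    have hyN : y ∈ N := N.sub_mem hx (hGN hu)
    have hyr : ψ y = r := by
      have : ψ u = Finsupp.linearCombination _ (fun b ↦ ψ (g b)) q := by
        rw [Finsupp.linearCombination_apply, Finsupp.sum_fintype]
        · simp only [u, map_sum, map_mul, hQ, smul_eq_mul]
        · exact fun i ↦ zero_smul _ _
      rw [map_sub, hqr, this, add_sub_cancel_left]
    have hr0 : r = 0 := by
      by_contra hr0
      have hy0 : y ≠ 0 := fun h ↦ hr0 (by rw [← hyr, h, map_zero])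
      obtain ⟨c, P0, e, w, hc, he, ⟨i, hi⟩, hyc⟩ := exists_content y hy0
      let y0 : A := algebraMap (MvPolynomial (Fin n) R) A P0 + algebraMap R A e * w
      have hy0N : y0 ∈ N := hsatc c y0 hc (hyc ▸ hyN)
      have hφy0 : φ y0 ≠ 0 := fun h ↦ by
        rw [map_add, hφ, map_mul, AlgHom.commutes,
          show algebraMap R (MvPolynomial (Fin n) k) e = 0 by
            change MvPolynomial.C (Ideal.Quotient.mk _ e) = 0
            rw [Ideal.Quotient.eq_zero_iff_mem.mpr he, map_zero], zero_mul, add_zero] at h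
        have := congrArg (coeff i) h
        rw [coeff_map, hi, map_one, coeff_zero] at this
        exact one_ne_zero this
      let a := ord.degree (φ y0)
      obtain ⟨b, hb, hba⟩ := hs0 a ⟨_, (hNb _).mpr ⟨y0, hy0N, rfl⟩, hφy0, rfl⟩
      have hru : r = MvPolynomial.C (Ideal.Quotient.mk _ c) * ψ y0 := by
        rw [← hyr, hyc, map_mul, AlgHom.commutes]; rfl
      have hua : IsUnit ((ψ y0).coeff a) := by
        obtain ⟨l, hl⟩ := Ideal.Quotient.mk_surjective ((ψ y0).coeff a)
        rw [← hl]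
        refine hunit l fun hlm ↦ ord.coeff_degree_ne_zero_iff.mpr hφy0 ?_
        change (φ y0).coeff a = 0
        rw [← hcomp, coeff_map, ← hl, Ideal.Quotient.factor_mk, Ideal.Quotient.eq_zero_iff_mem.mpr hlm]
      refine hr a (mem_support_iff.mpr fun h ↦ ?_) ⟨b, hb⟩ (by rw [hdeg]; exact hba)
      rw [hru, coeff_C_mul, IsUnit.mul_left_eq_zero hua] at h
      exact hr0 (by rw [hru, h, map_zero, zero_mul])
    have hyd : y ∈ (Ideal.span {d0}).map (algebraMap R A) := hψker y (hyr.trans hr0)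
    obtain ⟨z, hz⟩ := mem_map_span_pow.mp (show y ∈ (Ideal.span {d0}).map (algebraMap R A) ^ 1 by
      rwa [pow_one])
    rw [pow_one] at hz
    refine ⟨u, hu, z, hsatc d0 z hd00 (by rw [← hz]; exact hyN), ?_⟩
    rw [← hz]; simp [y]
  have hiter : ∀ (j : ℕ), ∀ x ∈ N, ∃ u ∈ G, ∃ z ∈ N, x = u + algebraMap R A (d0 ^ j) * z := by
    intro j
    induction j with
    | zero => exact fun x hx ↦ ⟨0, zero_mem _, x, hx, by simp⟩
    | succ j ih =>
      intro x hx
      obtain ⟨u, hu, z, hz, rfl⟩ := ih x hx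
      obtain ⟨u', hu', z', hz', rfl⟩ := hstep z hz
      refine ⟨u + algebraMap R A (d0 ^ j) * u', add_mem hu (G.smul_mem _ hu'), z', hz', ?_⟩
      rw [pow_succ, map_mul]; ring
  obtain ⟨J, e, he⟩ : ∃ J, t ∣ d0 ^ J := by
    have : d0 ∈ (Ideal.span {t}).radical := by rw [radical_span_eq ht]; exact hd0m
    obtain ⟨J, hJ⟩ := this
    exact ⟨J, Ideal.mem_span_singleton.mp hJ⟩
  let F : (s0 → A) →ₗ[A] N := Fintype.linearCombination A fun b ↦ (⟨g b, hgN b⟩ : N)
  have hcomplete : IsAdicComplete ((Ideal.span {t}).map (algebraMap R A)) (s0 → A) :=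
    isAdicComplete_of_equiv_pi (LinearEquiv.funCongrLeft A A (Fintype.equivFin s0).symm)
  have hhaus : IsHausdorff ((Ideal.span {t}).map (algebraMap R A)) N := ⟨fun z hz ↦ by
    refine Subtype.ext (IsHausdorff.haus (I := (Ideal.span {t}).map (algebraMap R A)) inferInstance
      (z : A) fun j ↦ ?_)
    have hz' := hz j
    rw [SModEq.zero] at hz' ⊢
    have := Submodule.mem_map_of_mem (f := N.subtype) hz'
    rw [Submodule.map_smul''] at this
    exact Submodule.smul_mono le_rfl le_top this⟩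
  have hF : Function.Surjective F := by
    refine surjective_of_mkQ_comp_surjective (I := (Ideal.span {t}).map (algebraMap R A)) ?_
    intro y
    obtain ⟨⟨x, hx⟩, rfl⟩ := Submodule.mkQ_surjective _ y
    obtain ⟨u, hu, z, hz, hxe⟩ := hiter J x hx
    obtain ⟨a, ha⟩ := (Submodule.mem_span_range_iff_exists_fun A).mp hu
    refine ⟨a, ?_⟩
    rw [LinearMap.comp_apply, Submodule.mkQ_apply, Submodule.mkQ_apply, eq_comm, Submodule.Quotient.eq]
    have hd : (⟨x, hx⟩ : N) - F a = algebraMap R A t • (⟨algebraMap R A e * z, N.mul_mem_left _ hz⟩ : N) := by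
      refine Subtype.ext ?_
      simp only [F, Submodule.coe_sub, Fintype.linearCombination_apply, AddSubmonoidClass.coe_finsetSum,
        SetLike.val_smul]
      rw [ha, hxe, he, map_mul, smul_eq_mul]; ring
    rw [hd]
    exact Submodule.smul_mem_smul (Ideal.mem_map_of_mem _ (Ideal.mem_span_singleton_self t)) Submodule.mem_top
  have : Module.Finite A N := Module.Finite.of_surjective F hF
  exact Module.Finite.iff_fg.mp this

end Groth.Agent.AdicRingLib
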