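import Groth.Agent.AdicRingLib.FiniteTypeAlg

/-! Truncations of topologically finite type algebras and localisation. -/

set_option autoImplicit false

universe u v w

namespace Groth.Agent.AdicRingLib

open Ideal

variable {R : Type u} [CommRing R] {I : Ideal R}

section eval

variable {P : Type v} [CommRing P] [Algebra R P]

theorem mem_map_pow_of_algebraMap_mem (N : ℕ) (p : P)
    (h : algebraMap P (Compl I P) p ∈ I.map (algebraMap R (Compl I P)) ^ N) :
    p ∈ I.map (algebraMap R P) ^ N := by
  rw [← map_algebraMap_compl, ← Ideal.map_pow] at h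
  have := Ideal.mem_map_of_mem (AdicCompletion.evalₐ (I.map (algebraMap R P)) N).toRingHom h
  rw [Ideal.map_map, AlgHom.toRingHom_eq_coe, AlgHom.comp_algebraMap] at this
  rw [show algebraMap P (P ⧸ I.map (algebraMap R P) ^ N) = Ideal.Quotient.mk _ from rfl,
    Ideal.map_quotient_self, RingHom.coe_coe, AlgHom.commutes, Submodule.mem_bot] at this
  exact Ideal.Quotient.eq_zero_iff_mem.mp this

end eval

section Criterion

variable {A : Type v} [CommRing A] [Algebra R A]

theorem topFiniteType_of_finiteType_quotient (hI : I.FG) [IsAdicComplete (I.map (algebraMap R A)) A]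
    (h : Algebra.FiniteType R (A ⧸ I.map (algebraMap R A))) : AdicRing.TopFiniteType R I A := by
  obtain ⟨r, g, hg⟩ := Algebra.FiniteType.iff_quotient_mvPolynomial''.mp h
  choose b hb using fun i ↦ Ideal.Quotient.mk_surjective (g (MvPolynomial.X i))
  let h' : MvPolynomial (Fin r) R →ₐ[R] A := MvPolynomial.aeval b
  have hgh : ∀ p, Ideal.Quotient.mk _ (h' p) = g p := fun p ↦
    congrArg (fun φ : MvPolynomial (Fin r) R →ₐ[R] A ⧸ I.map (algebraMap R A) ↦ φ p)
      (show (Ideal.Quotient.mkₐ R _).comp h' = g from MvPolynomial.algHom_ext fun i ↦ by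
        rw [AlgHom.comp_apply, MvPolynomial.aeval_X]; exact hb i)
  let φ : Compl I (MvPolynomial (Fin r) R) →ₐ[R] A := complLift h'
  refine ⟨r, φ, ?_⟩
  have hc := isAdicComplete_compl (P := MvPolynomial (Fin r) R) hI
  have hmap : (I.map (algebraMap R (Compl I (MvPolynomial (Fin r) R)))).map φ.toRingHom =
      I.map (algebraMap R A) := by
    rw [Ideal.map_map, AlgHom.toRingHom_eq_coe, φ.comp_algebraMap]
  have : IsHausdorff ((I.map (algebraMap R (Compl I (MvPolynomial (Fin r) R)))).map φ.toRingHom) A := by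
    rw [hmap]; infer_instance
  refine surjective_of_mk_map_comp_surjective
    (I := I.map (algebraMap R (Compl I (MvPolynomial (Fin r) R)))) φ.toRingHom (fun y ↦ ?_)
  obtain ⟨x, rfl⟩ := Ideal.Quotient.mk_surjective y
  obtain ⟨p, hp⟩ := hg (Ideal.Quotient.mk _ x)
  refine ⟨algebraMap _ _ p, ?_⟩
  change Ideal.Quotient.mk _ (φ _) = _
  rw [complLift_of, Ideal.Quotient.eq, hmap]
  exact Ideal.Quotient.eq.mp ((hgh p).trans hp)

theorem mk_comp_surjective (hI : I.FG) {n : ℕ} (φ : Compl I (MvPolynomial (Fin n) R) →ₐ[R] A)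
    (hφ : Function.Surjective φ) (N : ℕ) :
    Function.Surjective ((Ideal.Quotient.mkₐ R ((I ^ N).map (algebraMap R A))).comp
      (φ.comp (IsScalarTower.toAlgHom R (MvPolynomial (Fin n) R) _))) := by
  intro y
  obtain ⟨x, rfl⟩ := Ideal.Quotient.mk_surjective y
  obtain ⟨a, rfl⟩ := hφ x
  obtain ⟨p, hp⟩ := exists_sub_mem_pow (P := MvPolynomial (Fin n) R) hI a N
  refine ⟨p, (Ideal.Quotient.eq.mpr ?_).symm⟩
  have := map_pow_le φ N hp
  rw [Ideal.mem_comap, map_sub, ← Ideal.map_pow] at this
  exact this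

theorem finiteType_quotient_of_topFiniteType (hI : I.FG) (h : AdicRing.TopFiniteType R I A) :
    Algebra.FiniteType R (A ⧸ I.map (algebraMap R A)) := by
  obtain ⟨n, φ, hφ⟩ := topFiniteType_exists_compl h
  have := mk_comp_surjective hI φ hφ 1
  rw [pow_one] at this
  exact Algebra.FiniteType.of_surjective _ this

theorem finitePresentation_trunc (hI : I.FG) (h : AdicRing.TopFinitePresentation R I A) (N : ℕ) :
    Algebra.FinitePresentation R (A ⧸ (I ^ N).map (algebraMap R A)) := by
  classical
  obtain ⟨n, φ, hφ, hker⟩ :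
      ∃ (n : ℕ) (φ : Compl I (MvPolynomial (Fin n) R) →ₐ[R] A), Function.Surjective φ ∧
        (RingHom.ker φ.toRingHom).FG := h
  let P := MvPolynomial (Fin n) R
  let Ph := Compl I P
  obtain ⟨S, hS⟩ := hker
  choose pa hpa using fun x : Ph ↦ exists_sub_mem_pow hI x N
  let J : Ideal P := Ideal.span (pa '' (S : Set Ph)) ⊔ (I.map (algebraMap R P)) ^ N
  have hJfg : J.FG := Submodule.FG.sup (Submodule.fg_span (S.finite_toSet.image pa)) ((hI.map _).pow)
  refine Algebra.FinitePresentation.of_surjective (mk_comp_surjective hI φ hφ N) ?_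
  suffices hEq : RingHom.ker ((Ideal.Quotient.mkₐ R ((I ^ N).map (algebraMap R A))).comp
      (φ.comp (IsScalarTower.toAlgHom R (MvPolynomial (Fin n) R) _))).toRingHom = J by
    rw [hEq]; exact hJfg
  refine le_antisymm (fun x hx ↦ ?_) (sup_le (Ideal.span_le.mpr ?_) ?_)
  · have hx' : φ (algebraMap P Ph x) ∈ (I ^ N).map (algebraMap R A) := Ideal.Quotient.eq_zero_iff_mem.mp hx
    rw [← φ.comp_algebraMap, ← Ideal.map_map] at hx'
    obtain ⟨w, hw, hwx⟩ := (Ideal.mem_map_iff_of_surjective φ.toRingHom hφ).mp hx'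
    have hk : algebraMap P Ph x - w ∈ Submodule.span Ph (S : Set Ph) := by
      show algebraMap P Ph x - w ∈ Ideal.span (S : Set Ph)
      rw [hS]
      change φ (algebraMap P Ph x - w) = 0
      rw [map_sub, sub_eq_zero]
      exact hwx.symm
    have key : ∀ z ∈ Submodule.span Ph (S : Set Ph), ∃ p ∈ Ideal.span (pa '' (S : Set Ph)),
        z - algebraMap P Ph p ∈ I.map (algebraMap R Ph) ^ N := by
      intro z hz
      induction hz using Submodule.span_induction with
      | mem z hz => exact ⟨pa z, Ideal.subset_span ⟨z, hz, rfl⟩, hpa z⟩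
      | zero => exact ⟨0, zero_mem _, by simp⟩
      | add a b _ _ ha hb =>
        obtain ⟨p, hp, hpz⟩ := ha
        obtain ⟨q, hq, hqz⟩ := hb
        refine ⟨p + q, add_mem hp hq, ?_⟩
        rw [map_add, add_sub_add_comm]
        exact add_mem hpz hqz
      | smul c a _ ha =>
        obtain ⟨p, hp, hpz⟩ := ha
        refine ⟨pa c * p, Ideal.mul_mem_left _ _ hp, ?_⟩
        rw [map_mul, smul_eq_mul, show c * a - algebraMap P Ph (pa c) * algebraMap P Ph p =
          c * (a - algebraMap P Ph p) + (c - algebraMap P Ph (pa c)) * algebraMap P Ph p by ring]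
        exact add_mem (Ideal.mul_mem_left _ _ hpz) (Ideal.mul_mem_right _ _ (hpa c))
    obtain ⟨p, hp, hpz⟩ := key _ hk
    have : algebraMap P Ph (x - p) ∈ I.map (algebraMap R Ph) ^ N := by
      rw [map_sub, show algebraMap P Ph x - algebraMap P Ph p = (algebraMap P Ph x - w - algebraMap P Ph p) + w by ring]
      refine add_mem hpz ?_
      rw [← Ideal.map_pow]; exact hw
    have := Ideal.add_mem J (Ideal.mem_sup_right (mem_map_pow_of_algebraMap_mem N _ this))
      (Ideal.mem_sup_left hp)
    rwa [sub_add_cancel] at this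
  · rintro _ ⟨z, hz, rfl⟩
    refine Ideal.Quotient.eq_zero_iff_mem.mpr ?_
    change φ (algebraMap P Ph (pa z)) ∈ _
    have hz0 : φ z = 0 := (hS ▸ Submodule.subset_span hz : z ∈ RingHom.ker φ.toRingHom)
    have := map_pow_le φ N (hpa z)
    rw [Ideal.mem_comap, map_sub, ← Ideal.map_pow] at this
    change φ z - φ (algebraMap P Ph (pa z)) ∈ _ at this
    rwa [hz0, zero_sub, neg_mem_iff] at this
  · rw [← Ideal.map_pow, Ideal.map_le_iff_le_comap]
    intro a ha
    refine Ideal.Quotient.eq_zero_iff_mem.mpr ?_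
    change φ (algebraMap P Ph (algebraMap R P a)) ∈ _
    rw [← IsScalarTower.algebraMap_apply, φ.commutes]
    exact Ideal.mem_map_of_mem _ ha

end Criterion

theorem topFinitePresentation_of_truncs (hR : AdicRing.IsBase R I) {A : Type u} [CommRing A] [Algebra R A]
    [IsAdicComplete (I.map (algebraMap R A)) A]
    (h : ∀ N : ℕ, Algebra.FinitePresentation R (A ⧸ (I ^ (N + 1)).map (algebraMap R A))) :
    AdicRing.TopFinitePresentation R I A := by
  classical
  have hI := isBase_fg hR
  have h0 : Algebra.FiniteType R (A ⧸ I.map (algebraMap R A)) := by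
    have := h 0
    rw [zero_add, pow_one] at this
    infer_instance
  obtain ⟨n, φ, hφ⟩ := topFiniteType_exists_compl (topFiniteType_of_finiteType_quotient hI h0)
  refine ⟨n, φ, hφ, ?_⟩
  let P := MvPolynomial (Fin n) R
  let Ph := Compl I P
  obtain ⟨hc, ⟨hN, -⟩ | ⟨hdom, hpre, hdim, t, ht, rfl⟩⟩ := id hR
  · have := isNoetherianRing_compl (I := I) (R := R) n
    exact IsNoetherian.noetherian (R := Ph) (M := Ph) (RingHom.ker φ.toRingHom)
  obtain ⟨K', c, hKK', hK'fg, hs, hc'⟩ := exists_saturation hR (A := Ph)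
    ⟨n, AlgHom.id R Ph, Function.surjective_id⟩ (M := Ph) (RingHom.ker φ.toRingHom)
  have := h c
  have hfg := Algebra.FinitePresentation.ker_fG_of_surjective _ (mk_comp_surjective hI φ hφ (c + 1))
  obtain ⟨G, hG⟩ := hfg
  let τ := algebraMap R Ph t
  have hlift : ∀ g : P, g ∈ G → ∃ k : Ph, φ k = 0 ∧ ∃ y, algebraMap P Ph g = k + τ ^ (c + 1) * y := fun g hg ↦ by
    have hg0 : g ∈ Ideal.span (G : Set P) := Submodule.subset_span hg
    rw [hG] at hg0
    have hg' : φ (algebraMap P Ph g) ∈ ((Ideal.span {t}) ^ (c + 1)).map (algebraMap R A) :=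
      Ideal.Quotient.eq_zero_iff_mem.mp hg0
    rw [Ideal.span_singleton_pow, Ideal.map_span, Set.image_singleton, Ideal.mem_span_singleton] at hg'
    obtain ⟨a, ha⟩ := hg'
    obtain ⟨y, rfl⟩ := hφ a
    refine ⟨algebraMap P Ph g - τ ^ (c + 1) * y, ?_, y, (sub_add_cancel _ _).symm⟩
    rw [map_sub, ha, map_mul, map_pow, map_pow]
    rw [show φ τ = algebraMap R A t from φ.commutes t, sub_self]
  choose k hk y hy using hlift
  let K₁ : Ideal Ph := Ideal.span ((G.attach.image fun g ↦ k g.1 g.2 : Finset Ph) : Set Ph)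
  let K₂ : Ideal Ph := K'.map (LinearMap.lsmul Ph Ph (τ ^ c))
  have hK : RingHom.ker φ.toRingHom = K₁ ⊔ K₂ := by
    refine le_antisymm (fun x hx ↦ ?_) (sup_le (Ideal.span_le.mpr fun z hz ↦ ?_) ?_)
    · obtain ⟨p, hp⟩ := exists_sub_mem_pow (P := P) hI x (c + 1)
      obtain ⟨w, hw⟩ := mem_map_span_pow.mp hp
      have hpG : p ∈ Submodule.span P (G : Set P) := by
        show p ∈ Ideal.span (G : Set P)
        rw [hG]
        refine Ideal.Quotient.eq_zero_iff_mem.mpr ?_
        change φ (algebraMap P Ph p) ∈ _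
        rw [show algebraMap P Ph p = x - algebraMap R Ph (t ^ (c + 1)) * w by rw [← hw]; ring,
          map_sub, show φ x = 0 from hx, zero_sub, map_mul, φ.commutes, neg_mem_iff]
        exact Ideal.mul_mem_right _ _ (Ideal.mem_map_of_mem _
          (Ideal.span_singleton_pow t (c + 1) ▸ Ideal.mem_span_singleton_self _))
      have key : ∀ q ∈ Submodule.span P (G : Set P), ∃ u ∈ K₁, ∃ z, algebraMap P Ph q = u + τ ^ (c + 1) * z := by
        intro q hq
        induction hq using Submodule.span_induction with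
        | mem g hg =>
          exact ⟨_, Ideal.subset_span (Finset.mem_coe.mpr (Finset.mem_image_of_mem
            (fun g : G ↦ k g.1 g.2) (Finset.mem_attach G ⟨g, hg⟩))), _, hy g hg⟩
        | zero => exact ⟨0, zero_mem _, 0, by simp⟩
        | add a b _ _ ha hb =>
          obtain ⟨u, hu, z, hz⟩ := ha
          obtain ⟨v, hv, z', hz'⟩ := hb
          exact ⟨u + v, add_mem hu hv, z + z', by rw [map_add, hz, hz']; ring⟩
        | smul d a _ ha =>
          obtain ⟨u, hu, z, hz⟩ := ha
          exact ⟨algebraMap P Ph d * u, Ideal.mul_mem_left _ _ hu, algebraMap P Ph d * z,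
            by rw [smul_eq_mul, map_mul, hz]; ring⟩
      obtain ⟨u, hu, z, hz⟩ := key p hpG
      have hu0 : φ u = 0 := (Ideal.span_le.mpr (fun a ha ↦ by
        simp only [Finset.coe_image, Set.mem_image] at ha
        obtain ⟨g, -, rfl⟩ := ha
        exact hk g.1 g.2) : K₁ ≤ RingHom.ker φ.toRingHom) hu
      have hx' : x - u = τ ^ (c + 1) * (z + w) := by
        rw [map_pow, sub_eq_iff_eq_add, hz] at hw
        rw [hw]; ring
      have hzK : z + w ∈ K' := by
        refine hs _ (c + 1) (hKK' ?_)
        rw [smul_eq_mul, ← hx']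
        change φ (x - u) = 0
        rw [map_sub, hu0, sub_zero]; exact hx
      rw [← sub_add_cancel x u]
      refine add_mem (Submodule.mem_sup_right ⟨τ * (z + w), Ideal.mul_mem_left _ _ hzK, ?_⟩)
        (Submodule.mem_sup_left hu)
      change τ ^ c * (τ * (z + w)) = x - u
      rw [hx', pow_succ, mul_assoc]
    · simp only [Finset.coe_image, Set.mem_image] at hz
      obtain ⟨g, -, rfl⟩ := hz
      exact hk g.1 g.2
    · rintro _ ⟨z, hz, rfl⟩
      exact hc' z hz
  change (RingHom.ker φ.toRingHom).FG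
  rw [hK]
  exact Submodule.FG.sup ⟨_, rfl⟩ (Submodule.FG.map _ hK'fg)

theorem quotientMap_finitePresentation_iff (hI : I.FG) {A : Type v} [CommRing A] [Algebra R A] (N : ℕ) :
    (Ideal.quotientMap ((I ^ N).map (algebraMap R A)) (algebraMap R A) Ideal.le_comap_map).FinitePresentation ↔
      Algebra.FinitePresentation R (A ⧸ (I ^ N).map (algebraMap R A)) := by
  rw [← RingHom.finitePresentation_algebraMap]
  have hmk : (Ideal.Quotient.mk (I ^ N)).FinitePresentation :=
    RingHom.FinitePresentation.of_surjective _ Ideal.Quotient.mk_surjective (by rw [Ideal.mk_ker]; exact hI.pow)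
  have hcomp : (Ideal.quotientMap ((I ^ N).map (algebraMap R A)) (algebraMap R A) Ideal.le_comap_map).comp
      (Ideal.Quotient.mk (I ^ N)) = algebraMap R (A ⧸ (I ^ N).map (algebraMap R A)) := rfl
  rw [← hcomp]
  exact ⟨fun h ↦ h.comp hmk,
    fun h ↦ h.of_comp_finiteType _ (RingHom.FiniteType.of_surjective _ Ideal.Quotient.mk_surjective)⟩

section Away

variable {A : Type v} [CommRing A] [Algebra R A]

theorem exists_algEquiv_trunc (hI : I.FG) (P : Type w) [CommRing P] [Algebra R P] (N : ℕ) :
    Nonempty ((P ⧸ (I ^ N).map (algebraMap R P)) ≃ₐ[R]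
      (Compl I P ⧸ (I ^ N).map (algebraMap R (Compl I P)))) := by
  let ι : (P ⧸ (I ^ N).map (algebraMap R P)) →ₐ[R] (Compl I P ⧸ (I ^ N).map (algebraMap R (Compl I P))) :=
    Ideal.quotientMapₐ _ (IsScalarTower.toAlgHom R P (Compl I P)) (by
      rw [Ideal.map_pow, Ideal.map_pow]
      exact map_pow_le (IsScalarTower.toAlgHom R P (Compl I P)) N)
  refine ⟨AlgEquiv.ofBijective ι ⟨(injective_iff_map_eq_zero ι).mpr fun x hx ↦ ?_, fun y ↦ ?_⟩⟩
  · obtain ⟨p, rfl⟩ := Ideal.Quotient.mk_surjective x
    change Ideal.Quotient.mk _ (algebraMap P (Compl I P) p) = 0 at hx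
    rw [Ideal.Quotient.eq_zero_iff_mem, Ideal.map_pow] at hx
    rw [Ideal.Quotient.eq_zero_iff_mem, Ideal.map_pow]
    exact mem_map_pow_of_algebraMap_mem N p hx
  · obtain ⟨x, rfl⟩ := Ideal.Quotient.mk_surjective y
    obtain ⟨p, hp⟩ := exists_sub_mem_pow hI x N
    refine ⟨Ideal.Quotient.mk _ p, (Ideal.Quotient.eq.mpr ?_).symm⟩
    rw [Ideal.map_pow]
    exact hp

theorem isLocalization_away_quotient (f : A) (K : Ideal A) :
    IsLocalization.Away (Ideal.Quotient.mk K f)
      (Localization.Away f ⧸ K.map (algebraMap A (Localization.Away f))) := by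
  have : IsLocalization (Algebra.algebraMapSubmonoid (A ⧸ K) (Submonoid.powers f))
      (Localization.Away f ⧸ K.map (algebraMap A (Localization.Away f))) := inferInstance
  rwa [Algebra.algebraMapSubmonoid, Submonoid.map_powers] at this

theorem exists_algEquiv_away_trunc (hI : I.FG) (f : A) (N : ℕ) :
    Nonempty (Localization.Away (Ideal.Quotient.mk ((I ^ N).map (algebraMap R A)) f) ≃ₐ[R]
      (AdicRing.CLoc I f ⧸ (I ^ N).map (algebraMap R (AdicRing.CLoc I f)))) := by
  obtain ⟨e⟩ := exists_algEquiv_trunc (I := I) hI (Localization.Away f) N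
  have hK : ((I ^ N).map (algebraMap R A)).map (algebraMap A (Localization.Away f)) =
      (I ^ N).map (algebraMap R (Localization.Away f)) := by
    rw [Ideal.map_map, ← IsScalarTower.algebraMap_eq]
  have := isLocalization_away_quotient f ((I ^ N).map (algebraMap R A))
  have : IsScalarTower R (A ⧸ (I ^ N).map (algebraMap R A))
      (Localization.Away f ⧸ ((I ^ N).map (algebraMap R A)).map (algebraMap A (Localization.Away f))) :=
    IsScalarTower.of_algebraMap_eq fun r ↦ by
      change Ideal.Quotient.mk _ (algebraMap R (Localization.Away f) r) = Ideal.Quotient.mk _ (algebraMap A _ (algebraMap R A r))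
      rw [← IsScalarTower.algebraMap_apply]
  let e1 := IsLocalization.algEquiv (Submonoid.powers (Ideal.Quotient.mk ((I ^ N).map (algebraMap R A)) f))
    (Localization.Away (Ideal.Quotient.mk ((I ^ N).map (algebraMap R A)) f))
    (Localization.Away f ⧸ ((I ^ N).map (algebraMap R A)).map (algebraMap A (Localization.Away f)))
  exact ⟨((e1.restrictScalars R).trans (Ideal.quotientEquivAlgOfEq R hK)).trans e⟩

end Away

end Groth.Agent.AdicRingLib
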