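import Mathlib
import Groth.Agent.AdicRingLib.RigTfae

/-!
Unramifiedness from an unramified reduction, for adically complete algebras.
-/

set_option autoImplicit false
universe u

namespace Groth.Agent.AdicRingLib.UnramifiedRed

open scoped TensorProduct

theorem formallyUnramified_of_quotient {A D : Type u} [CommRing A] [CommRing D] [Algebra A D]
    [Algebra.EssFiniteType A D] (I : Ideal A) (h : I.map (algebraMap A D) ≤ (⊥ : Ideal D).jacobson)
    [Algebra.FormallyUnramified A (D ⧸ I.map (algebraMap A D))] : Algebra.FormallyUnramified A D := by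
  classical
  set J := I.map (algebraMap A D) with hJ
  have hsurj : Function.Surjective (algebraMap D (D ⧸ J)) := Ideal.Quotient.mk_surjective
  have hzero : ∀ x ∈ J, (1 : D ⧸ J) ⊗ₜ[D] (KaehlerDifferential.D A D x) = 0 := by
    intro x hx
    rw [hJ] at hx
    refine Submodule.span_induction ?_ ?_ ?_ ?_ hx
    · rintro _ ⟨i, -, rfl⟩
      simp
    · simp
    · intro a b _ _ ha hb
      rw [map_add, TensorProduct.tmul_add, ha, hb, add_zero]
    · intro r a ha hra
      have h0 : (algebraMap D (D ⧸ J)) a = 0 := Ideal.Quotient.eq_zero_iff_mem.2 ha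
      rw [smul_eq_mul, Derivation.leibniz, TensorProduct.tmul_add, TensorProduct.tmul_smul, hra, smul_zero, zero_add,
        TensorProduct.tmul_smul, TensorProduct.smul_tmul', ← Algebra.algebraMap_eq_smul_one, h0, TensorProduct.zero_tmul]
  have hsub : Subsingleton ((D ⧸ J) ⊗[D] Ω[D⁄A]) := by
    refine subsingleton_of_forall_eq 0 fun z => ?_
    obtain ⟨c, hc⟩ := (KaehlerDifferential.exact_kerCotangentToTensor_mapBaseChange A D (D ⧸ J) hsurj z).1
      (Subsingleton.elim _ _)
    obtain ⟨c, rfl⟩ := Ideal.toCotangent_surjective _ c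
    rw [← hc, KaehlerDifferential.kerCotangentToTensor_toCotangent]
    exact hzero _ (by simpa using c.2)
  have htop : (⊤ : Submodule D Ω[D⁄A]) ≤ J • ⊤ := by
    intro w _
    rw [← Submodule.Quotient.mk_eq_zero]
    let e := TensorProduct.quotTensorEquivQuotSMul (Ω[D⁄A]) J
    obtain ⟨y, hy⟩ := e.surjective (Submodule.Quotient.mk w)
    rw [← hy, Subsingleton.elim y 0, map_zero]
  refine ⟨(Submodule.subsingleton_iff D).1 (subsingleton_iff_bot_eq_top.1 ?_)⟩
  exact (Submodule.eq_bot_of_le_smul_of_le_jacobson_bot J ⊤ Module.Finite.fg_top htop h).symm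

end Groth.Agent.AdicRingLib.UnramifiedRed
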